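import Cfsg.Agent.EqLemmas
import Cfsg.Agent.Lib.CrossChar.Weights

/-
Eigenspaces of a one-parameter subgroup in a complex representation, and invariant Hermitian forms.

* `psi F`: a non-trivial additive character; `psi_sum`, `psi_inj`.
* `Ev ρ x c`: vectors with `x t v = ψ (c t) v`; `Pr ρ x c`: the averaging projection onto it.
* `Herm ρ`: an invariant positive definite sesquilinear form; `exists_herm`.
-/

set_option autoImplicit false
set_option linter.unusedSectionVars false

namespace Cfsg.Agent.MinRep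

open Module
open scoped ComplexConjugate

variable (F : Type*) [Field F] [Fintype F]

theorem exists_psi : ∃ ψ : AddChar F ℂ, ψ ≠ 1 := by
  refine CrossChar.exists_ne_one_addChar F ℂ ?_
  rw [ringChar.eq_zero]
  exact (CharP.ringChar_ne_zero_of_finite F).symm

/-- A fixed non-trivial additive character. -/
noncomputable def psi : AddChar F ℂ := (exists_psi F).choose

variable {F}

theorem psi_ne : psi F ≠ 1 := (exists_psi F).choose_spec

theorem psi_sum [DecidableEq F] (c : F) : ∑ t : F, psi F (c * t) = if c = 0 then (Fintype.card F : ℂ) else 0 := by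
  split_ifs with h
  · simp [h]
  · exact AddChar.sum_eq_zero_of_ne_one (ψ := (psi F).mulShift c)
      ((AddChar.IsPrimitive.of_ne_one psi_ne) h)

theorem psi_inj {c d : F} (h : ∀ t, psi F (c * t) = psi F (d * t)) : c = d := by
  by_contra hcd
  refine (AddChar.IsPrimitive.of_ne_one (psi_ne (F := F))) (sub_ne_zero.2 hcd) (AddChar.ext _ _ fun t => ?_)
  rw [AddChar.mulShift_apply, AddChar.one_apply, sub_mul, AddChar.map_sub_eq_div, h,
    div_self (AddChar.val_isUnit _ _).ne_zero]

theorem conj_psi (t : F) : conj (psi F t) = psi F (-t) := (AddChar.map_neg_eq_conj _ t).symm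

theorem q_ne : (Fintype.card F : ℂ) ≠ 0 := Nat.cast_ne_zero.2 Fintype.card_ne_zero

variable {G : Type*} [Group G] {V : Type*} [AddCommGroup V] [Module ℂ V] (ρ : Representation ℂ G V)

theorem rmul (g h : G) (v : V) : ρ (g * h) v = ρ g (ρ h v) := by rw [map_mul, Module.End.mul_apply]

theorem rinv (g : G) (v : V) : ρ g⁻¹ (ρ g v) = v := by
  rw [← rmul, inv_mul_cancel, map_one, Module.End.one_apply]

theorem rinv' (g : G) (v : V) : ρ g (ρ g⁻¹ v) = v := by
  rw [← rmul, mul_inv_cancel, map_one, Module.End.one_apply]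

theorem rinj (g : G) : Function.Injective (ρ g) := fun a b h => by
  rw [← rinv ρ g a, h, rinv ρ g b]

/-- Vectors on which the one-parameter group `x` acts by `t ↦ ψ (c t)`. -/
def Ev (x : F → G) (c : F) : Submodule ℂ V where
  carrier := {v | ∀ t, ρ (x t) v = psi F (c * t) • v}
  add_mem' {a b} ha hb t := by rw [map_add, ha t, hb t, smul_add]
  zero_mem' t := by simp
  smul_mem' a v hv t := by rw [map_smul, hv t, smul_comm]

theorem mem_Ev {x : F → G} {c : F} {v : V} : v ∈ Ev ρ x c ↔ ∀ t, ρ (x t) v = psi F (c * t) • v := Iff.rfl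

theorem mem_Ev_zero {x : F → G} {v : V} : v ∈ Ev ρ x 0 ↔ ∀ t, ρ (x t) v = v :=
  forall_congr' fun t => by rw [zero_mul, AddChar.map_zero_eq_one, one_smul]

/-- The averaging projection onto `Ev ρ x c`. -/
noncomputable def Pr (x : F → G) (c : F) : V →ₗ[ℂ] V :=
  (Fintype.card F : ℂ)⁻¹ • ∑ t : F, psi F (-(c * t)) • ρ (x t)

theorem Pr_apply (x : F → G) (c : F) (v : V) :
    Pr ρ x c v = (Fintype.card F : ℂ)⁻¹ • ∑ t : F, psi F (-(c * t)) • ρ (x t) v := by
  simp [Pr]

variable {x : F → G} (hx : ∀ s t, x (s + t) = x s * x t)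

theorem Pr_mapsTo {W : Submodule ℂ V} (hW : ∀ t, ∀ w ∈ W, ρ (x t) w ∈ W) {c : F} {v : V} (hv : v ∈ W) :
    Pr ρ x c v ∈ W := by
  rw [Pr_apply]
  exact W.smul_mem _ (W.sum_mem fun t _ => W.smul_mem _ (hW t v hv))

theorem Pr_comm {g : G} {y : F → G} {a : F} (ha : a ≠ 0) (hg : ∀ t, g * x t = y (a * t) * g) (c : F) (v : V) :
    ρ g (Pr ρ x c v) = Pr ρ y (c / a) (ρ g v) := by
  rw [Pr_apply, Pr_apply, map_smul, map_sum]
  congr 1
  refine Fintype.sum_equiv (Equiv.mulLeft₀ a ha) _ _ fun t => ?_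
  rw [map_smul, Equiv.mulLeft₀_apply, ← rmul, hg, rmul, show c / a * (a * t) = c * t by field_simp]

theorem Pr_zero_comm {g : G} {y : F → G} {a : F} (ha : a ≠ 0) (hg : ∀ t, g * x t = y (a * t) * g) (v : V) :
    ρ g (Pr ρ x 0 v) = Pr ρ y 0 (ρ g v) := by rw [Pr_comm ρ ha hg, zero_div]

theorem Ev_comm {g : G} {y : F → G} {a : F} (ha : a ≠ 0) (hg : ∀ t, g * x t = y (a * t) * g) {c : F} {v : V}
    (hv : v ∈ Ev ρ x c) : ρ g v ∈ Ev ρ y (c / a) := fun t => by
  rw [show t = a * (t / a) by field_simp, ← rmul, ← hg, rmul, hv, map_smul,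
    show c / a * (a * (t / a)) = c * (t / a) by field_simp]

include hx

theorem Pr_rep (c : F) (s : F) (v : V) : Pr ρ x c (ρ (x s) v) = psi F (c * s) • Pr ρ x c v := by
  rw [Pr_apply, Pr_apply, smul_comm (psi F (c * s)), Finset.smul_sum (s := Finset.univ) (r := psi F (c * s))]
  congr 1
  refine Fintype.sum_equiv (Equiv.addRight s) _ _ fun t => ?_
  rw [Equiv.coe_addRight, ← rmul, ← hx, smul_smul, ← AddChar.map_add_eq_mul]
  congr 2
  ring

theorem rep_Pr (c : F) (s : F) (v : V) : ρ (x s) (Pr ρ x c v) = Pr ρ x c (ρ (x s) v) := by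
  rw [Pr_apply, Pr_apply, map_smul, map_sum]
  congr 1
  refine Finset.sum_congr rfl fun t _ => ?_
  rw [map_smul, ← rmul, ← rmul, ← hx, ← hx, add_comm]

theorem Pr_mem (c : F) (v : V) : Pr ρ x c v ∈ Ev ρ x c := fun s => by
  rw [rep_Pr ρ hx, Pr_rep ρ hx]

theorem Pr_self {c : F} {v : V} (hv : v ∈ Ev ρ x c) : Pr ρ x c v = v := by
  rw [Pr_apply, Finset.sum_congr rfl fun t _ => by rw [hv t, smul_smul, ← AddChar.map_add_eq_mul,
    neg_add_cancel, AddChar.map_zero_eq_one, one_smul], Finset.sum_const, Finset.card_univ,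
    ← Nat.cast_smul_eq_nsmul ℂ, smul_smul, inv_mul_cancel₀ q_ne, one_smul]

theorem Pr_other {c d : F} (hcd : c ≠ d) {v : V} (hv : v ∈ Ev ρ x d) : Pr ρ x c v = 0 := by
  classical
  rw [Pr_apply, Finset.sum_congr rfl fun t _ => show psi F (-(c * t)) • ρ (x t) v = psi F ((d - c) * t) • v by
    rw [hv t, smul_smul, ← AddChar.map_add_eq_mul]; congr 2; ring]
  rw [← Finset.sum_smul, psi_sum, if_neg (sub_ne_zero.2 hcd.symm), zero_smul, smul_zero]

theorem sum_Pr (v : V) : ∑ c : F, Pr ρ x c v = v := by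
  classical
  simp only [Pr_apply]
  rw [← Finset.smul_sum, Finset.sum_comm]
  simp only [← Finset.sum_smul]
  rw [Finset.sum_eq_single (0 : F)]
  · have h0 : x 0 = 1 := mul_eq_left.1 (show x 0 * x 0 = x 0 by rw [← hx, add_zero])
    simp [h0, smul_smul, Finset.card_univ, inv_mul_cancel₀ (q_ne (F := F))]
  · intro t _ ht
    rw [show (∑ c : F, psi F (-(c * t))) = ∑ c : F, psi F (-t * c) from
      Finset.sum_congr rfl fun c _ => by rw [neg_mul, mul_comm], psi_sum, if_neg (neg_ne_zero.2 ht), zero_smul]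
  · exact fun h => absurd (Finset.mem_univ _) h

theorem Pr_zero_fixed {v : V} (hv : ∀ t, ρ (x t) v = v) : Pr ρ x 0 v = v :=
  Pr_self ρ hx ((mem_Ev_zero ρ).2 hv)

/-- Independence of the eigenspaces. -/
theorem sum_finrank_le [FiniteDimensional ℂ V] (W : Submodule ℂ V) (E : F → Submodule ℂ V)
    (hE : ∀ c, E c ≤ W ⊓ Ev ρ x c) : ∑ c, finrank ℂ (E c) ≤ finrank ℂ W := by
  classical
  let Φ : ((c : F) → E c) →ₗ[ℂ] V := ∑ c, (E c).subtype ∘ₗ LinearMap.proj c
  have hΦ : ∀ f, Φ f = ∑ c, (f c : V) := fun f => by simp [Φ]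
  have hinj : Function.Injective Φ := by
    refine LinearMap.ker_eq_bot.1 (LinearMap.ker_eq_bot'.2 fun f hf => funext fun c => Subtype.ext ?_)
    have := congrArg (Pr ρ x c) ((hΦ f).symm.trans hf)
    rw [map_sum, map_zero, Finset.sum_eq_single c (fun d _ hd => Pr_other ρ hx hd.symm (hE d (f d).2).2)
      (fun h => absurd (Finset.mem_univ c) h), Pr_self ρ hx (hE c (f c).2).2] at this
    exact this
  have h1 : LinearMap.range Φ ≤ W := by
    rintro _ ⟨f, rfl⟩
    rw [hΦ]
    exact W.sum_mem fun c _ => (hE c (f c).2).1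
  have h2 := Submodule.finrank_mono h1
  rwa [LinearMap.finrank_range_of_inj hinj, Module.finrank_pi_fintype] at h2

omit hx

/-! ### Invariant forms -/

/-- An invariant positive definite Hermitian form, linear in the second argument. -/
structure Herm where
  B : V → V →ₗ[ℂ] ℂ
  symm : ∀ u v, conj (B u v) = B v u
  pos : ∀ v, v ≠ 0 → 0 < (B v v).re
  inv : ∀ g u v, B (ρ g u) (ρ g v) = B u v

theorem exists_herm [Finite G] [FiniteDimensional ℂ V] : Nonempty (Herm ρ) := by
  classical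
  haveI := Fintype.ofFinite G
  let b := Module.finBasis ℂ V
  refine ⟨⟨fun u =>
    { toFun := fun v => ∑ g : G, ∑ i, conj (b.repr (ρ g u) i) * b.repr (ρ g v) i
      map_add' := fun v w => by simp [mul_add, Finset.sum_add_distrib]
      map_smul' := fun c v => by simp [Finset.mul_sum, mul_left_comm] }, fun u v => ?_, fun v hv => ?_,
    fun g u v => ?_⟩⟩
  · simp [map_sum, mul_comm]
  · simp only [LinearMap.coe_mk, AddHom.coe_mk, Complex.re_sum, ← Complex.normSq_eq_conj_mul_self,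
      Complex.ofReal_re]
    obtain ⟨i, hi⟩ : ∃ i, b.repr v i ≠ 0 := by
      by_contra! h
      exact hv (b.repr.map_eq_zero_iff.1 (Finsupp.ext h))
    refine Finset.sum_pos' (fun g _ => Finset.sum_nonneg fun i _ => Complex.normSq_nonneg _)
      ⟨1, Finset.mem_univ _, ?_⟩
    refine Finset.sum_pos' (fun i _ => Complex.normSq_nonneg _) ⟨i, Finset.mem_univ _, ?_⟩
    rw [map_one, Module.End.one_apply]
    exact Complex.normSq_pos.2 hi
  · refine Fintype.sum_equiv (Equiv.mulRight g) _ _ fun h => ?_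
    simp only [Equiv.coe_mulRight, rmul]

namespace Herm

variable {ρ} (H : Herm ρ)

theorem zero_left (v : V) : H.B 0 v = 0 := by rw [← H.symm, map_zero, map_zero]

theorem add_left (u u' v : V) : H.B (u + u') v = H.B u v + H.B u' v := by
  rw [← H.symm, map_add, map_add, H.symm, H.symm]

theorem smul_left (c : ℂ) (u v : V) : H.B (c • u) v = conj c * H.B u v := by
  rw [← H.symm, map_smul, smul_eq_mul, map_mul, H.symm]

theorem sub_left (u u' v : V) : H.B (u - u') v = H.B u v - H.B u' v := by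
  rw [← H.symm, map_sub, map_sub, H.symm, H.symm]

theorem sum_left {ι : Type*} (s : Finset ι) (f : ι → V) (v : V) :
    H.B (∑ i ∈ s, f i) v = ∑ i ∈ s, H.B (f i) v := by
  rw [← H.symm, map_sum, map_sum, Finset.sum_congr rfl fun i _ => H.symm v (f i)]

theorem self_re (v : V) : ((H.B v v).re : ℂ) = H.B v v :=
  (Complex.conj_eq_iff_re.1 (H.symm v v))

theorem self_nonneg (v : V) : 0 ≤ (H.B v v).re := by
  rcases eq_or_ne v 0 with rfl | h
  · rw [map_zero]; exact le_rfl
  · exact (H.pos v h).le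

theorem self_ne {v : V} (hv : v ≠ 0) : H.B v v ≠ 0 := fun h => by
  have := H.pos v hv
  rw [h] at this
  exact lt_irrefl _ this

theorem eq_zero {v : V} (h : H.B v v = 0) : v = 0 := by_contra fun hv => H.self_ne hv h

theorem inv_left (g : G) (u v : V) : H.B (ρ g u) v = H.B u (ρ g⁻¹ v) := by
  conv_lhs => rw [← rinv' ρ g v, H.inv]

theorem inv_right (g : G) (u v : V) : H.B u (ρ g v) = H.B (ρ g⁻¹ u) v := by
  conv_lhs => rw [← rinv' ρ g u, H.inv]

theorem orth {x : F → G} {c d : F} (hcd : c ≠ d) {u v : V} (hu : u ∈ Ev ρ x c) (hv : v ∈ Ev ρ x d) :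
    H.B u v = 0 := by
  by_contra h
  refine hcd (psi_inj fun t => ?_)
  have h1 := H.inv (x t) u v
  rw [hu t, hv t, H.smul_left, map_smul, smul_eq_mul, ← mul_assoc, conj_psi] at h1
  have h2 : psi F (-(c * t)) * psi F (d * t) = 1 := mul_right_cancel₀ h (h1.trans (one_mul _).symm)
  rw [AddChar.map_neg_eq_inv, inv_mul_eq_one₀ (AddChar.val_isUnit _ _).ne_zero] at h2
  exact h2

theorem Pr_adjoint {x : F → G} (hx : ∀ s t, x (s + t) = x s * x t) (c : F) (u v : V) :
    H.B (Pr ρ x c u) v = H.B u (Pr ρ x c v) := by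
  rw [Pr_apply, Pr_apply, H.smul_left, map_smul, smul_eq_mul, H.sum_left, map_sum, map_inv₀, Complex.conj_natCast]
  congr 1
  refine Fintype.sum_equiv (Equiv.neg F) _ _ fun t => ?_
  have hneg : (x t)⁻¹ = x (-t) := inv_eq_of_mul_eq_one_right (by
    rw [← hx, add_neg_cancel]
    exact mul_eq_left.1 (show x 0 * x 0 = x 0 by rw [← hx, add_zero]))
  rw [H.smul_left, map_smul, smul_eq_mul, conj_psi, H.inv_left, hneg, Equiv.neg_apply, mul_neg, _root_.neg_neg]

end Herm

end Cfsg.Agent.MinRep
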