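import Cfsg.Agent.Lib.MinRep.Bound
import Cfsg.Agent.Lib.Chev.SimplyLaced
import Cfsg.Agent.Lib.ChevBN.Torus
import Cfsg.Agent.Lib.ChevSt.ConjMat

/-
The simply-laced Chevalley groups as systems of root subgroups.

* `chevSys`: the system of `D.group F` from `SLData D v γ`.
* `nontrivial_of_irreducible`.
-/

set_option autoImplicit false
set_option linter.unusedSectionVars false

namespace Cfsg.Agent.MinRep

open Cfsg.Lie Cfsg.Lie.ChevalleyDatum Cfsg.Agent.Chev Cfsg.Agent.ChevBN

variable {D : ChevalleyDatum} {v : ℕ → Fin D.rank → ℤ} {γ : ℕ → ℤ} (F : Type*) [Field F]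

/-- The diagonal elements as a homomorphism. -/
def dgHom (D : ChevalleyDatum) : (ℕ → Fˣ) →* GL D.Idx F where
  toFun χ := ⟨dg χ, dg χ⁻¹, by
      rw [dg, dg, Matrix.diagonal_mul_diagonal, ← Matrix.diagonal_one]
      congr 1
      funext a
      rcases a with i | q <;> simp, by
      rw [dg, dg, Matrix.diagonal_mul_diagonal, ← Matrix.diagonal_one]
      congr 1
      funext a
      rcases a with i | q <;> simp⟩
  map_one' := by
    refine Units.ext ?_
    change dg (1 : ℕ → Fˣ) = (1 : Matrix D.Idx D.Idx F)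
    rw [dg, ← Matrix.diagonal_one]
    congr 1
    funext a
    rcases a with i | q <;> simp
  map_mul' χ ψ := by
    refine Units.ext ?_
    change dg (χ * ψ) = (dg χ * dg ψ : Matrix D.Idx D.Idx F)
    rw [dg, dg, dg, Matrix.diagonal_mul_diagonal]
    congr 1
    funext a
    rcases a with i | q <;> simp

theorem coe_dgHom (χ : ℕ → Fˣ) : ((dgHom F D χ : GL D.Idx F) : Matrix D.Idx D.Idx F) = dg χ := rfl

open Classical in
/-- The scalars of the torus element of `a` and `t`. -/
noncomputable def chi (D : ChevalleyDatum) (v : ℕ → Fin D.rank → ℤ) (a : Fin D.rank → ℤ) (t : F) : ℕ → Fˣ :=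
  fun s => if h : t = 0 then 1 else Units.mk0 t h ^ ipv (Matrix.of (cartanMat D)) a (v s)

theorem chi_val (a : Fin D.rank → ℤ) {t : F} (ht : t ≠ 0) (s : ℕ) :
    ((chi F D v a t s : Fˣ) : F) = t ^ ipv (Matrix.of (cartanMat D)) a (v s) := by
  simp [chi, ht]

variable (h : SLData D v γ) (hD : Good D)
include h hD

theorem v_simple {i : ℕ} (hi : i < D.rank) : v (D.simple i) = Pi.single ⟨i, hi⟩ 1 := funext fun j => by
  rw [← h.coroot_eq _ (hD.simple_lt i hi) j, hD.simple_coroot i hi j j.isLt, Pi.single_apply]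
  simp [Fin.ext_iff]

theorem pairing_ipv {r s : ℕ} (hr : r < D.nroots) (hs : s < D.nroots) :
    D.pairing r s = ipv (Matrix.of (cartanMat D)) (v r) (v s) := by
  rw [h.pairing_eq hr hs]
  simp only [ipv, dotProduct, Matrix.mulVec, Finset.mul_sum, Matrix.of_apply]
  exact Finset.sum_congr rfl fun i _ => Finset.sum_congr rfl fun j _ => by ring

/-- The torus scalars for which the diagonal element is in the group and scales the root elements. -/
def goodChi : Subgroup (ℕ → Fˣ) where
  carrier := {χ | dgHom F D χ ∈ D.group F ∧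
    ∀ s, s < D.nroots → ∀ u, dgHom F D χ * xg hD F s u = xg hD F s ((χ s : F) * u) * dgHom F D χ}
  one_mem' := ⟨by rw [map_one]; exact one_mem _, fun s _ u => by simp⟩
  mul_mem' := fun {χ ψ} hχ hψ => ⟨by rw [map_mul]; exact mul_mem hχ.1 hψ.1, fun s hs u => by
    rw [map_mul, mul_assoc, hψ.2 s hs, ← mul_assoc, hχ.2 s hs, mul_assoc, Pi.mul_apply, Units.val_mul, mul_assoc]⟩
  inv_mem' := fun {χ} hχ => ⟨by rw [map_inv]; exact inv_mem hχ.1, fun s hs u => by
    have h1 := hχ.2 s hs ((χ⁻¹ s : F) * u)
    rw [Pi.inv_apply, ← mul_assoc ((χ s : F)), ← Units.val_mul, mul_inv_cancel, Units.val_one, one_mul] at h1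
    rw [map_inv, inv_mul_eq_iff_eq_mul, ← mul_assoc, Pi.inv_apply, h1, mul_inv_cancel_right]⟩

theorem hg_eq_dgHom {r : ℕ} (hr : r < D.nroots) {t : F} (ht : t ≠ 0) :
    hg hD F r t = dgHom F D (fun s => Units.mk0 t ht ^ D.pairing r s) :=
  Units.ext (by rw [coe_hg]; exact hMat_eq_diag hD hr ht)

omit h in
theorem hg_mem {r : ℕ} {t : F} : hg hD F r t ∈ D.group F :=
  mul_mem (mul_mem (mul_mem (xg_mem_group hD _ _) (xg_mem_group hD _ _)) (xg_mem_group hD _ _))
    (mul_mem (mul_mem (xg_mem_group hD _ _) (xg_mem_group hD _ _)) (xg_mem_group hD _ _))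

theorem chi_mem_good (a : Fin D.rank → ℤ) (t : F) :
    (fun s => if s < D.nroots then chi F D v a t s else 1) ∈ goodChi F hD := by
  classical
  by_cases ht : t = 0
  · have : (fun s => if s < D.nroots then chi F D v a t s else 1) = (1 : ℕ → Fˣ) := funext fun s => by
      simp [chi, ht]
    rw [this]
    exact one_mem _
  have hfac : (fun s => if s < D.nroots then chi F D v a t s else 1) = ∏ i : Fin D.rank,
      (fun s => if s < D.nroots then Units.mk0 t ht ^ D.pairing (D.simple i) s else 1) ^ a i := by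
    funext s
    rw [Finset.prod_apply]
    simp only [Pi.pow_apply]
    by_cases hs : s < D.nroots
    · simp only [if_pos hs, chi, dif_neg ht, ← zpow_mul]
      rw [show ipv (Matrix.of (cartanMat D)) a (v s) = ∑ i : Fin D.rank, D.pairing (D.simple i) s * a i by
        rw [ipv, dotProduct]
        refine Finset.sum_congr rfl fun i _ => ?_
        rw [pairing_ipv h hD (hD.simple_lt i i.isLt) hs, v_simple h hD i.isLt, ipv, single_one_dotProduct]
        exact mul_comm _ _]
      induction (Finset.univ : Finset (Fin D.rank)) using Finset.induction_on with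
      | empty => simp
      | insert i T hi ih => rw [Finset.sum_insert hi, Finset.prod_insert hi, zpow_add, ih]
    · simp [if_neg hs]
  rw [hfac]
  refine prod_mem fun i _ => zpow_mem ?_ _
  have he : dgHom F D (fun s => if s < D.nroots then Units.mk0 t ht ^ D.pairing (D.simple i) s else 1) =
      hg hD F (D.simple i) t := by
    rw [hg_eq_dgHom F h hD (hD.simple_lt i i.isLt) ht]
    refine Units.ext ?_
    rw [coe_dgHom, coe_dgHom]
    simp only [dg]
    congr 1
    funext x
    rcases x with j | q <;> simp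
  refine ⟨he ▸ hg_mem F hD, fun s hs u => ?_⟩
  rw [he, hg_conj hD (hD.simple_lt i i.isLt) ht u]
  simp [hs, Units.val_zpow_eq_zpow_val]

omit h in
theorem xg_group (r : ℕ) (t : F) : xg hD F r t ∈ D.group F := xg_mem_group hD r t

/-- The root subgroups of a simply-laced Chevalley group. -/
noncomputable def chevSys (hsgn : ∀ r < D.nroots, 0 ≤ v r ∨ v r ≤ 0) :
    Sys ↥(D.group F) F (Fin D.nroots) D.rank where
  C := Matrix.of (cartanMat D)
  C_symm i j := h.symm i j
  co r := v r
  co_inj r s e := Fin.ext (h.v_inj r.isLt s.isLt (congrFun e))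
  ng r := ⟨D.neg r, h.neg_lt r r.isLt⟩
  co_ng r := funext fun i => h.v_neg r r.isLt i
  simple i := ⟨D.simple i, hD.simple_lt i i.isLt⟩
  co_simple i := v_simple h hD i.isLt
  sgn r := hsgn r r.isLt
  self r := by rw [← pairing_ipv h hD r.isLt r.isLt, h.pairing_self r r.isLt]
  range r s h₁ h₂ := by
    rw [← pairing_ipv h hD r.isLt s.isLt]
    rcases h.pairing_range r.isLt s.isLt (fun e => h₁ (Fin.ext e)) (fun e => h₂ (Fin.ext e)) with e | e | e <;> omega
  sum r s e := by
    rw [← pairing_ipv h hD r.isLt s.isLt] at e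
    obtain ⟨k, hk, hv, -⟩ := h.sum_root r.isLt s.isLt e
    exact ⟨⟨k, hk⟩, funext hv⟩
  x r t := ⟨xg hD F r t, xg_group F hD r t⟩
  x_add r t u := Subtype.ext (xg_add hD r.isLt t u).symm
  gen := by
    refine le_antisymm le_top fun g hg' => ?_
    clear hg'
    obtain ⟨g, hg⟩ := g
    induction hg using Subgroup.closure_induction with
    | mem y hy =>
      obtain ⟨r, t, hy⟩ := hy
      refine Subgroup.subset_closure ⟨r, t, Subtype.ext (Units.ext ?_)⟩
      simp [hy, ChevalleyDatum.x, r.isLt]
    | one => exact one_mem _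
    | mul a b ha hb iha ihb => exact mul_mem iha ihb
    | inv a ha iha => exact inv_mem iha
  comm r s h₁ h₂ t u := by
    refine Subtype.ext (Units.ext ?_)
    change D.x F r t * D.x F s u = D.x F s u * D.x F r t
    rw [← pairing_ipv h hD r.isLt s.isLt] at h₂
    by_cases hsr : (s : ℕ) = r
    · rw [hsr, hD.x_add r.isLt, hD.x_add r.isLt, add_comm]
    have h₃ : (s : ℕ) ≠ D.neg r := fun e => h₁ (Fin.ext e)
    have e : D.pairing r s = 0 ∨ D.pairing r s = 1 := by
      rcases h.pairing_range r.isLt s.isLt hsr h₃ with e | e | e <;> omega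
    have he := h.entry_nil r.isLt s.isLt e
    have he' : D.chainEntry s r = [] := h.entry_nil s.isLt r.isLt (by rwa [h.pairing_comm s.isLt r.isLt])
    have hct : D.commTerms r s = [] := by
      simp [ChevalleyDatum.commTerms, ChevalleyDatum.chainRoot, he, he']
    rw [hD.commutator r.isLt s.isLt hsr h₃ t u]
    simp [ChevalleyDatum.commWord, ChevalleyDatum.wordMat, hct]
  comm1 r s k hk := by
    have hv : ∀ i, v k i = v r i + v s i := congrFun hk
    have hv' : ∀ i, v k i = v s i + v r i := fun i => by rw [hv i]; ring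
    have hp := h.pairing_of_sum r.isLt s.isLt k.isLt hv
    obtain ⟨h₁, h₂⟩ := h.ne_of_pairing (s := (s : ℕ)) r.isLt (by omega) (by omega)
    have he := h.entry_sum r.isLt s.isLt k.isLt hv
    have hes := h.entry_sum s.isLt r.isLt k.isLt hv'
    have hct : D.commTerms r s = [((k : ℕ), sgn (nExp D v γ r s k), 1, 1)] := by
      simp [ChevalleyDatum.commTerms, ChevalleyDatum.chainRoot, ChevalleyDatum.chainM, he, hes]
    have hct' : D.commTerms s r = [((k : ℕ), sgn (nExp D v γ s r k), 1, 1)] := by
      simp [ChevalleyDatum.commTerms, ChevalleyDatum.chainRoot, ChevalleyDatum.chainM, he, hes]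
    have key : ∀ t u, ∃ w, D.x F r t * D.x F s u = D.x F s u * D.x F r t * D.x F k w ∧
        w = ((sgn (nExp D v γ s r k) : ℤ) : F) * (-u) * t := fun t u => by
      refine ⟨_, ?_, rfl⟩
      rw [hD.commutator s.isLt r.isLt (fun e => h₁ e.symm) (fun e => h₂ (by rw [e, hD.neg_neg _ s.isLt])) u t]
      simp [ChevalleyDatum.commWord, ChevalleyDatum.wordMat, hct', pow_one, mul_assoc]
    refine ⟨-((sgn (nExp D v γ s r k) : ℤ) : F), neg_ne_zero.2 ?_, fun t u => Subtype.ext (Units.ext ?_)⟩
    · rcases sgn_cases (nExp D v γ s r k) with e | e <;> simp [e]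
    change D.x F r t * D.x F s u = D.x F k _ * D.x F s u * D.x F r t
    have hcom : ∀ x : Fin D.nroots, (x = r ∨ x = s) → ∀ a b,
        D.x F x a * D.x F k b = D.x F k b * D.x F x a := by
      intro x hx a b
      have hpx : D.pairing x k = 1 := by
        rcases hx with rfl | rfl
        · rw [h.pairing_add x.isLt s.isLt k.isLt hv, h.pairing_self x x.isLt, hp]; rfl
        · rw [h.pairing_add r.isLt x.isLt k.isLt hv, h.pairing_self x x.isLt, h.pairing_comm x.isLt r.isLt, hp]; rfl
      obtain ⟨g₁, g₂⟩ := h.ne_of_pairing (s := (k : ℕ)) x.isLt (by omega) (by omega)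
      have hxe := h.entry_nil x.isLt k.isLt (Or.inr hpx)
      have hxe' : D.chainEntry k x = [] :=
        h.entry_nil k.isLt x.isLt (Or.inr (by rwa [h.pairing_comm k.isLt x.isLt]))
      have hx0 : D.commTerms x k = [] := by
        simp [ChevalleyDatum.commTerms, ChevalleyDatum.chainRoot, hxe, hxe']
      rw [hD.commutator x.isLt k.isLt g₁ g₂ a b]
      simp [ChevalleyDatum.commWord, ChevalleyDatum.wordMat, hx0]
    obtain ⟨w, hw1, hw2⟩ := key t u
    rw [hw1, mul_assoc, hcom r (Or.inl rfl), ← mul_assoc, hcom s (Or.inr rfl), hw2]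
    congr 3
    ring
  η r s := ((nSign D r s : ℤ) : F)
  η_ne r s := by
    by_cases e : (s : ℕ) = r ∨ (s : ℕ) = D.neg r
    · simp [nSign, e]
    push Not at e
    obtain ⟨-, -, -, -, -, -, hpm, -⟩ := hD.nword r r.isLt s s.isLt e.1 e.2
    rcases hpm with e | e <;> simp [e]
  η_ng r s := by
    rw [← Int.cast_mul, ← Int.cast_one]
    congr 1
    by_cases e : (s : ℕ) = r ∨ (s : ℕ) = D.neg r
    · have e' : D.neg s = r ∨ D.neg s = D.neg r := by
        rcases e with e | e
        · exact Or.inr (by rw [e])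
        · exact Or.inl (by rw [e, hD.neg_neg r r.isLt])
      simp [nSign, e, e']
    push Not at e
    obtain ⟨-, -, -, -, -, -, -, -, hns⟩ := hD.nword r r.isLt s s.isLt e.1 e.2
    exact hns
  conj r s k hk u := by
    have hk' : v k = v s - D.pairing r s • v r := by rw [pairing_ipv h hD r.isLt s.isLt]; exact hk
    have hrefl : Chev.refl D r s = k := by
      by_cases e1 : (s : ℕ) = r
      · rw [Chev.refl, if_pos e1]
        refine h.v_inj (h.neg_lt r r.isLt) k.isLt fun i => ?_
        rw [h.v_neg r r.isLt, hk', e1, h.pairing_self r r.isLt]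
        simp [two_mul]
      by_cases e2 : (s : ℕ) = D.neg r
      · rw [Chev.refl, if_neg e1, if_pos e2]
        refine h.v_inj r.isLt k.isLt fun i => ?_
        rw [hk', e2, h.pairing_neg r.isLt, h.pairing_self r r.isLt]
        simp [h.v_neg r r.isLt]
        ring
      obtain ⟨k', hk'', C, -, -, -, hr', hcase⟩ := h.nTerms_cases r.isLt s.isLt e1 e2
      rw [hr']
      refine h.v_inj hk'' k.isLt fun i => ?_
      rw [hk']
      rcases hcase with ⟨e, rfl, -⟩ | ⟨e, hvk, -⟩ | ⟨e, hvk, -⟩
      · simp [e]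
      · simp [hvk i, e, add_comm]
      · simp [hvk i, e, h.v_neg r r.isLt]
        ring
    refine Subtype.ext (Units.ext ?_)
    have h1 : ∀ t : F, ((nW (fun (r : Fin D.nroots) t => (⟨xg hD F r t, xg_group F hD r t⟩ : ↥(D.group F)))
        (fun r => ⟨D.neg r, h.neg_lt r r.isLt⟩) r t : ↥(D.group F)) : GL D.Idx F) = ng hD F r t := fun t => rfl
    simp only [Subgroup.coe_mul, h1, Units.val_mul, coe_ng, coe_xg]
    rw [ChevSt.nMat_conj hD r.isLt s.isLt one_ne_zero u, hrefl, one_zpow, mul_one]
  T a t := ⟨dgHom F D (fun s => if s < D.nroots then chi F D v a t s else 1), (chi_mem_good F h hD a t).1⟩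
  T_add a b t ht := Subtype.ext (by
    rw [Subgroup.coe_mul, ← map_mul]
    refine congrArg (dgHom F D) ?_
    funext s
    by_cases hs : s < D.nroots
    · simp [chi, ht, hs, ipv, add_dotProduct, zpow_add]
    · simp [hs])
  T_mul a t u ht hu := Subtype.ext (by
    rw [Subgroup.coe_mul, ← map_mul]
    refine congrArg (dgHom F D) ?_
    funext s
    by_cases hs : s < D.nroots
    · simp [chi, ht, hu, hs, Units.ext_iff, mul_zpow]
    · simp [hs])
  T_root r t ht := Subtype.ext (by
    change dgHom F D _ = hg hD F r t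
    rw [hg_eq_dgHom F h hD r.isLt ht]
    refine Units.ext ?_
    rw [coe_dgHom, coe_dgHom]
    simp only [dg]
    congr 1
    funext x
    rcases x with j | q
    · rfl
    · simp [chi, ht, pairing_ipv h hD r.isLt q.isLt])
  T_conj a s t u ht := Subtype.ext (by
    simp only [Subgroup.coe_mul]
    rw [(chi_mem_good F h hD a t).2 s s.isLt u]
    simp only [if_pos s.isLt, chi_val F a ht])

omit h hD

/-- An irreducible representation of degree at least two is not trivial. -/
theorem nontrivial_of_irreducible {G : Type*} [Group G] {k : ℕ} (ρ : Representation ℂ G (Fin k → ℂ))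
    (hρ : ρ.IsIrreducible) (hk : 2 ≤ k) : ∃ g, ρ g ≠ 1 := by
  by_contra! htriv
  obtain ⟨w, hw⟩ : ∃ w : Fin k → ℂ, w ≠ 0 := ⟨Pi.single ⟨0, by omega⟩ 1, by simp⟩
  let W : Subrepresentation ρ := ⟨ℂ ∙ w, fun g x hx => by rwa [htriv g, Module.End.one_apply]⟩
  have h1 : Module.finrank ℂ W.toSubmodule = 1 := finrank_span_singleton hw
  rcases IsSimpleOrder.eq_bot_or_eq_top W with h | h
  · rw [h] at h1
    have h5 : Module.finrank ℂ ((⊥ : Subrepresentation ρ).toSubmodule) = 0 := finrank_bot ℂ _
    omega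
  · rw [h] at h1
    have h5 : Module.finrank ℂ ((⊤ : Subrepresentation ρ).toSubmodule) = k :=
      (finrank_top ℂ (Fin k → ℂ)).trans (Module.finrank_fin_fun ℂ)
    omega

end Cfsg.Agent.MinRep
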