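import Cfsg.Agent.Lib.MinRep.Hecke

/-
The degree of a non-trivial representation.

* `Step`, `Steps`: a certificate of translates of line vectors, one step for each positive root.
* `degree_le`: the sum over the steps of `(q-1) q^m` plus the rank is at most the degree.
-/

set_option autoImplicit false
set_option linter.unusedSectionVars false

namespace Cfsg.Agent.MinRep

open Module

namespace Sys

variable {G : Type*} [Group G] {F : Type*} [Field F] [Fintype F] {Φ : Type*} [Fintype Φ] {l : ℕ}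
  {S : Sys G F Φ l} {V : Type*} [AddCommGroup V] [Module ℂ V] {ρ : Representation ℂ G V}

/-- A positive root, translating roots, and a Weyl word from a simple root. -/
structure Step (Φ : Type*) (l : ℕ) where
  root : Φ
  T : List Φ
  word : List (Fin l)
  node : Fin l

/-- The image of a root under a Weyl word. -/
noncomputable def wim (S : Sys G F Φ l) (w : List (Fin l)) (a : Φ) : Φ := w.foldr (fun k b => S.rf (S.simple k) b) a

/-- The preimage of a root under a Weyl word. -/
noncomputable def wpre (S : Sys G F Φ l) (w : List (Fin l)) (a : Φ) : Φ := w.foldl (fun b k => S.rf (S.simple k) b) a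

/-- The validity of a step after the roots in `pre`. -/
structure Step.Ok (S : Sys G F Φ l) (pre : List Φ) (s : Step Φ l) : Prop where
  pos : S.pos s.root
  good : Good S s.root s.T
  closed : ∀ a ∈ s.T, ∀ g ∈ pre, g ≠ S.ng (S.rf a s.root) ∧
    ∀ k, S.co k = S.co (S.rf a s.root) + S.co g → k ∈ pre
  root_eq : wim S s.word (S.simple s.node) = s.root
  exc : ∀ g ∈ pre ++ s.T, S.Exc s.node (wpre S s.word g)

/-- All steps are valid. -/
def Steps (S : Sys G F Φ l) : List Φ → List (Step Φ l) → Prop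
  | _, [] => True
  | pre, s :: rest => s.Ok S pre ∧ Steps S (pre ++ [s.root]) rest

theorem wim_wpre : ∀ (w : List (Fin l)) (a : Φ), wim S w (wpre S w a) = a
  | [], a => rfl
  | k :: w, a => by
    change S.rf _ (wim S w (wpre S w (S.rf (S.simple k) a))) = a
    rw [wim_wpre w, S.rf_rf]

theorem exists_word_vec (w : List (Fin l)) {r : Φ} {c : F} (hc : c ≠ 0) {v : V} (hv0 : v ≠ 0)
    (hv : v ∈ Ev ρ (S.x r) c) {A : Φ → Prop} (hA : v ∈ S.FixS ρ A) :
    ∃ c' : F, ∃ v' : V, c' ≠ 0 ∧ v' ≠ 0 ∧ v' ∈ Ev ρ (S.x (wim S w r)) c' ∧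
      ∀ a, A a → S.Fx ρ (wim S w a) v' := by
  induction w with
  | nil => exact ⟨c, v, hc, hv0, hv, hA⟩
  | cons k w ih =>
    obtain ⟨c', v', hc', hv', h1, h2⟩ := ih
    exact ⟨_, ρ (S.nn (S.simple k) 1) v', div_ne_zero hc' (S.η_ne _ _),
      fun e => hv' (rinj ρ _ (e.trans (map_zero _).symm)), n_Ev _ h1, fun a ha => n_Fx _ (h2 a ha)⟩

variable {N : ℕ} [FiniteDimensional ℂ V]

theorem exists_pairing_one (hT : S.Tables N) (hN : 0 < N) (r : Φ) : ∃ u, S.ip u r = 1 := by
  obtain ⟨u, hu⟩ := Finset.card_pos.1 (show 0 < (Finset.univ.filter fun a => S.ip r a = 1).card by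
    rw [hT.half]; omega)
  exact ⟨u, by rw [S.ip_comm]; exact (Finset.mem_filter.1 hu).2⟩

theorem exists_step_vec (h : S.Small ρ N) (hN : 0 < N) {pre : List Φ} {s : Step Φ l} (hs : s.Ok S pre) {c : F}
    (hc : c ≠ 0) : ∃ v, v ≠ 0 ∧ v ∈ Ev ρ (S.x s.root) c ∧ ∀ g ∈ pre ++ s.T, S.Fx ρ g v := by
  obtain ⟨w, hw, hw0⟩ := exists_std h s.node (one_ne_zero (α := F))
  obtain ⟨c', v', hc', hv', h1, h2⟩ := exists_word_vec s.word hw.1 hw0 hw.2.1 (hw.mem_exc h)
  rw [hs.root_eq] at h1
  obtain ⟨u, hu⟩ := exists_pairing_one h.tab hN s.root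
  have ht : c' / c ≠ 0 := div_ne_zero hc' hc
  refine ⟨ρ (S.T (S.co u) (c' / c)) v', fun e => hv' (rinj ρ _ (e.trans (map_zero _).symm)), ?_,
    fun g hg => ?_⟩
  · have := T_Ev (S.co u) ht h1
    rwa [show ipv S.C (S.co u) (S.co s.root) = 1 from hu, zpow_one, div_div_cancel₀ hc'] at this
  · have := h2 _ (hs.exc g hg)
    rw [wim_wpre] at this
    exact T_Fx _ ht this

theorem count (h : S.Small ρ N) (hN : 0 < N) : ∀ (L : List (Step Φ l)) (pre : List Φ), Steps S pre L →
    (∀ g ∈ pre, S.pos g) →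
    (L.map fun s => (Fintype.card F - 1) * Fintype.card F ^ s.T.length).sum + finrank ℂ (S.VU ρ) ≤
      finrank ℂ (S.FixS ρ (· ∈ pre))
  | [], pre, _, hpre => by
    rw [List.map_nil, List.sum_nil, zero_add]
    exact Submodule.finrank_mono (FixS_anti (S := S) (ρ := ρ) hpre)
  | s :: L, pre, hL, hpre => by
    classical
    obtain ⟨hs, hL'⟩ := hL
    have ih := count h hN L (pre ++ [s.root]) hL' fun g hg => by
      rcases List.mem_append.1 hg with hg | hg
      · exact hpre g hg
      · rw [List.mem_singleton.1 hg]; exact hs.pos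
    have h1 := sum_finrank_le ρ (S.x_add s.root) (S.FixS ρ (· ∈ pre))
      (fun c => S.FixS ρ (· ∈ pre) ⊓ Ev ρ (S.x s.root) c) fun c => le_rfl
    have hsub : S.FixS ρ (· ∈ pre ++ [s.root]) = S.FixS ρ (· ∈ pre) ⊓ Ev ρ (S.x s.root) 0 := by
      ext v
      simp only [Submodule.mem_inf, mem_FixS, List.mem_append, List.mem_singleton, ← S.fx_iff]
      exact ⟨fun hv => ⟨fun a ha => hv a (Or.inl ha), hv _ (Or.inr rfl)⟩,
        fun hv a ha => ha.elim (hv.1 a) (fun e => e ▸ hv.2)⟩
    have hlow : ∀ c : F, c ≠ 0 → Fintype.card F ^ s.T.length ≤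
        finrank ℂ (S.FixS ρ (· ∈ pre) ⊓ Ev ρ (S.x s.root) c : Submodule ℂ V) := by
      intro c hc
      refine le_trans ?_ (pow_le hc hs.good (inf_le_right (a := S.FixS ρ (· ∈ pre))) fun a ha t v hv => ?_)
      · refine le_mul_of_one_le_right (Nat.zero_le _) (Nat.one_le_iff_ne_zero.2 fun e0 => ?_)
        obtain ⟨v, hv0, hv, hfix⟩ := exists_step_vec h hN hs hc
        have hmem : v ∈ (⊥ : Submodule ℂ V) := Submodule.finrank_eq_zero.1 e0 ▸
          ⟨⟨fun g hg => hfix g (List.mem_append_left _ hg), hv⟩, fun g hg => hfix g (List.mem_append_right _ hg)⟩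
        exact hv0 ((Submodule.mem_bot ℂ).1 hmem)
      · refine ⟨fun g hg => ?_, x_Ev_self (ip_part (hs.good.1 a ha)) hv.2 t⟩
        obtain ⟨hg1, hg2⟩ := hs.closed a ha g hg
        exact Fx_x (hv.1 g hg) hg1 (fun k hk => hv.1 k (hg2 k hk)) t
    rw [← Finset.sum_erase_add _ _ (Finset.mem_univ (0 : F)), ← hsub] at h1
    have h2 : (Fintype.card F - 1) * Fintype.card F ^ s.T.length ≤ ∑ c ∈ Finset.univ.erase (0 : F),
        finrank ℂ (S.FixS ρ (· ∈ pre) ⊓ Ev ρ (S.x s.root) c : Submodule ℂ V) := by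
      refine le_trans (le_of_eq ?_) (Finset.sum_le_sum fun c hc => hlow c (Finset.ne_of_mem_erase hc))
      rw [Finset.sum_const, Finset.card_erase_of_mem (Finset.mem_univ _), Finset.card_univ, smul_eq_mul]
    simp only [List.map_cons, List.sum_cons]
    omega

/-- Relations holding for all roots once invariant along the Dynkin diagram. -/
def Connected (S : Sys G F Φ l) : Prop :=
  ∀ P : Fin l → Prop, (∀ i j, S.C i j = -1 → P i → P j) → ∀ i j, P i → P j

theorem finrank_rf (r s : Φ) {c : F} (hc : c ≠ 0) : ∃ c', c' ≠ 0 ∧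
    finrank ℂ (Ev ρ (S.x s) c) ≤ finrank ℂ (Ev ρ (S.x (S.rf r s)) c') := by
  refine ⟨c / S.η r s, div_ne_zero hc (S.η_ne _ _), LinearMap.finrank_le_finrank_of_injective
    (f := (ρ (S.nn r 1)).restrict fun v hv => n_Ev r hv) fun a b e => Subtype.ext (rinj ρ (S.nn r 1) ?_)⟩
  exact congrArg Subtype.val e

theorem finrank_scale (hT : S.Tables N) (hN : 0 < N) (s : Φ) {c c' : F} (hc : c ≠ 0) (hc' : c' ≠ 0) :
    finrank ℂ (Ev ρ (S.x s) c) = finrank ℂ (Ev ρ (S.x s) c') := by
  obtain ⟨u, hu⟩ := exists_pairing_one hT hN s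
  have : ∀ {c c' : F}, c ≠ 0 → c' ≠ 0 → finrank ℂ (Ev ρ (S.x s) c) ≤ finrank ℂ (Ev ρ (S.x s) c') := by
    intro c c' hc hc'
    have ht : c / c' ≠ 0 := div_ne_zero hc hc'
    have hmap : ∀ v ∈ Ev ρ (S.x s) c, ρ (S.T (S.co u) (c / c')) v ∈ Ev ρ (S.x s) c' := fun v hv => by
      have := T_Ev (S.co u) ht hv
      rwa [show ipv S.C (S.co u) (S.co s) = 1 from hu, zpow_one, div_div_cancel₀ hc] at this
    exact LinearMap.finrank_le_finrank_of_injective
      (f := (ρ (S.T (S.co u) (c / c'))).restrict hmap) fun a b e =>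
        Subtype.ext (rinj ρ _ (congrArg Subtype.val e))
  exact le_antisymm (this hc hc') (this hc' hc)

theorem finrank_all (hT : S.Tables N) (hN : 0 < N) (hconn : Connected S) (r s : Φ) {c c' : F} (hc : c ≠ 0)
    (hc' : c' ≠ 0) : finrank ℂ (Ev ρ (S.x r) c) = finrank ℂ (Ev ρ (S.x s) c') := by
  have heq : ∀ a b : Φ, finrank ℂ (Ev ρ (S.x b) (1 : F)) = finrank ℂ (Ev ρ (S.x (S.rf a b)) (1 : F)) := by
    intro a b
    obtain ⟨c₁, h1, h1'⟩ := finrank_rf (S := S) (ρ := ρ) a b (one_ne_zero (α := F))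
    obtain ⟨c₂, h2, h2'⟩ := finrank_rf (S := S) (ρ := ρ) a (S.rf a b) (one_ne_zero (α := F))
    rw [S.rf_rf, finrank_scale hT hN b h2 one_ne_zero] at h2'
    rw [finrank_scale hT hN (S.rf a b) h1 one_ne_zero] at h1'
    exact le_antisymm h1' h2'
  obtain ⟨D, hD⟩ : ∃ D : Φ → ℕ, D = fun b => finrank ℂ (Ev ρ (S.x b) (1 : F)) := ⟨_, rfl⟩
  have hpos : ∀ n : ℕ, ∀ b, S.pos b → (∑ i, S.co b i).toNat ≤ n → ∃ i, D b = D (S.simple i) := by
    intro n
    induction n with
    | zero =>
      intro b hb hn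
      exfalso
      refine S.co_ne b (funext fun i => ?_)
      have h1 := Finset.single_le_sum (f := fun i => S.co b i) (fun j _ => hb j) (Finset.mem_univ i)
      have h2 : (0 : ℤ) ≤ S.co b i := hb i
      simp only [Pi.zero_apply]
      omega
    | succ n ih =>
      intro b hb hn
      by_cases hs : ∀ i, b ≠ S.simple i
      · obtain ⟨i, hi⟩ := S.exists_descend hb hs
        have hp := S.pos_rf hb (hs i)
        obtain ⟨j, hj⟩ := ih _ hp (by
          have h0 : 0 ≤ ∑ k, S.co (S.rf (S.simple i) b) k := Finset.sum_nonneg fun k _ => hp k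
          rw [S.rf_sub hi, S.co_simple] at h0 ⊢
          simp only [Pi.sub_apply, Finset.sum_sub_distrib, Finset.sum_pi_single', Finset.mem_univ, if_true] at h0 ⊢
          omega)
        exact ⟨j, by rw [← hj, hD]; exact heq _ _⟩
      · push Not at hs
        obtain ⟨i, rfl⟩ := hs
        exact ⟨i, rfl⟩
  have hall : ∀ b, ∃ i, D b = D (S.simple i) := by
    intro b
    by_cases hb : S.pos b
    · exact hpos _ b hb le_rfl
    · obtain ⟨i, hi⟩ := hpos _ (S.ng b) (S.pos_ng_iff.2 hb) le_rfl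
      exact ⟨i, by rw [← hi, hD, ← S.rf_self]; exact heq _ _⟩
  have hadj : ∀ i j, S.C i j = -1 → D (S.simple i) = D (S.simple j) := by
    intro i j hij
    have h1 : S.ip (S.simple j) (S.simple i) = -1 := by rw [S.ip_comm, S.ip_simple_simple, hij]
    have h3 : S.ip (S.simple i) (S.simple j) = -1 := by rw [S.ip_simple_simple, hij]
    have h2 : S.rf (S.simple i) (S.rf (S.simple j) (S.simple i)) = S.simple j := S.co_inj (by
      rw [S.co_rf, S.ip_rf_right, S.ip_self, h1, h3, S.rf_add h1]; module)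
    rw [hD]
    exact (heq (S.simple j) (S.simple i)).trans ((heq (S.simple i) _).trans (by rw [h2]))
  obtain ⟨i, hi⟩ := hall r
  obtain ⟨j, hj⟩ := hall s
  have := hconn (fun k => D (S.simple k) = D (S.simple i)) (fun a b hab ha => (hadj a b hab).symm.trans ha) i j rfl
  rw [finrank_scale hT hN r hc one_ne_zero, finrank_scale hT hN s hc' one_ne_zero]
  rw [← hi, ← hj] at this
  rw [hD] at this
  exact this.symm

/-- The lower bound for non-trivial representations. -/
theorem degree_le [Finite G] {M : ℕ} (hT : S.Tables (M + 1)) (hconn : Connected S) {L : List (Step Φ l)}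
    (hL : Steps S [] L) (hne : ∃ g, ρ g ≠ 1) {B : ℕ}
    (h1 : B ≤ 2 * (Fintype.card F - 1) * (Fintype.card F ^ (M + 1) + Fintype.card F ^ M))
    (h2 : B ≤ (L.map fun s => (Fintype.card F - 1) * Fintype.card F ^ s.T.length).sum + l) :
    B ≤ finrank ℂ V := by
  classical
  obtain ⟨H⟩ := exists_herm ρ
  have hN : 0 < M + 1 := M.succ_pos
  obtain ⟨r₀, hr₀⟩ : ∃ r, Ev ρ (S.x r) (1 : F) ≠ ⊥ := by
    by_contra! hbot
    obtain ⟨g, hg⟩ := hne
    have key : ∀ x ∈ Subgroup.closure {g | ∃ r t, g = S.x r t}, ∀ v, ρ x v = v := by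
      intro x hx
      induction hx using Subgroup.closure_induction with
      | mem x hx =>
        intro v
        obtain ⟨r, t, rfl⟩ := hx
        rw [← sum_Pr ρ (S.x_add r) v, map_sum]
        refine Finset.sum_congr rfl fun c _ => ?_
        rcases eq_or_ne c 0 with rfl | hc
        · exact (mem_Ev_zero ρ).1 (Pr_mem ρ (S.x_add r) 0 v) t
        · have hb : Ev ρ (S.x r) c = ⊥ := Submodule.finrank_eq_zero.1 (by
            rw [finrank_scale hT hN r hc one_ne_zero, hbot r, finrank_bot])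
          have := Pr_mem ρ (S.x_add r) c v
          rw [hb, Submodule.mem_bot] at this
          rw [this, map_zero]
      | one => intro v; rw [map_one, Module.End.one_apply]
      | mul x y _ _ hx hy => intro v; rw [rmul, hy, hx]
      | inv x _ hx => intro v; conv_lhs => rw [← hx v, rinv]
    exact hg (LinearMap.ext fun v => by
      rw [Module.End.one_apply, key g (by rw [S.gen]; exact Subgroup.mem_top g)])
  obtain ⟨D, hD⟩ : ∃ D, D = finrank ℂ (Ev ρ (S.x r₀) (1 : F)) := ⟨_, rfl⟩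
  have hall : ∀ r c, c ≠ 0 → finrank ℂ (Ev ρ (S.x r) c) = D := fun r c hc => by
    rw [hD]; exact finrank_all hT hN hconn r r₀ hc one_ne_zero
  by_cases hsmall : D < 2 * Fintype.card F ^ (M + 1)
  · have h : S.Small ρ (M + 1) := ⟨hT, fun r c hc => by rw [hall r c hc]; exact hsmall, fun r c hc e => by
      have := hall r c hc
      rw [e, finrank_bot, hD] at this
      exact hr₀ (Submodule.finrank_eq_zero.1 this.symm)⟩
    have h3 := count h hN L [] hL (by simp)
    have h4 := rank_le h H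
    have h5 : finrank ℂ (S.FixS ρ (· ∈ ([] : List Φ))) ≤ finrank ℂ V := Submodule.finrank_le _
    omega
  · push Not at hsmall
    obtain ⟨a, ha⟩ := exists_pairing_one hT hN r₀
    -- vectors moved by `r₀`, and vectors fixed by `r₀` moved by `a`
    have hs1 := sum_finrank_le ρ (S.x_add r₀) ⊤ (fun c => Ev ρ (S.x r₀) c) fun c => le_inf le_top le_rfl
    have hs2 := sum_finrank_le ρ (S.x_add a) (Ev ρ (S.x r₀) 0)
      (fun c => Ev ρ (S.x r₀) 0 ⊓ Ev ρ (S.x a) c) fun c => le_rfl
    rw [finrank_top, ← Finset.sum_erase_add _ _ (Finset.mem_univ (0 : F)),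
      Finset.sum_congr rfl fun c hc => hall r₀ c (Finset.ne_of_mem_erase hc), Finset.sum_const,
      Finset.card_erase_of_mem (Finset.mem_univ _), Finset.card_univ, smul_eq_mul] at hs1
    have hlow : ∀ c : F, c ≠ 0 → 2 * Fintype.card F ^ M ≤
        finrank ℂ (Ev ρ (S.x r₀) 0 ⊓ Ev ρ (S.x a) c : Submodule ℂ V) := by
      intro c hc
      have h3 := le_mul_fix hc ha (X := Ev ρ (S.x a) c) le_rfl (inv_Ev ha c) (inv_Ev (ip_part ha) c)
      rw [hall a c hc] at h3
      have h4 : Fintype.card F * (2 * Fintype.card F ^ M) ≤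
          Fintype.card F * finrank ℂ (Ev ρ (S.x a) c ⊓ S.FixS ρ (· = r₀) : Submodule ℂ V) := by
        refine le_trans ?_ h3
        rw [mul_left_comm, ← pow_succ']
        exact hsmall
      refine le_trans (Nat.le_of_mul_le_mul_left h4 Fintype.card_pos) (Submodule.finrank_mono ?_)
      exact fun v hv => ⟨S.fx_iff.1 (hv.2 r₀ rfl), hv.1⟩
    rw [← Finset.sum_erase_add _ _ (Finset.mem_univ (0 : F))] at hs2
    have hs3 : (Fintype.card F - 1) * (2 * Fintype.card F ^ M) ≤ ∑ c ∈ Finset.univ.erase (0 : F),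
        finrank ℂ (Ev ρ (S.x r₀) 0 ⊓ Ev ρ (S.x a) c : Submodule ℂ V) := by
      refine le_trans (le_of_eq ?_) (Finset.sum_le_sum fun c hc => hlow c (Finset.ne_of_mem_erase hc))
      rw [Finset.sum_const, Finset.card_erase_of_mem (Finset.mem_univ _), Finset.card_univ, smul_eq_mul]
    have hs4 : (Fintype.card F - 1) * (2 * Fintype.card F ^ (M + 1)) ≤ (Fintype.card F - 1) * D :=
      Nat.mul_le_mul_left _ hsmall
    have hB : 2 * (Fintype.card F - 1) * (Fintype.card F ^ (M + 1) + Fintype.card F ^ M) =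
        (Fintype.card F - 1) * (2 * Fintype.card F ^ (M + 1)) + (Fintype.card F - 1) * (2 * Fintype.card F ^ M) := by
      ring
    omega

end Sys

end Cfsg.Agent.MinRep
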