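import Cfsg.Agent.Lib.MinRep.Check
import Cfsg.Agent.Lib.MinRep.Chev
import Cfsg.Agent.Lib.Chev.DataE6

/-
The certificates for the minimal degree of E6.

* `tabOK`, `tables`, `steps`, `connected`.
-/

set_option autoImplicit false
set_option maxRecDepth 20000
set_option maxHeartbeats 2000000

namespace Cfsg.Agent.MinRep.E6

open Cfsg.Lie Cfsg.Agent.Chev Sys

/-- The rows of the Cartan matrix. -/
def C : List (List ℤ) :=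
  [[2, 0, -1, 0, 0, 0], [0, 2, 0, -1, 0, 0], [-1, 0, 2, -1, 0, 0], [0, -1, -1, 2, -1, 0], [0, 0, 0, -1, 2, -1], [0, 0, 0, 0, -1, 2]]

/-- The roots, part 0. -/
def R0 : List (List ℤ) := [
  [-1, -2, -2, -3, -2, -1],
  [-1, -1, -2, -3, -2, -1],
  [-1, -1, -2, -2, -2, -1],
  [-1, -1, -2, -2, -1, -1],
  [-1, -1, -2, -2, -1, 0],
  [-1, -1, -1, -2, -2, -1],
  [-1, -1, -1, -2, -1, -1],
  [-1, -1, -1, -2, -1, 0],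
  [-1, -1, -1, -1, -1, -1],
  [-1, -1, -1, -1, -1, 0],
  [-1, -1, -1, -1, 0, 0],
  [-1, 0, -1, -1, -1, -1],
  [-1, 0, -1, -1, -1, 0],
  [-1, 0, -1, -1, 0, 0],
  [-1, 0, -1, 0, 0, 0],
  [-1, 0, 0, 0, 0, 0],
  [0, -1, -1, -2, -2, -1],
  [0, -1, -1, -2, -1, -1],
  [0, -1, -1, -2, -1, 0],
  [0, -1, -1, -1, -1, -1],
  [0, -1, -1, -1, -1, 0],
  [0, -1, -1, -1, 0, 0],
  [0, -1, 0, -1, -1, -1],
  [0, -1, 0, -1, -1, 0]]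

/-- The roots, part 1. -/
def R1 : List (List ℤ) := [
  [0, -1, 0, -1, 0, 0],
  [0, -1, 0, 0, 0, 0],
  [0, 0, -1, -1, -1, -1],
  [0, 0, -1, -1, -1, 0],
  [0, 0, -1, -1, 0, 0],
  [0, 0, -1, 0, 0, 0],
  [0, 0, 0, -1, -1, -1],
  [0, 0, 0, -1, -1, 0],
  [0, 0, 0, -1, 0, 0],
  [0, 0, 0, 0, -1, -1],
  [0, 0, 0, 0, -1, 0],
  [0, 0, 0, 0, 0, -1],
  [0, 0, 0, 0, 0, 1],
  [0, 0, 0, 0, 1, 0],
  [0, 0, 0, 0, 1, 1],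
  [0, 0, 0, 1, 0, 0],
  [0, 0, 0, 1, 1, 0],
  [0, 0, 0, 1, 1, 1],
  [0, 0, 1, 0, 0, 0],
  [0, 0, 1, 1, 0, 0],
  [0, 0, 1, 1, 1, 0],
  [0, 0, 1, 1, 1, 1],
  [0, 1, 0, 0, 0, 0],
  [0, 1, 0, 1, 0, 0]]

/-- The roots, part 2. -/
def R2 : List (List ℤ) := [
  [0, 1, 0, 1, 1, 0],
  [0, 1, 0, 1, 1, 1],
  [0, 1, 1, 1, 0, 0],
  [0, 1, 1, 1, 1, 0],
  [0, 1, 1, 1, 1, 1],
  [0, 1, 1, 2, 1, 0],
  [0, 1, 1, 2, 1, 1],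
  [0, 1, 1, 2, 2, 1],
  [1, 0, 0, 0, 0, 0],
  [1, 0, 1, 0, 0, 0],
  [1, 0, 1, 1, 0, 0],
  [1, 0, 1, 1, 1, 0],
  [1, 0, 1, 1, 1, 1],
  [1, 1, 1, 1, 0, 0],
  [1, 1, 1, 1, 1, 0],
  [1, 1, 1, 1, 1, 1],
  [1, 1, 1, 2, 1, 0],
  [1, 1, 1, 2, 1, 1],
  [1, 1, 1, 2, 2, 1],
  [1, 1, 2, 2, 1, 0],
  [1, 1, 2, 2, 1, 1],
  [1, 1, 2, 2, 2, 1],
  [1, 1, 2, 3, 2, 1],
  [1, 2, 2, 3, 2, 1]]

/-- The roots. -/
def R : List (List ℤ) := R0 ++ R1 ++ R2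

/-- The combinations of roots orthogonal to a simple root. -/
def spanW : List (List (List (List (ℤ × Fin 72)))) := [
  [[], [], [[(1, 22), (1, 31), (1, 69)], [(1, 46)], [], [(1, 39)], [(1, 37)], [(1, 36)]], [], [], []],
  [[], [], [], [[(1, 56)], [(1, 2), (1, 53), (1, 65)], [(1, 42)], [], [(1, 37)], [(1, 36)]], [], []],
  [[[], [(1, 46)], [(1, 16), (1, 59), (1, 63)], [(1, 8), (1, 54)], [(1, 37)], [(1, 36)]], [], [], [[(1, 17), (1, 63)], [(1, 46)], [(1, 8), (1, 34), (1, 70)], [], [(1, 37)], [(1, 36)]], [], []],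
  [[], [[(1, 56)], [], [(1, 22), (1, 45)], [(1, 11), (1, 27), (1, 71)], [(1, 10), (1, 59)], [(1, 36)]], [[(1, 56)], [(1, 26), (1, 49)], [], [(1, 5), (1, 44), (1, 68)], [(1, 3), (1, 66)], [(1, 36)]], [], [[(1, 56)], [(1, 12), (1, 61)], [(1, 5), (1, 68)], [(1, 3), (1, 44), (1, 66)], [], [(1, 36)]], []],
  [[], [], [], [[(1, 56)], [(1, 46)], [(1, 42)], [], [(1, 8), (1, 29), (1, 70)], [(1, 7), (1, 63)]], [], [[(1, 56)], [(1, 46)], [(1, 42)], [(1, 8), (1, 64)], [(1, 4), (1, 45), (1, 63)], []]],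
  [[], [], [], [], [[(1, 56)], [(1, 46)], [(1, 42)], [(1, 39)], [], [(1, 10), (1, 28), (1, 69)]], []]]

/-- The steps, part 0. -/
def L0 : List (Step (Fin 72) 6) := [
  ⟨71, [70, 69, 66, 68, 65, 67, 63, 64, 62, 61], [1, 3, 2, 4, 3, 1, 5, 4, 3, 2], 0⟩,
  ⟨70, [69, 66, 68, 65, 67, 64, 60, 59, 58], [3, 2, 4, 3, 1, 5, 4, 3, 2], 0⟩,
  ⟨69, [66, 68, 67, 63, 60, 62, 59, 57], [2, 4, 3, 1, 5, 4, 3, 2], 0⟩,
  ⟨66, [65, 63, 64, 60, 62, 59, 56], [4, 3, 1, 5, 4, 3, 2], 0⟩,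
  ⟨68, [65, 67, 63, 60, 61, 58, 57], [2, 3, 1, 5, 4, 3, 2], 0⟩,
  ⟨65, [63, 64, 60, 61, 58, 56], [3, 1, 5, 4, 3, 2], 0⟩,
  ⟨67, [64, 62, 59, 61, 58, 57], [2, 3, 1, 4, 3, 2], 0⟩,
  ⟨63, [60, 62, 61, 57, 56], [1, 5, 4, 3, 2], 0⟩,
  ⟨64, [62, 59, 61, 58, 56], [3, 1, 4, 3, 2], 0⟩]

/-- The steps, part 1. -/
def L1 : List (Step (Fin 72) 6) := [
  ⟨60, [59, 58, 57, 56], [5, 4, 3, 2], 0⟩,
  ⟨62, [59, 61, 57, 56], [1, 4, 3, 2], 0⟩,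
  ⟨59, [58, 57, 56], [4, 3, 2], 0⟩,
  ⟨61, [58, 57, 56], [1, 3, 2], 0⟩,
  ⟨58, [57, 56], [3, 2], 0⟩,
  ⟨57, [56], [2], 0⟩,
  ⟨56, [], [], 0⟩,
  ⟨55, [54, 52, 45, 49, 41, 38], [4, 3, 1, 2, 3, 4], 5⟩,
  ⟨54, [52, 45, 49, 41, 36], [3, 1, 2, 3, 4], 5⟩]

/-- The steps, part 2. -/
def L2 : List (Step (Fin 72) 6) := [
  ⟨52, [45, 49, 38, 36], [1, 2, 3, 4], 5⟩,
  ⟨45, [41, 38, 36], [2, 3, 4], 5⟩,
  ⟨49, [41, 38, 36], [1, 3, 4], 5⟩,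
  ⟨41, [38, 36], [3, 4], 5⟩,
  ⟨38, [36], [4], 5⟩,
  ⟨36, [], [], 5⟩,
  ⟨53, [51, 48, 50, 47], [3, 2, 4, 3], 1⟩,
  ⟨51, [48, 50, 46], [2, 4, 3], 1⟩,
  ⟨48, [47, 46], [4, 3], 1⟩]

/-- The steps, part 3. -/
def L3 : List (Step (Fin 72) 6) := [
  ⟨50, [47, 46], [2, 3], 1⟩,
  ⟨47, [46], [3], 1⟩,
  ⟨46, [], [], 1⟩,
  ⟨44, [43, 42], [4, 3], 2⟩,
  ⟨43, [42], [3], 2⟩,
  ⟨42, [], [], 2⟩,
  ⟨40, [39], [4], 3⟩,
  ⟨39, [], [], 3⟩,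
  ⟨37, [], [], 4⟩]

/-- The steps. -/
def L : List (Step (Fin 72) 6) := L0 ++ L1 ++ L2 ++ L3

theorem chk0 : Sys.stepsChk C R ([] : List (Fin 72)) L0 = true := by decide +kernel

theorem chk1 : Sys.stepsChk C R ((L0).map Step.root) L1 = true := by decide +kernel

theorem chk2 : Sys.stepsChk C R ((L0 ++ L1).map Step.root) L2 = true := by decide +kernel

theorem chk3 : Sys.stepsChk C R ((L0 ++ L1 ++ L2).map Step.root) L3 = true := by decide +kernel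

theorem chkTables : Sys.tablesChk (l := 6) C R 10 spanW = true := by decide +kernel

theorem rows_eq : C = List.ofFn fun i : Fin chevE6.rank => List.ofFn (cartanMat chevE6 i) := by decide +kernel

theorem roots_eq : R = List.ofFn fun r : Fin chevE6.nroots => List.ofFn fun i : Fin chevE6.rank => Chev.DataE6.cert.v r.val i.val := by
  decide +kernel

theorem sgn : ∀ r < chevE6.nroots, (0 : Fin chevE6.rank → ℤ) ≤ (fun i => Chev.DataE6.cert.v r i.val) ∨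
    (fun i : Fin chevE6.rank => Chev.DataE6.cert.v r i.val) ≤ 0 := by
  simp only [Pi.le_def, Pi.zero_apply]
  decide +kernel

end Cfsg.Agent.MinRep.E6
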