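import Cfsg.Agent.Lib.MinRep.Check
import Cfsg.Agent.Lib.MinRep.Chev
import Cfsg.Agent.Lib.Chev.DataE8

/-
The certificates for the minimal degree of E8.

* `tabOK`, `tables`, `steps`, `connected`.
-/

set_option autoImplicit false
set_option maxRecDepth 20000
set_option maxHeartbeats 2000000

namespace Cfsg.Agent.MinRep.E8

open Cfsg.Lie Cfsg.Agent.Chev Sys

/-- The rows of the Cartan matrix. -/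
def C : List (List ℤ) :=
  [[2, 0, -1, 0, 0, 0, 0, 0], [0, 2, 0, -1, 0, 0, 0, 0], [-1, 0, 2, -1, 0, 0, 0, 0], [0, -1, -1, 2, -1, 0, 0, 0], [0, 0, 0, -1, 2, -1, 0, 0], [0, 0, 0, 0, -1, 2, -1, 0], [0, 0, 0, 0, 0, -1, 2, -1], [0, 0, 0, 0, 0, 0, -1, 2]]

/-- The roots, part 0. -/
def R0 : List (List ℤ) := [
  [-2, -3, -4, -6, -5, -4, -3, -2],
  [-2, -3, -4, -6, -5, -4, -3, -1],
  [-2, -3, -4, -6, -5, -4, -2, -1],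
  [-2, -3, -4, -6, -5, -3, -2, -1],
  [-2, -3, -4, -6, -4, -3, -2, -1],
  [-2, -3, -4, -5, -4, -3, -2, -1],
  [-2, -3, -3, -5, -4, -3, -2, -1],
  [-2, -2, -4, -5, -4, -3, -2, -1],
  [-2, -2, -3, -5, -4, -3, -2, -1],
  [-2, -2, -3, -4, -4, -3, -2, -1],
  [-2, -2, -3, -4, -3, -3, -2, -1],
  [-2, -2, -3, -4, -3, -2, -2, -1],
  [-2, -2, -3, -4, -3, -2, -1, -1],
  [-2, -2, -3, -4, -3, -2, -1, 0],
  [-1, -3, -3, -5, -4, -3, -2, -1],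
  [-1, -2, -3, -5, -4, -3, -2, -1],
  [-1, -2, -3, -4, -4, -3, -2, -1],
  [-1, -2, -3, -4, -3, -3, -2, -1],
  [-1, -2, -3, -4, -3, -2, -2, -1],
  [-1, -2, -3, -4, -3, -2, -1, -1],
  [-1, -2, -3, -4, -3, -2, -1, 0],
  [-1, -2, -2, -4, -4, -3, -2, -1],
  [-1, -2, -2, -4, -3, -3, -2, -1],
  [-1, -2, -2, -4, -3, -2, -2, -1]]

/-- The roots, part 1. -/
def R1 : List (List ℤ) := [
  [-1, -2, -2, -4, -3, -2, -1, -1],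
  [-1, -2, -2, -4, -3, -2, -1, 0],
  [-1, -2, -2, -3, -3, -3, -2, -1],
  [-1, -2, -2, -3, -3, -2, -2, -1],
  [-1, -2, -2, -3, -3, -2, -1, -1],
  [-1, -2, -2, -3, -3, -2, -1, 0],
  [-1, -2, -2, -3, -2, -2, -2, -1],
  [-1, -2, -2, -3, -2, -2, -1, -1],
  [-1, -2, -2, -3, -2, -2, -1, 0],
  [-1, -2, -2, -3, -2, -1, -1, -1],
  [-1, -2, -2, -3, -2, -1, -1, 0],
  [-1, -2, -2, -3, -2, -1, 0, 0],
  [-1, -1, -2, -3, -3, -3, -2, -1],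
  [-1, -1, -2, -3, -3, -2, -2, -1],
  [-1, -1, -2, -3, -3, -2, -1, -1],
  [-1, -1, -2, -3, -3, -2, -1, 0],
  [-1, -1, -2, -3, -2, -2, -2, -1],
  [-1, -1, -2, -3, -2, -2, -1, -1],
  [-1, -1, -2, -3, -2, -2, -1, 0],
  [-1, -1, -2, -3, -2, -1, -1, -1],
  [-1, -1, -2, -3, -2, -1, -1, 0],
  [-1, -1, -2, -3, -2, -1, 0, 0],
  [-1, -1, -2, -2, -2, -2, -2, -1],
  [-1, -1, -2, -2, -2, -2, -1, -1]]

/-- The roots, part 2. -/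
def R2 : List (List ℤ) := [
  [-1, -1, -2, -2, -2, -2, -1, 0],
  [-1, -1, -2, -2, -2, -1, -1, -1],
  [-1, -1, -2, -2, -2, -1, -1, 0],
  [-1, -1, -2, -2, -2, -1, 0, 0],
  [-1, -1, -2, -2, -1, -1, -1, -1],
  [-1, -1, -2, -2, -1, -1, -1, 0],
  [-1, -1, -2, -2, -1, -1, 0, 0],
  [-1, -1, -2, -2, -1, 0, 0, 0],
  [-1, -1, -1, -2, -2, -2, -2, -1],
  [-1, -1, -1, -2, -2, -2, -1, -1],
  [-1, -1, -1, -2, -2, -2, -1, 0],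
  [-1, -1, -1, -2, -2, -1, -1, -1],
  [-1, -1, -1, -2, -2, -1, -1, 0],
  [-1, -1, -1, -2, -2, -1, 0, 0],
  [-1, -1, -1, -2, -1, -1, -1, -1],
  [-1, -1, -1, -2, -1, -1, -1, 0],
  [-1, -1, -1, -2, -1, -1, 0, 0],
  [-1, -1, -1, -2, -1, 0, 0, 0],
  [-1, -1, -1, -1, -1, -1, -1, -1],
  [-1, -1, -1, -1, -1, -1, -1, 0],
  [-1, -1, -1, -1, -1, -1, 0, 0],
  [-1, -1, -1, -1, -1, 0, 0, 0],
  [-1, -1, -1, -1, 0, 0, 0, 0],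
  [-1, 0, -1, -1, -1, -1, -1, -1]]

/-- The roots, part 3. -/
def R3 : List (List ℤ) := [
  [-1, 0, -1, -1, -1, -1, -1, 0],
  [-1, 0, -1, -1, -1, -1, 0, 0],
  [-1, 0, -1, -1, -1, 0, 0, 0],
  [-1, 0, -1, -1, 0, 0, 0, 0],
  [-1, 0, -1, 0, 0, 0, 0, 0],
  [-1, 0, 0, 0, 0, 0, 0, 0],
  [0, -1, -1, -2, -2, -2, -2, -1],
  [0, -1, -1, -2, -2, -2, -1, -1],
  [0, -1, -1, -2, -2, -2, -1, 0],
  [0, -1, -1, -2, -2, -1, -1, -1],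
  [0, -1, -1, -2, -2, -1, -1, 0],
  [0, -1, -1, -2, -2, -1, 0, 0],
  [0, -1, -1, -2, -1, -1, -1, -1],
  [0, -1, -1, -2, -1, -1, -1, 0],
  [0, -1, -1, -2, -1, -1, 0, 0],
  [0, -1, -1, -2, -1, 0, 0, 0],
  [0, -1, -1, -1, -1, -1, -1, -1],
  [0, -1, -1, -1, -1, -1, -1, 0],
  [0, -1, -1, -1, -1, -1, 0, 0],
  [0, -1, -1, -1, -1, 0, 0, 0],
  [0, -1, -1, -1, 0, 0, 0, 0],
  [0, -1, 0, -1, -1, -1, -1, -1],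
  [0, -1, 0, -1, -1, -1, -1, 0],
  [0, -1, 0, -1, -1, -1, 0, 0]]

/-- The roots, part 4. -/
def R4 : List (List ℤ) := [
  [0, -1, 0, -1, -1, 0, 0, 0],
  [0, -1, 0, -1, 0, 0, 0, 0],
  [0, -1, 0, 0, 0, 0, 0, 0],
  [0, 0, -1, -1, -1, -1, -1, -1],
  [0, 0, -1, -1, -1, -1, -1, 0],
  [0, 0, -1, -1, -1, -1, 0, 0],
  [0, 0, -1, -1, -1, 0, 0, 0],
  [0, 0, -1, -1, 0, 0, 0, 0],
  [0, 0, -1, 0, 0, 0, 0, 0],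
  [0, 0, 0, -1, -1, -1, -1, -1],
  [0, 0, 0, -1, -1, -1, -1, 0],
  [0, 0, 0, -1, -1, -1, 0, 0],
  [0, 0, 0, -1, -1, 0, 0, 0],
  [0, 0, 0, -1, 0, 0, 0, 0],
  [0, 0, 0, 0, -1, -1, -1, -1],
  [0, 0, 0, 0, -1, -1, -1, 0],
  [0, 0, 0, 0, -1, -1, 0, 0],
  [0, 0, 0, 0, -1, 0, 0, 0],
  [0, 0, 0, 0, 0, -1, -1, -1],
  [0, 0, 0, 0, 0, -1, -1, 0],
  [0, 0, 0, 0, 0, -1, 0, 0],
  [0, 0, 0, 0, 0, 0, -1, -1],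
  [0, 0, 0, 0, 0, 0, -1, 0],
  [0, 0, 0, 0, 0, 0, 0, -1]]

/-- The roots, part 5. -/
def R5 : List (List ℤ) := [
  [0, 0, 0, 0, 0, 0, 0, 1],
  [0, 0, 0, 0, 0, 0, 1, 0],
  [0, 0, 0, 0, 0, 0, 1, 1],
  [0, 0, 0, 0, 0, 1, 0, 0],
  [0, 0, 0, 0, 0, 1, 1, 0],
  [0, 0, 0, 0, 0, 1, 1, 1],
  [0, 0, 0, 0, 1, 0, 0, 0],
  [0, 0, 0, 0, 1, 1, 0, 0],
  [0, 0, 0, 0, 1, 1, 1, 0],
  [0, 0, 0, 0, 1, 1, 1, 1],
  [0, 0, 0, 1, 0, 0, 0, 0],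
  [0, 0, 0, 1, 1, 0, 0, 0],
  [0, 0, 0, 1, 1, 1, 0, 0],
  [0, 0, 0, 1, 1, 1, 1, 0],
  [0, 0, 0, 1, 1, 1, 1, 1],
  [0, 0, 1, 0, 0, 0, 0, 0],
  [0, 0, 1, 1, 0, 0, 0, 0],
  [0, 0, 1, 1, 1, 0, 0, 0],
  [0, 0, 1, 1, 1, 1, 0, 0],
  [0, 0, 1, 1, 1, 1, 1, 0],
  [0, 0, 1, 1, 1, 1, 1, 1],
  [0, 1, 0, 0, 0, 0, 0, 0],
  [0, 1, 0, 1, 0, 0, 0, 0],
  [0, 1, 0, 1, 1, 0, 0, 0]]

/-- The roots, part 6. -/
def R6 : List (List ℤ) := [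
  [0, 1, 0, 1, 1, 1, 0, 0],
  [0, 1, 0, 1, 1, 1, 1, 0],
  [0, 1, 0, 1, 1, 1, 1, 1],
  [0, 1, 1, 1, 0, 0, 0, 0],
  [0, 1, 1, 1, 1, 0, 0, 0],
  [0, 1, 1, 1, 1, 1, 0, 0],
  [0, 1, 1, 1, 1, 1, 1, 0],
  [0, 1, 1, 1, 1, 1, 1, 1],
  [0, 1, 1, 2, 1, 0, 0, 0],
  [0, 1, 1, 2, 1, 1, 0, 0],
  [0, 1, 1, 2, 1, 1, 1, 0],
  [0, 1, 1, 2, 1, 1, 1, 1],
  [0, 1, 1, 2, 2, 1, 0, 0],
  [0, 1, 1, 2, 2, 1, 1, 0],
  [0, 1, 1, 2, 2, 1, 1, 1],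
  [0, 1, 1, 2, 2, 2, 1, 0],
  [0, 1, 1, 2, 2, 2, 1, 1],
  [0, 1, 1, 2, 2, 2, 2, 1],
  [1, 0, 0, 0, 0, 0, 0, 0],
  [1, 0, 1, 0, 0, 0, 0, 0],
  [1, 0, 1, 1, 0, 0, 0, 0],
  [1, 0, 1, 1, 1, 0, 0, 0],
  [1, 0, 1, 1, 1, 1, 0, 0],
  [1, 0, 1, 1, 1, 1, 1, 0]]

/-- The roots, part 7. -/
def R7 : List (List ℤ) := [
  [1, 0, 1, 1, 1, 1, 1, 1],
  [1, 1, 1, 1, 0, 0, 0, 0],
  [1, 1, 1, 1, 1, 0, 0, 0],
  [1, 1, 1, 1, 1, 1, 0, 0],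
  [1, 1, 1, 1, 1, 1, 1, 0],
  [1, 1, 1, 1, 1, 1, 1, 1],
  [1, 1, 1, 2, 1, 0, 0, 0],
  [1, 1, 1, 2, 1, 1, 0, 0],
  [1, 1, 1, 2, 1, 1, 1, 0],
  [1, 1, 1, 2, 1, 1, 1, 1],
  [1, 1, 1, 2, 2, 1, 0, 0],
  [1, 1, 1, 2, 2, 1, 1, 0],
  [1, 1, 1, 2, 2, 1, 1, 1],
  [1, 1, 1, 2, 2, 2, 1, 0],
  [1, 1, 1, 2, 2, 2, 1, 1],
  [1, 1, 1, 2, 2, 2, 2, 1],
  [1, 1, 2, 2, 1, 0, 0, 0],
  [1, 1, 2, 2, 1, 1, 0, 0],
  [1, 1, 2, 2, 1, 1, 1, 0],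
  [1, 1, 2, 2, 1, 1, 1, 1],
  [1, 1, 2, 2, 2, 1, 0, 0],
  [1, 1, 2, 2, 2, 1, 1, 0],
  [1, 1, 2, 2, 2, 1, 1, 1],
  [1, 1, 2, 2, 2, 2, 1, 0]]

/-- The roots, part 8. -/
def R8 : List (List ℤ) := [
  [1, 1, 2, 2, 2, 2, 1, 1],
  [1, 1, 2, 2, 2, 2, 2, 1],
  [1, 1, 2, 3, 2, 1, 0, 0],
  [1, 1, 2, 3, 2, 1, 1, 0],
  [1, 1, 2, 3, 2, 1, 1, 1],
  [1, 1, 2, 3, 2, 2, 1, 0],
  [1, 1, 2, 3, 2, 2, 1, 1],
  [1, 1, 2, 3, 2, 2, 2, 1],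
  [1, 1, 2, 3, 3, 2, 1, 0],
  [1, 1, 2, 3, 3, 2, 1, 1],
  [1, 1, 2, 3, 3, 2, 2, 1],
  [1, 1, 2, 3, 3, 3, 2, 1],
  [1, 2, 2, 3, 2, 1, 0, 0],
  [1, 2, 2, 3, 2, 1, 1, 0],
  [1, 2, 2, 3, 2, 1, 1, 1],
  [1, 2, 2, 3, 2, 2, 1, 0],
  [1, 2, 2, 3, 2, 2, 1, 1],
  [1, 2, 2, 3, 2, 2, 2, 1],
  [1, 2, 2, 3, 3, 2, 1, 0],
  [1, 2, 2, 3, 3, 2, 1, 1],
  [1, 2, 2, 3, 3, 2, 2, 1],
  [1, 2, 2, 3, 3, 3, 2, 1],
  [1, 2, 2, 4, 3, 2, 1, 0],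
  [1, 2, 2, 4, 3, 2, 1, 1]]

/-- The roots, part 9. -/
def R9 : List (List ℤ) := [
  [1, 2, 2, 4, 3, 2, 2, 1],
  [1, 2, 2, 4, 3, 3, 2, 1],
  [1, 2, 2, 4, 4, 3, 2, 1],
  [1, 2, 3, 4, 3, 2, 1, 0],
  [1, 2, 3, 4, 3, 2, 1, 1],
  [1, 2, 3, 4, 3, 2, 2, 1],
  [1, 2, 3, 4, 3, 3, 2, 1],
  [1, 2, 3, 4, 4, 3, 2, 1],
  [1, 2, 3, 5, 4, 3, 2, 1],
  [1, 3, 3, 5, 4, 3, 2, 1],
  [2, 2, 3, 4, 3, 2, 1, 0],
  [2, 2, 3, 4, 3, 2, 1, 1],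
  [2, 2, 3, 4, 3, 2, 2, 1],
  [2, 2, 3, 4, 3, 3, 2, 1],
  [2, 2, 3, 4, 4, 3, 2, 1],
  [2, 2, 3, 5, 4, 3, 2, 1],
  [2, 2, 4, 5, 4, 3, 2, 1],
  [2, 3, 3, 5, 4, 3, 2, 1],
  [2, 3, 4, 5, 4, 3, 2, 1],
  [2, 3, 4, 6, 4, 3, 2, 1],
  [2, 3, 4, 6, 5, 3, 2, 1],
  [2, 3, 4, 6, 5, 4, 2, 1],
  [2, 3, 4, 6, 5, 4, 3, 1],
  [2, 3, 4, 6, 5, 4, 3, 2]]

/-- The roots. -/
def R : List (List ℤ) := R0 ++ R1 ++ R2 ++ R3 ++ R4 ++ R5 ++ R6 ++ R7 ++ R8 ++ R9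

/-- The combinations of roots orthogonal to a simple root. -/
def spanW : List (List (List (List (ℤ × Fin 240)))) := [
  [[], [], [[(1, 21), (1, 97), (1, 234)], [(1, 141)], [], [(1, 130)], [(1, 126)], [(1, 123)], [(1, 121)], [(1, 120)]], [], [], [], [], []],
  [[], [], [], [[(1, 162)], [(1, 9), (1, 104), (1, 235)], [(1, 135)], [], [(1, 126)], [(1, 123)], [(1, 121)], [(1, 120)]], [], [], [], []],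
  [[[], [(1, 141)], [(1, 14), (1, 169), (1, 230)], [(1, 9), (1, 224)], [(1, 126)], [(1, 123)], [(1, 121)], [(1, 120)]], [], [], [[(1, 15), (1, 230)], [(1, 141)], [(1, 9), (1, 98), (1, 235)], [], [(1, 126)], [(1, 123)], [(1, 121)], [(1, 120)]], [], [], [], []],
  [[], [[(1, 162)], [], [(1, 6), (1, 232)], [(1, 7), (1, 147), (1, 233)], [(1, 30), (1, 202)], [(1, 123)], [(1, 121)], [(1, 120)]], [[(1, 162)], [(1, 7), (1, 233)], [], [(1, 6), (1, 147), (1, 232)], [(1, 17), (1, 218)], [(1, 123)], [(1, 121)], [(1, 120)]], [], [[(1, 162)], [(1, 37), (1, 209)], [(1, 21), (1, 222)], [(1, 10), (1, 92), (1, 236)], [], [(1, 123)], [(1, 121)], [(1, 120)]], [], [], []],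
  [[], [], [], [[(1, 162)], [(1, 141)], [(1, 135)], [], [(1, 5), (1, 152), (1, 231)], [(1, 23), (1, 213)], [(1, 121)], [(1, 120)]], [], [[(1, 162)], [(1, 141)], [(1, 135)], [(1, 26), (1, 216)], [(1, 11), (1, 87), (1, 237)], [], [(1, 121)], [(1, 120)]], [], []],
  [[], [], [], [], [[(1, 162)], [(1, 141)], [(1, 135)], [(1, 130)], [], [(1, 4), (1, 156), (1, 230)], [(1, 28), (1, 209)], [(1, 120)]], [], [[(1, 162)], [(1, 141)], [(1, 135)], [(1, 130)], [(1, 30), (1, 211)], [(1, 12), (1, 83), (1, 238)], [], [(1, 120)]], []],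
  [[], [], [], [], [], [[(1, 162)], [(1, 141)], [(1, 135)], [(1, 130)], [(1, 126)], [], [(1, 3), (1, 159), (1, 229)], [(1, 32), (1, 206)]], [], [[(1, 162)], [(1, 141)], [(1, 135)], [(1, 130)], [(1, 126)], [(1, 33), (1, 207)], [(1, 13), (1, 80), (1, 239)], []]],
  [[], [], [], [], [], [], [[(1, 162)], [(1, 141)], [(1, 135)], [(1, 130)], [(1, 126)], [(1, 123)], [], [(1, 2), (1, 161), (1, 228)]], []]]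

/-- The steps, part 0. -/
def L0 : List (Step (Fin 240) 8) := [
  ⟨239, [238, 237, 236, 235, 234, 232, 233, 225, 231, 224, 230, 223, 229, 218, 222, 228, 217, 221, 227, 213, 216, 220, 203, 212, 215, 202, 209, 211], [7, 6, 5, 4, 3, 1, 2, 0, 3, 2, 4, 3, 1, 5, 4, 3, 2, 0, 6, 5, 4, 3, 1, 2, 7, 6, 5, 4], 3⟩,
  ⟨238, [237, 236, 235, 234, 232, 233, 225, 231, 224, 230, 223, 229, 218, 222, 228, 217, 221, 213, 216, 203, 212, 202, 209, 199, 193, 183, 161], [6, 5, 4, 3, 1, 2, 0, 3, 2, 4, 3, 1, 5, 4, 3, 2, 0, 6, 5, 4, 3, 1, 2, 3, 4, 5, 6], 7⟩,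
  ⟨237, [236, 235, 234, 232, 233, 225, 231, 224, 230, 223, 229, 218, 222, 217, 227, 213, 220, 203, 215, 211, 201, 208, 198, 192, 182, 160], [5, 4, 3, 1, 2, 0, 3, 2, 4, 3, 1, 5, 4, 3, 2, 0, 6, 5, 4, 3, 1, 2, 3, 4, 5, 6], 7⟩,
  ⟨236, [235, 234, 232, 233, 225, 231, 224, 230, 223, 218, 228, 221, 227, 216, 220, 212, 215, 202, 211, 201, 206, 196, 190, 180, 158], [4, 3, 1, 2, 0, 3, 2, 4, 3, 1, 5, 4, 3, 2, 0, 6, 5, 4, 3, 1, 2, 3, 4, 5, 6], 7⟩,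
  ⟨235, [234, 232, 233, 225, 231, 224, 229, 222, 228, 217, 221, 227, 216, 220, 215, 209, 199, 208, 198, 206, 196, 187, 177, 155], [3, 1, 2, 0, 3, 2, 4, 3, 1, 5, 4, 3, 2, 0, 6, 5, 4, 3, 1, 2, 3, 4, 5, 6], 7⟩,
  ⟨234, [232, 233, 225, 230, 223, 229, 222, 228, 221, 227, 213, 220, 212, 209, 211, 208, 193, 206, 192, 190, 187, 173, 151], [1, 2, 0, 3, 2, 4, 3, 1, 5, 4, 3, 2, 0, 6, 5, 4, 3, 1, 2, 3, 4, 5, 6], 7⟩,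
  ⟨232, [231, 224, 230, 223, 229, 222, 228, 221, 227, 220, 203, 202, 199, 201, 193, 198, 192, 196, 190, 187, 168, 140], [2, 0, 3, 2, 4, 3, 1, 5, 4, 3, 2, 0, 6, 5, 4, 3, 1, 2, 3, 4, 5, 6], 7⟩,
  ⟨233, [225, 231, 230, 229, 218, 228, 217, 227, 213, 216, 212, 215, 209, 211, 208, 206, 183, 182, 180, 177, 173, 146], [0, 1, 3, 2, 4, 3, 1, 5, 4, 3, 2, 0, 6, 5, 4, 3, 1, 2, 3, 4, 5, 6], 7⟩,
  ⟨225, [224, 223, 218, 222, 217, 221, 213, 216, 220, 212, 215, 209, 211, 208, 206, 161, 160, 158, 155, 151, 146], [1, 3, 2, 4, 3, 1, 5, 4, 3, 2, 0, 6, 5, 4, 3, 1, 2, 3, 4, 5, 6], 7⟩,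
  ⟨231, [224, 230, 229, 218, 228, 217, 227, 216, 203, 215, 202, 199, 201, 198, 183, 196, 182, 180, 177, 168, 134], [0, 3, 2, 4, 3, 1, 5, 4, 3, 2, 0, 6, 5, 4, 3, 1, 2, 3, 4, 5, 6], 7⟩]

/-- The steps, part 1. -/
def L1 : List (Step (Fin 240) 8) := [
  ⟨224, [223, 218, 222, 217, 221, 216, 220, 203, 215, 202, 199, 201, 198, 196, 161, 160, 158, 155, 140, 134], [3, 2, 4, 3, 1, 5, 4, 3, 2, 0, 6, 5, 4, 3, 1, 2, 3, 4, 5, 6], 7⟩,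
  ⟨230, [223, 229, 218, 228, 227, 213, 203, 212, 202, 211, 201, 193, 183, 192, 182, 190, 180, 173, 168, 129], [0, 2, 4, 3, 1, 5, 4, 3, 2, 0, 6, 5, 4, 3, 1, 2, 3, 4, 5, 6], 7⟩,
  ⟨223, [218, 222, 221, 213, 220, 203, 212, 202, 211, 201, 193, 192, 161, 190, 160, 158, 151, 140, 129], [2, 4, 3, 1, 5, 4, 3, 2, 0, 6, 5, 4, 3, 1, 2, 3, 4, 5, 6], 7⟩,
  ⟨229, [222, 228, 217, 227, 213, 203, 209, 199, 208, 193, 198, 183, 192, 182, 187, 177, 173, 168, 125], [0, 2, 3, 1, 5, 4, 3, 2, 0, 6, 5, 4, 3, 1, 2, 3, 4, 5, 6], 7⟩,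
  ⟨218, [217, 213, 216, 203, 212, 215, 202, 211, 201, 183, 161, 182, 160, 180, 158, 146, 134, 129], [4, 3, 1, 5, 4, 3, 2, 0, 6, 5, 4, 3, 1, 2, 3, 4, 5, 6], 7⟩,
  ⟨222, [217, 221, 213, 220, 203, 209, 199, 208, 193, 198, 192, 161, 160, 187, 155, 151, 140, 125], [2, 3, 1, 5, 4, 3, 2, 0, 6, 5, 4, 3, 1, 2, 3, 4, 5, 6], 7⟩,
  ⟨228, [221, 227, 216, 212, 202, 209, 199, 193, 206, 183, 196, 190, 180, 187, 177, 173, 168, 122], [0, 2, 3, 1, 4, 3, 2, 0, 6, 5, 4, 3, 1, 2, 3, 4, 5, 6], 7⟩,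
  ⟨217, [213, 216, 203, 215, 209, 199, 208, 198, 183, 161, 182, 160, 177, 155, 146, 134, 125], [3, 1, 5, 4, 3, 2, 0, 6, 5, 4, 3, 1, 2, 3, 4, 5, 6], 7⟩,
  ⟨221, [216, 220, 212, 202, 209, 199, 193, 206, 196, 161, 190, 187, 158, 155, 151, 140, 122], [2, 3, 1, 4, 3, 2, 0, 6, 5, 4, 3, 1, 2, 3, 4, 5, 6], 7⟩,
  ⟨227, [220, 215, 211, 201, 208, 198, 206, 192, 196, 182, 190, 180, 187, 177, 173, 168, 120], [0, 2, 3, 1, 4, 3, 2, 0, 5, 4, 3, 1, 2, 3, 4, 5, 6], 7⟩]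

/-- The steps, part 2. -/
def L2 : List (Step (Fin 240) 8) := [
  ⟨213, [203, 212, 209, 211, 208, 193, 183, 192, 161, 182, 160, 173, 151, 146, 129, 125], [1, 5, 4, 3, 2, 0, 6, 5, 4, 3, 1, 2, 3, 4, 5, 6], 7⟩,
  ⟨216, [212, 215, 202, 209, 199, 206, 183, 196, 161, 180, 158, 177, 155, 146, 134, 122], [3, 1, 4, 3, 2, 0, 6, 5, 4, 3, 1, 2, 3, 4, 5, 6], 7⟩,
  ⟨220, [215, 211, 201, 208, 198, 206, 192, 196, 190, 160, 187, 158, 155, 151, 140, 120], [2, 3, 1, 4, 3, 2, 0, 5, 4, 3, 1, 2, 3, 4, 5, 6], 7⟩,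
  ⟨203, [202, 199, 201, 193, 198, 183, 192, 161, 182, 160, 168, 140, 134, 129, 125], [5, 4, 3, 2, 0, 6, 5, 4, 3, 1, 2, 3, 4, 5, 6], 7⟩,
  ⟨212, [202, 209, 211, 193, 206, 183, 161, 190, 180, 158, 173, 151, 146, 129, 122], [1, 4, 3, 2, 0, 6, 5, 4, 3, 1, 2, 3, 4, 5, 6], 7⟩,
  ⟨215, [211, 201, 208, 198, 206, 196, 182, 160, 180, 158, 177, 155, 146, 134, 120], [3, 1, 4, 3, 2, 0, 5, 4, 3, 1, 2, 3, 4, 5, 6], 7⟩,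
  ⟨202, [199, 201, 193, 183, 196, 161, 190, 180, 158, 168, 140, 134, 129, 122], [4, 3, 2, 0, 6, 5, 4, 3, 1, 2, 3, 4, 5, 6], 7⟩,
  ⟨209, [199, 208, 193, 206, 183, 161, 187, 177, 155, 173, 151, 146, 125, 122], [1, 3, 2, 0, 6, 5, 4, 3, 1, 2, 3, 4, 5, 6], 7⟩,
  ⟨211, [201, 208, 206, 192, 182, 190, 160, 180, 158, 173, 151, 146, 129, 120], [1, 4, 3, 2, 0, 5, 4, 3, 1, 2, 3, 4, 5, 6], 7⟩,
  ⟨199, [193, 198, 183, 196, 161, 187, 177, 155, 168, 140, 134, 125, 122], [3, 2, 0, 6, 5, 4, 3, 1, 2, 3, 4, 5, 6], 7⟩]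

/-- The steps, part 3. -/
def L3 : List (Step (Fin 240) 8) := [
  ⟨201, [198, 192, 196, 182, 190, 160, 180, 158, 168, 140, 134, 129, 120], [4, 3, 2, 0, 5, 4, 3, 1, 2, 3, 4, 5, 6], 7⟩,
  ⟨208, [198, 206, 192, 182, 160, 187, 177, 155, 173, 151, 146, 125, 120], [1, 3, 2, 0, 5, 4, 3, 1, 2, 3, 4, 5, 6], 7⟩,
  ⟨193, [183, 192, 161, 190, 187, 173, 151, 168, 140, 129, 125, 122], [2, 0, 6, 5, 4, 3, 1, 2, 3, 4, 5, 6], 7⟩,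
  ⟨198, [192, 196, 182, 160, 187, 177, 155, 168, 140, 134, 125, 120], [3, 2, 0, 5, 4, 3, 1, 2, 3, 4, 5, 6], 7⟩,
  ⟨206, [196, 190, 180, 187, 158, 177, 155, 173, 151, 146, 122, 120], [1, 3, 2, 0, 4, 3, 1, 2, 3, 4, 5, 6], 7⟩,
  ⟨183, [161, 182, 180, 177, 173, 168, 146, 134, 129, 125, 122], [0, 6, 5, 4, 3, 1, 2, 3, 4, 5, 6], 7⟩,
  ⟨192, [182, 190, 160, 187, 173, 151, 168, 140, 129, 125, 120], [2, 0, 5, 4, 3, 1, 2, 3, 4, 5, 6], 7⟩,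
  ⟨196, [190, 180, 187, 158, 177, 155, 168, 140, 134, 122, 120], [3, 2, 0, 4, 3, 1, 2, 3, 4, 5, 6], 7⟩,
  ⟨161, [160, 158, 155, 151, 140, 146, 134, 129, 125, 122], [6, 5, 4, 3, 1, 2, 3, 4, 5, 6], 7⟩,
  ⟨182, [160, 180, 177, 173, 168, 146, 134, 129, 125, 120], [0, 5, 4, 3, 1, 2, 3, 4, 5, 6], 7⟩]

/-- The steps, part 4. -/
def L4 : List (Step (Fin 240) 8) := [
  ⟨190, [180, 187, 158, 173, 151, 168, 140, 129, 122, 120], [2, 0, 4, 3, 1, 2, 3, 4, 5, 6], 7⟩,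
  ⟨160, [158, 155, 151, 140, 146, 134, 129, 125, 120], [5, 4, 3, 1, 2, 3, 4, 5, 6], 7⟩,
  ⟨180, [158, 177, 173, 168, 146, 134, 129, 122, 120], [0, 4, 3, 1, 2, 3, 4, 5, 6], 7⟩,
  ⟨187, [177, 155, 173, 151, 168, 140, 125, 122, 120], [2, 0, 3, 1, 2, 3, 4, 5, 6], 7⟩,
  ⟨158, [155, 151, 140, 146, 134, 129, 122, 120], [4, 3, 1, 2, 3, 4, 5, 6], 7⟩,
  ⟨177, [155, 173, 168, 146, 134, 125, 122, 120], [0, 3, 1, 2, 3, 4, 5, 6], 7⟩,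
  ⟨155, [151, 140, 146, 134, 125, 122, 120], [3, 1, 2, 3, 4, 5, 6], 7⟩,
  ⟨173, [151, 168, 146, 129, 125, 122, 120], [0, 1, 2, 3, 4, 5, 6], 7⟩,
  ⟨151, [140, 146, 129, 125, 122, 120], [1, 2, 3, 4, 5, 6], 7⟩,
  ⟨168, [140, 134, 129, 125, 122, 120], [0, 2, 3, 4, 5, 6], 7⟩]

/-- The steps, part 5. -/
def L5 : List (Step (Fin 240) 8) := [
  ⟨140, [134, 129, 125, 122, 120], [2, 3, 4, 5, 6], 7⟩,
  ⟨146, [134, 129, 125, 122, 120], [1, 3, 4, 5, 6], 7⟩,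
  ⟨134, [129, 125, 122, 120], [3, 4, 5, 6], 7⟩,
  ⟨129, [125, 122, 120], [4, 5, 6], 7⟩,
  ⟨125, [122, 120], [5, 6], 7⟩,
  ⟨122, [120], [6], 7⟩,
  ⟨120, [], [], 7⟩,
  ⟨226, [219, 214, 210, 200, 207, 197, 205, 191, 195, 181, 189, 179, 186, 176, 172, 167], [0, 2, 3, 1, 4, 3, 2, 0, 5, 4, 3, 1, 2, 3, 4, 5], 6⟩,
  ⟨219, [214, 210, 200, 207, 197, 205, 191, 195, 189, 159, 186, 157, 154, 150, 139], [2, 3, 1, 4, 3, 2, 0, 5, 4, 3, 1, 2, 3, 4, 5], 6⟩,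
  ⟨214, [210, 200, 207, 197, 205, 195, 181, 159, 179, 157, 176, 154, 145, 133], [3, 1, 4, 3, 2, 0, 5, 4, 3, 1, 2, 3, 4, 5], 6⟩]

/-- The steps, part 6. -/
def L6 : List (Step (Fin 240) 8) := [
  ⟨210, [200, 207, 205, 191, 181, 189, 159, 179, 157, 172, 150, 145, 128], [1, 4, 3, 2, 0, 5, 4, 3, 1, 2, 3, 4, 5], 6⟩,
  ⟨200, [197, 191, 195, 181, 189, 159, 179, 157, 167, 139, 133, 128], [4, 3, 2, 0, 5, 4, 3, 1, 2, 3, 4, 5], 6⟩,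
  ⟨207, [197, 205, 191, 181, 159, 186, 176, 154, 172, 150, 145, 124], [1, 3, 2, 0, 5, 4, 3, 1, 2, 3, 4, 5], 6⟩,
  ⟨197, [191, 195, 181, 159, 186, 176, 154, 167, 139, 133, 124], [3, 2, 0, 5, 4, 3, 1, 2, 3, 4, 5], 6⟩,
  ⟨205, [195, 189, 179, 186, 157, 176, 154, 172, 150, 145, 121], [1, 3, 2, 0, 4, 3, 1, 2, 3, 4, 5], 6⟩,
  ⟨191, [181, 189, 159, 186, 172, 150, 167, 139, 128, 124], [2, 0, 5, 4, 3, 1, 2, 3, 4, 5], 6⟩,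
  ⟨195, [189, 179, 186, 157, 176, 154, 167, 139, 133, 121], [3, 2, 0, 4, 3, 1, 2, 3, 4, 5], 6⟩,
  ⟨181, [159, 179, 176, 172, 167, 145, 133, 128, 124], [0, 5, 4, 3, 1, 2, 3, 4, 5], 6⟩,
  ⟨189, [179, 186, 157, 172, 150, 167, 139, 128, 121], [2, 0, 4, 3, 1, 2, 3, 4, 5], 6⟩,
  ⟨159, [157, 154, 150, 139, 145, 133, 128, 124], [5, 4, 3, 1, 2, 3, 4, 5], 6⟩]

/-- The steps, part 7. -/
def L7 : List (Step (Fin 240) 8) := [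
  ⟨179, [157, 176, 172, 167, 145, 133, 128, 121], [0, 4, 3, 1, 2, 3, 4, 5], 6⟩,
  ⟨186, [176, 154, 172, 150, 167, 139, 124, 121], [2, 0, 3, 1, 2, 3, 4, 5], 6⟩,
  ⟨157, [154, 150, 139, 145, 133, 128, 121], [4, 3, 1, 2, 3, 4, 5], 6⟩,
  ⟨176, [154, 172, 167, 145, 133, 124, 121], [0, 3, 1, 2, 3, 4, 5], 6⟩,
  ⟨154, [150, 139, 145, 133, 124, 121], [3, 1, 2, 3, 4, 5], 6⟩,
  ⟨172, [150, 167, 145, 128, 124, 121], [0, 1, 2, 3, 4, 5], 6⟩,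
  ⟨150, [139, 145, 128, 124, 121], [1, 2, 3, 4, 5], 6⟩,
  ⟨167, [139, 133, 128, 124, 121], [0, 2, 3, 4, 5], 6⟩,
  ⟨139, [133, 128, 124, 121], [2, 3, 4, 5], 6⟩,
  ⟨145, [133, 128, 124, 121], [1, 3, 4, 5], 6⟩]

/-- The steps, part 8. -/
def L8 : List (Step (Fin 240) 8) := [
  ⟨133, [128, 124, 121], [3, 4, 5], 6⟩,
  ⟨128, [124, 121], [4, 5], 6⟩,
  ⟨124, [121], [5], 6⟩,
  ⟨121, [], [], 6⟩,
  ⟨204, [194, 188, 178, 185, 156, 175, 153, 171, 149, 144], [1, 3, 2, 0, 4, 3, 1, 2, 3, 4], 5⟩,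
  ⟨194, [188, 178, 185, 156, 175, 153, 166, 138, 132], [3, 2, 0, 4, 3, 1, 2, 3, 4], 5⟩,
  ⟨188, [178, 185, 156, 171, 149, 166, 138, 127], [2, 0, 4, 3, 1, 2, 3, 4], 5⟩,
  ⟨178, [156, 175, 171, 166, 144, 132, 127], [0, 4, 3, 1, 2, 3, 4], 5⟩,
  ⟨185, [175, 153, 171, 149, 166, 138, 123], [2, 0, 3, 1, 2, 3, 4], 5⟩,
  ⟨156, [153, 149, 138, 144, 132, 127], [4, 3, 1, 2, 3, 4], 5⟩]

/-- The steps, part 9. -/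
def L9 : List (Step (Fin 240) 8) := [
  ⟨175, [153, 171, 166, 144, 132, 123], [0, 3, 1, 2, 3, 4], 5⟩,
  ⟨153, [149, 138, 144, 132, 123], [3, 1, 2, 3, 4], 5⟩,
  ⟨171, [149, 166, 144, 127, 123], [0, 1, 2, 3, 4], 5⟩,
  ⟨149, [138, 144, 127, 123], [1, 2, 3, 4], 5⟩,
  ⟨166, [138, 132, 127, 123], [0, 2, 3, 4], 5⟩,
  ⟨138, [132, 127, 123], [2, 3, 4], 5⟩,
  ⟨144, [132, 127, 123], [1, 3, 4], 5⟩,
  ⟨132, [127, 123], [3, 4], 5⟩,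
  ⟨127, [123], [4], 5⟩,
  ⟨123, [], [], 5⟩]

/-- The steps, part 10. -/
def L10 : List (Step (Fin 240) 8) := [
  ⟨184, [174, 152, 170, 148, 165, 137], [2, 0, 3, 1, 2, 3], 4⟩,
  ⟨174, [152, 170, 165, 143, 131], [0, 3, 1, 2, 3], 4⟩,
  ⟨152, [148, 137, 143, 131], [3, 1, 2, 3], 4⟩,
  ⟨170, [148, 165, 143, 126], [0, 1, 2, 3], 4⟩,
  ⟨148, [137, 143, 126], [1, 2, 3], 4⟩,
  ⟨165, [137, 131, 126], [0, 2, 3], 4⟩,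
  ⟨137, [131, 126], [2, 3], 4⟩,
  ⟨143, [131, 126], [1, 3], 4⟩,
  ⟨131, [126], [3], 4⟩,
  ⟨126, [], [], 4⟩]

/-- The steps, part 11. -/
def L11 : List (Step (Fin 240) 8) := [
  ⟨169, [147, 164, 142], [0, 1, 2], 3⟩,
  ⟨147, [136, 142], [1, 2], 3⟩,
  ⟨164, [136, 130], [0, 2], 3⟩,
  ⟨136, [130], [2], 3⟩,
  ⟨142, [130], [1], 3⟩,
  ⟨130, [], [], 3⟩,
  ⟨163, [135], [0], 2⟩,
  ⟨135, [], [], 2⟩,
  ⟨141, [], [], 1⟩,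
  ⟨162, [], [], 0⟩]

/-- The steps. -/
def L : List (Step (Fin 240) 8) := L0 ++ L1 ++ L2 ++ L3 ++ L4 ++ L5 ++ L6 ++ L7 ++ L8 ++ L9 ++ L10 ++ L11

theorem chk0 : Sys.stepsChk C R ([] : List (Fin 240)) L0 = true := by decide +kernel

theorem chk1 : Sys.stepsChk C R ((L0).map Step.root) L1 = true := by decide +kernel

theorem chk2 : Sys.stepsChk C R ((L0 ++ L1).map Step.root) L2 = true := by decide +kernel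

theorem chk3 : Sys.stepsChk C R ((L0 ++ L1 ++ L2).map Step.root) L3 = true := by decide +kernel

theorem chk4 : Sys.stepsChk C R ((L0 ++ L1 ++ L2 ++ L3).map Step.root) L4 = true := by decide +kernel

theorem chk5 : Sys.stepsChk C R ((L0 ++ L1 ++ L2 ++ L3 ++ L4).map Step.root) L5 = true := by decide +kernel

theorem chk6 : Sys.stepsChk C R ((L0 ++ L1 ++ L2 ++ L3 ++ L4 ++ L5).map Step.root) L6 = true := by decide +kernel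

theorem chk7 : Sys.stepsChk C R ((L0 ++ L1 ++ L2 ++ L3 ++ L4 ++ L5 ++ L6).map Step.root) L7 = true := by decide +kernel

theorem chk8 : Sys.stepsChk C R ((L0 ++ L1 ++ L2 ++ L3 ++ L4 ++ L5 ++ L6 ++ L7).map Step.root) L8 = true := by decide +kernel

theorem chk9 : Sys.stepsChk C R ((L0 ++ L1 ++ L2 ++ L3 ++ L4 ++ L5 ++ L6 ++ L7 ++ L8).map Step.root) L9 = true := by decide +kernel

theorem chk10 : Sys.stepsChk C R ((L0 ++ L1 ++ L2 ++ L3 ++ L4 ++ L5 ++ L6 ++ L7 ++ L8 ++ L9).map Step.root) L10 = true := by decide +kernel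

theorem chk11 : Sys.stepsChk C R ((L0 ++ L1 ++ L2 ++ L3 ++ L4 ++ L5 ++ L6 ++ L7 ++ L8 ++ L9 ++ L10).map Step.root) L11 = true := by decide +kernel

theorem chkTables : Sys.tablesChk (l := 8) C R 28 spanW = true := by decide +kernel

theorem rows_eq : C = List.ofFn fun i : Fin chevE8.rank => List.ofFn (cartanMat chevE8 i) := by decide +kernel

theorem roots_eq : R = List.ofFn fun r : Fin chevE8.nroots => List.ofFn fun i : Fin chevE8.rank => Chev.DataE8.cert.v r.val i.val := by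
  decide +kernel

theorem sgn : ∀ r < chevE8.nroots, (0 : Fin chevE8.rank → ℤ) ≤ (fun i => Chev.DataE8.cert.v r i.val) ∨
    (fun i : Fin chevE8.rank => Chev.DataE8.cert.v r i.val) ≤ 0 := by
  simp only [Pi.le_def, Pi.zero_apply]
  decide +kernel

end Cfsg.Agent.MinRep.E8
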