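import Cfsg.Agent.Lib.MinRep.Bound

/-
Finite checks on lists of integers implying `Tables`, `Steps` and `Connected`.

* `TabOK`: the lists are the coordinates of the roots and of the form.
* `connected_of_parent`, `tables_of_check`, `steps_of_check`.
-/

set_option autoImplicit false
set_option linter.unusedSectionVars false

namespace Cfsg.Agent.MinRep

/-! ### Lists -/

/-- Inner product. -/
def ldot : List ℤ → List ℤ → ℤ
  | a :: u, b :: w => a * b + ldot u w
  | _, _ => 0

/-- Difference. -/
def lsub : List ℤ → List ℤ → List ℤ := List.zipWith (· - ·)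

/-- Sum. -/
def ladd : List ℤ → List ℤ → List ℤ := List.zipWith (· + ·)

/-- The form with the given rows. -/
def lip (C : List (List ℤ)) (u w : List ℤ) : ℤ := ldot u (C.map fun row => ldot row w)

/-- All coordinates are non-negative. -/
def lpos (u : List ℤ) : Bool := u.all fun a => decide (0 ≤ a)

/-- The unit vector. -/
def lunit (l k : ℕ) : List ℤ := (List.range l).map fun m => if m = k then 1 else 0

/-- The reflection in the `k`-th simple root. -/
def lrefl (C : List (List ℤ)) (k : ℕ) (u : List ℤ) : List ℤ :=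
  lsub u ((lunit C.length k).map fun a => ldot (C.getD k []) u * a)

theorem ldot_ofFn : ∀ {n : ℕ} (f g : Fin n → ℤ), ldot (List.ofFn f) (List.ofFn g) = ∑ i, f i * g i
  | 0, f, g => by simp [ldot]
  | n + 1, f, g => by rw [List.ofFn_succ, List.ofFn_succ, ldot, ldot_ofFn, Fin.sum_univ_succ]

theorem zipWith_ofFn {n : ℕ} (op : ℤ → ℤ → ℤ) (f g : Fin n → ℤ) :
    List.zipWith op (List.ofFn f) (List.ofFn g) = List.ofFn fun i => op (f i) (g i) := by
  apply List.ext_getElem <;> simp

theorem lunit_ofFn {l : ℕ} (k : Fin l) : lunit l k.val = List.ofFn (Pi.single k (1 : ℤ) : Fin l → ℤ) := by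
  apply List.ext_getElem
  · simp [lunit]
  · intro m h1 h2
    simp [lunit, Pi.single_apply, Fin.ext_iff]

theorem getD_ofFn {α : Type*} {n : ℕ} (f : Fin n → α) (d : α) (i : Fin n) :
    (List.ofFn f).getD i.val d = f i := by
  rw [List.getD_eq_getElem _ _ (by simp), List.getElem_ofFn]

namespace Sys

variable {G : Type*} [Group G] {F : Type*} [Field F] [Fintype F] {n l : ℕ} (S : Sys G F (Fin n) l)

/-- The coordinates as a list. -/
def lv (r : Fin n) : List ℤ := List.ofFn (S.co r)

/-- The lists of a system. -/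
structure TabOK (C R : List (List ℤ)) : Prop where
  rows : C = List.ofFn fun i => List.ofFn (S.C i)
  roots : R = List.ofFn fun r => List.ofFn (S.co r)

variable {S} {C R : List (List ℤ)}

theorem TabOK.root (h : TabOK S C R) (r : Fin n) : R.getD r.val [] = S.lv r := by rw [h.roots, getD_ofFn]; rfl

theorem TabOK.lip_eq (h : TabOK S C R) (u w : Fin l → ℤ) :
    lip C (List.ofFn u) (List.ofFn w) = ipv S.C u w := by
  have : C.map (fun row => ldot row (List.ofFn w)) = List.ofFn fun i => ∑ j, S.C i j * w j := by
    rw [h.rows, List.map_ofFn]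
    exact congrArg List.ofFn (funext fun i => ldot_ofFn _ _)
  rw [lip, this, ldot_ofFn]
  rfl

theorem TabOK.ip_eq (h : TabOK S C R) (r s : Fin n) : lip C (R.getD r.val []) (R.getD s.val []) = S.ip r s := by
  rw [h.root, h.root]
  exact h.lip_eq _ _

theorem TabOK.ip_simple (h : TabOK S C R) (i : Fin l) (s : Fin n) :
    ldot (C.getD i.val []) (R.getD s.val []) = S.ip (S.simple i) s := by
  rw [h.rows, getD_ofFn, h.root, lv, ldot_ofFn, ip, S.co_simple, S.ipv_single_left]
  rfl

theorem lv_inj {r s : Fin n} (h : S.lv r = S.lv s) : r = s := S.co_inj (List.ofFn_injective h)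

theorem lv_ng (r : Fin n) : S.lv (S.ng r) = (S.lv r).map fun a => -a := by
  rw [lv, lv, List.map_ofFn, S.co_ng]
  rfl

theorem lv_sub {a b k : Fin n} (h : S.co k = S.co a - S.co b) : S.lv k = lsub (S.lv a) (S.lv b) := by
  rw [lv, lv, lv, lsub, zipWith_ofFn, h]
  rfl

theorem lv_add {a b k : Fin n} (h : S.co k = S.co a + S.co b) : S.lv k = ladd (S.lv a) (S.lv b) := by
  rw [lv, lv, lv, ladd, zipWith_ofFn, h]
  rfl

theorem lv_simple (i : Fin l) : S.lv (S.simple i) = lunit l i.val := by
  rw [lv, S.co_simple, lunit_ofFn]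

theorem lpos_iff (r : Fin n) : lpos (S.lv r) = true ↔ S.pos r := by
  simp [lpos, lv, pos, Pi.le_def, List.mem_ofFn]

theorem TabOK.lrefl_eq (h : TabOK S C R) (k : Fin l) (r : Fin n) :
    lrefl C k.val (S.lv r) = S.lv (S.rf (S.simple k) r) := by
  have hl : C.length = l := by simp [h.rows]
  have h1 := h.ip_simple k r
  rw [h.root] at h1
  rw [lrefl, hl, lunit_ofFn, h1, List.map_ofFn, lv, lv, lsub, zipWith_ofFn, S.co_rf, S.co_simple]
  congr 1

theorem TabOK.lwim_eq (h : TabOK S C R) : ∀ (w : List (Fin l)) (r : Fin n),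
    w.foldr (fun k u => lrefl C k.val u) (S.lv r) = S.lv (wim S w r)
  | [], r => rfl
  | k :: w, r => by
    rw [List.foldr_cons, h.lwim_eq w r, h.lrefl_eq]
    rfl

theorem TabOK.lwpre_eq (h : TabOK S C R) : ∀ (w : List (Fin l)) (r : Fin n),
    w.foldl (fun u k => lrefl C k.val u) (S.lv r) = S.lv (wpre S w r)
  | [], r => rfl
  | k :: w, r => by
    rw [List.foldl_cons, h.lrefl_eq, h.lwpre_eq w]
    rfl

/-! ### Steps -/

/-- The check of one step. -/
def stepChk (C R : List (List ℤ)) (pre : List (Fin n)) (s : Step (Fin n) l) : Bool :=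
  let V := fun r : Fin n => R.getD r.val []
  let root := V s.root
  let preV := pre.map V
  let TV := s.T.map V
  let unit := lunit l s.node.val
  lpos root &&
    TV.all (fun a => decide (lip C root a = 1) && !TV.contains (lsub root a)) &&
    decide s.T.Nodup &&
    TV.all (fun a => preV.all fun g => decide (g ≠ (lsub root a).map fun b => -b) &&
      (decide (lip C (lsub root a) g ≠ -1) || preV.contains (ladd (lsub root a) g))) &&
    decide (s.word.foldr (fun k u => lrefl C k.val u) unit = root) &&
    (preV ++ TV).all (fun g =>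
      let u := s.word.foldl (fun u k => lrefl C k.val u) g
      lpos u && decide (u ≠ unit))

/-- The check of all steps. -/
def stepsChk (C R : List (List ℤ)) : List (Fin n) → List (Step (Fin n) l) → Bool
  | _, [] => true
  | pre, s :: rest => stepChk C R pre s && stepsChk C R (pre ++ [s.root]) rest

theorem TabOK.step_ok (h : TabOK S C R) {pre : List (Fin n)} {s : Step (Fin n) l}
    (hs : stepChk C R pre s = true) : s.Ok S pre := by
  simp only [stepChk, Bool.and_eq_true, List.all_eq_true, List.mem_map, forall_exists_index, and_imp,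
    forall_apply_eq_imp_iff₂, decide_eq_true_eq, Bool.not_eq_true', Bool.or_eq_true, h.root, List.mem_append,
    List.contains_eq_mem, decide_eq_false_iff_not, not_exists, not_and] at hs
  obtain ⟨⟨⟨⟨⟨hpos, hT⟩, hnd⟩, hcl⟩, hw⟩, hexc⟩ := hs
  have hip : ∀ a ∈ s.T, S.ip s.root a = 1 := fun a ha => by
    have := (hT a ha).1
    rwa [← h.root, ← h.root, h.ip_eq] at this
  refine ⟨(lpos_iff _).1 hpos, ⟨hip, hnd, fun a ha hm => (hT a ha).2 _ hm (lv_sub (co_part (hip a ha)))⟩,
    fun a ha g hg => ?_, ?_, fun g hg => ?_⟩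
  · obtain ⟨h1, h2⟩ := hcl a ha g hg
    rw [← lv_sub (co_part (hip a ha))] at h1 h2
    refine ⟨fun e => h1 (by rw [e, lv_ng]), fun k hk => ?_⟩
    rcases h2 with h2 | ⟨k', hk', e⟩
    · exact absurd ((h.lip_eq _ _).trans (S.ip_of_add hk)) h2
    · rw [← lv_add hk] at e
      exact lv_inj e ▸ hk'
  · rw [← lv_simple (S := S), h.lwim_eq] at hw
    exact lv_inj hw
  · have := hexc (S.lv g) ((List.mem_append.1 hg).imp (fun hh => ⟨g, hh, rfl⟩) fun hh => ⟨g, hh, rfl⟩)
    rw [h.lwpre_eq, lpos_iff, ← lv_simple (S := S)] at this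
    exact ⟨this.1, fun e => this.2 (by rw [e])⟩

theorem TabOK.steps (h : TabOK S C R) : ∀ (L : List (Step (Fin n) l)) (pre : List (Fin n)),
    stepsChk C R pre L = true → Steps S pre L
  | [], _, _ => trivial
  | s :: L, pre, hL => by
    simp only [stepsChk, Bool.and_eq_true] at hL
    exact ⟨h.step_ok hL.1, h.steps L _ hL.2⟩

/-! ### Tables -/

/-- A property invariant under reflections, true on simple roots, holds for all roots. -/
theorem forall_of_simple {P : Fin n → Prop} (hrf : ∀ a b, P b → P (S.rf a b)) (hs : ∀ i, P (S.simple i))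
    (r : Fin n) : P r := by
  have hpos : ∀ m : ℕ, ∀ b, S.pos b → (∑ i, S.co b i).toNat ≤ m → P b := by
    intro m
    induction m with
    | zero =>
      intro b hb hm
      exfalso
      refine S.co_ne b (funext fun i => ?_)
      have h1 := Finset.single_le_sum (f := fun i => S.co b i) (fun j _ => hb j) (Finset.mem_univ i)
      have h2 : (0 : ℤ) ≤ S.co b i := hb i
      simp only [Pi.zero_apply]
      omega
    | succ m ih =>
      intro b hb hm
      by_cases hns : ∀ i, b ≠ S.simple i
      · obtain ⟨i, hi⟩ := S.exists_descend hb hns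
        have hp := S.pos_rf hb (hns i)
        have := hrf (S.simple i) _ (ih _ hp (by
          have h0 : 0 ≤ ∑ k, S.co (S.rf (S.simple i) b) k := Finset.sum_nonneg fun k _ => hp k
          rw [S.rf_sub hi, S.co_simple] at h0 ⊢
          simp only [Pi.sub_apply, Finset.sum_sub_distrib, Finset.sum_pi_single', Finset.mem_univ, if_true] at h0 ⊢
          omega))
        rwa [S.rf_rf] at this
      · push Not at hns
        obtain ⟨i, rfl⟩ := hns
        exact hs i
  by_cases hb : S.pos r
  · exact hpos _ r hb le_rfl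
  · have := hrf (S.ng r) _ (hpos _ (S.ng r) (S.pos_ng_iff.2 hb) le_rfl)
    rwa [S.rf_self, S.ng_ng] at this

/-- The checks for `Tables`: `spanW` gives the combination for `(i, j, k)`. -/
def tablesChk (C R : List (List ℤ)) (N : ℕ) (spanW : List (List (List (List (ℤ × Fin n))))) : Bool :=
  let P := C.map fun row => R.map fun s => ldot row s
  let L := List.finRange l
  let Cij := fun i j : Fin l => (C.getD i.val []).getD j.val 0
  L.all (fun i =>
    decide (((P.getD i.val []).filter fun a => decide (a = 1)).length = 2 * N) &&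
    (List.finRange n).all (fun s => decide ((P.getD i.val []).getD s.val 0 ≠ 0) ||
      (List.finRange n).any fun u => decide ((P.getD i.val []).getD u.val 0 = 0) &&
        decide (lip C (R.getD s.val []) (R.getD u.val []) = 1)) &&
    L.any (fun j => decide (Cij i j = -1)) &&
    L.all (fun j => decide (Cij i j ≠ -1) ||
      (L.any (fun k => decide (k ≠ i) && decide (k ≠ j) &&
          (decide (Cij i k = -1) && decide (Cij j k = 0) || decide (Cij j k = -1) && decide (Cij i k = 0))) &&
        L.all fun k =>
          let W := ((spanW.getD i.val []).getD j.val []).getD k.val []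
          W.all (fun p => decide ((P.getD i.val []).getD p.2.val 0 = 0)) &&
            decide (W.foldr (fun p u => ladd ((R.getD p.2.val []).map (p.1 * ·)) u) (List.replicate l 0) =
              ladd (lunit l k.val) ((lunit l j.val).map (Cij i k * ·))))))

theorem TabOK.tables (h : TabOK S C R) {N : ℕ} {spanW : List (List (List (List (ℤ × Fin n))))}
    (hc : tablesChk (l := l) C R N spanW = true)
    (hgram : ∀ y : Fin l → ℝ, (∀ i, 0 ≤ y i) → ∑ i, ∑ j, (S.C i j : ℝ) * (y i * y j) ≤ 0 → y = 0) :
    S.Tables N := by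
  classical
  have hC : ∀ i j : Fin l, (C.getD i.val []).getD j.val 0 = S.C i j := fun i j => by
    rw [h.rows, getD_ofFn, getD_ofFn]
  have hP : ∀ (i : Fin l) (s : Fin n),
      ((C.map fun row => R.map fun s => ldot row s).getD i.val []).getD s.val 0 = S.ip (S.simple i) s := by
    intro i s
    rw [h.rows, List.map_ofFn, getD_ofFn]
    simp only [Function.comp_apply]
    rw [h.roots, List.map_ofFn, getD_ofFn, ← h.ip_simple i s, h.rows, getD_ofFn, h.root]
    rfl
  simp only [tablesChk, List.all_eq_true, List.mem_finRange, true_imp_iff, Bool.and_eq_true, Bool.or_eq_true,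
    decide_eq_true_eq, List.any_eq_true, true_and, hC, hP] at hc
  refine ⟨forall_of_simple (S := S) (fun a b hb => ?_) (fun i => ?_),
    forall_of_simple (S := S) (P := fun r => ∀ s, S.ip r s = 0 → ∃ u, S.ip r u = 0 ∧ S.ip s u = 1) (fun a b hb s hs => ?_)
      (fun i s hs => ?_),
    fun i => ?_, fun i j hij => ?_, fun i j hij k => ?_, hgram⟩
  · rw [← hb]
    refine Finset.card_bij (fun s _ => S.rf a s) (fun s hs => ?_) (fun s _ t _ e => S.rf_inj a e) fun t ht => ?_
    · simp only [Finset.mem_filter, Finset.mem_univ, true_and] at hs ⊢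
      rwa [← S.ip_rf a, S.rf_rf]
    · refine ⟨S.rf a t, ?_, S.rf_rf a t⟩
      simp only [Finset.mem_filter, Finset.mem_univ, true_and] at ht ⊢
      rwa [S.ip_rf]
  · have h1 := (hc i).1.1.1
    rw [h.rows, List.map_ofFn, getD_ofFn] at h1
    simp only [Function.comp_apply] at h1
    rw [h.roots, List.map_ofFn] at h1
    rw [← h1, show (List.ofFn ((fun s => ldot (List.ofFn (S.C i)) s) ∘ fun r => List.ofFn (S.co r))) =
        List.ofFn (fun s => S.ip (S.simple i) s) from congrArg List.ofFn (funext fun s => by
          rw [← h.ip_simple i s, h.rows, getD_ofFn, h.root]; rfl),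
      ← List.countP_eq_length_filter]
    rw [List.ofFn_eq_map, List.countP_map, List.countP_eq_length_filter, ← List.toFinset_card_of_nodup
      ((List.nodup_finRange n).filter _)]
    congr 1
    ext s
    simp
  · obtain ⟨u, h1, h2⟩ := hb (S.rf a s) (by rwa [← S.ip_rf a, S.rf_rf])
    exact ⟨S.rf a u, by rwa [S.ip_rf], by rwa [← S.ip_rf a, S.rf_rf]⟩
  · obtain ⟨u, h1, h2⟩ := ((hc i).1.1.2 s).resolve_left (fun e => e hs)
    exact ⟨u, h1, by rwa [← h.ip_eq]⟩
  · exact (hc i).1.2
  · obtain ⟨k, ⟨h1, h2⟩, h3⟩ := (((hc i).2 j).resolve_left (fun e => e hij)).1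
    exact ⟨k, h1, h2, h3⟩
  · obtain ⟨h1, h2⟩ := (((hc i).2 j).resolve_left (fun e => e hij)).2 k
    have hfold : ∀ W : List (ℤ × Fin n),
        W.foldr (fun p u => ladd ((R.getD p.2.val []).map (p.1 * ·)) u) (List.replicate l 0) =
          List.ofFn (W.map fun p => p.1 • S.co p.2).sum := by
      intro W
      induction W with
      | nil =>
        rw [List.foldr_nil, List.map_nil, List.sum_nil]
        exact (List.ofFn_const l (0 : ℤ)).symm
      | cons p W ih =>
        rw [List.foldr_cons, ih, h.root, lv, List.map_ofFn, ladd, zipWith_ofFn, List.map_cons, List.sum_cons]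
        rfl
    rw [hfold, lunit_ofFn, lunit_ofFn, List.map_ofFn, ladd, zipWith_ofFn] at h2
    have h3 := List.ofFn_injective h2
    rw [show S.co (S.simple k) + S.C i k • S.co (S.simple j) =
      fun m => (Pi.single k 1 : Fin l → ℤ) m + ((S.C i k * ·) ∘ (Pi.single j 1 : Fin l → ℤ)) m by
        rw [S.co_simple, S.co_simple]; rfl, ← h3]
    refine list_sum_mem fun v hv => ?_
    obtain ⟨p, hp, rfl⟩ := List.mem_map.1 hv
    refine zsmul_mem (AddSubgroup.subset_closure ?_) _
    exact ⟨p.2, h1 p hp, rfl⟩

/-- Connectedness from a parent map. -/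
theorem TabOK.connected (h : TabOK S C R) (base : Fin l) (par : Fin l → Fin l)
    (h1 : ∀ i, i = base ∨ (C.getD i.val []).getD (par i).val 0 = -1) (h2 : ∀ i, par^[l] i = base) :
    Connected S := by
  intro P hP i j hi
  have hstep : ∀ a, P a ↔ P (if a = base then a else par a) := fun a => by
    split_ifs with e
    · exact Iff.rfl
    · have hc : S.C a (par a) = -1 := by
        have := (h1 a).resolve_left e
        rwa [h.rows, getD_ofFn, getD_ofFn] at this
      exact ⟨hP _ _ hc, hP _ _ (by rw [S.C_symm, hc])⟩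
  have hbase : ∀ m a, par^[m] a = base → (P a ↔ P base) := by
    intro m
    induction m with
    | zero => intro a ha; rw [← ha]; rfl
    | succ m ih =>
      intro a ha
      by_cases e : a = base
      · rw [e]
      · rw [hstep a, if_neg e]
        exact ih _ (by rwa [Function.iterate_succ_apply] at ha)
  exact (hbase l j (h2 j)).2 ((hbase l i (h2 i)).1 hi)

end Sys

end Cfsg.Agent.MinRep
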