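import Cfsg.Agent.Lib.MinRep.CertE8

/-
The minimal degree of the irreducible representations of E8.

* `E8.degree_le`.
-/

set_option autoImplicit false
set_option maxHeartbeats 1000000

namespace Cfsg.Agent.MinRep.E8

open Cfsg.Lie Cfsg.Agent.Chev Sys

theorem gram (y : Fin 8 → ℝ) (h : ∑ i, ∑ j, (((C.getD i.val []).getD j.val 0 : ℤ) : ℝ) * (y i * y j) ≤ 0) : y = 0 := by
  simp only [Fin.sum_univ_eight] at h
  norm_num [C] at h
  have s0 := mul_nonneg (show (0 : ℝ) ≤ (2 : ℝ) by norm_num) (sq_nonneg ((1 : ℝ) * y 0 + (-1 / 2 : ℝ) * y 2))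
  have s1 := mul_nonneg (show (0 : ℝ) ≤ (2 : ℝ) by norm_num) (sq_nonneg ((1 : ℝ) * y 1 + (-1 / 2 : ℝ) * y 3))
  have s2 := mul_nonneg (show (0 : ℝ) ≤ (2 : ℝ) by norm_num) (sq_nonneg ((1 : ℝ) * y 7 + (-1 / 2 : ℝ) * y 6))
  have s3 := mul_nonneg (show (0 : ℝ) ≤ (3 / 2 : ℝ) by norm_num) (sq_nonneg ((1 : ℝ) * y 6 + (-2 / 3 : ℝ) * y 5))
  have s4 := mul_nonneg (show (0 : ℝ) ≤ (4 / 3 : ℝ) by norm_num) (sq_nonneg ((1 : ℝ) * y 5 + (-3 / 4 : ℝ) * y 4))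
  have s5 := mul_nonneg (show (0 : ℝ) ≤ (5 / 4 : ℝ) by norm_num) (sq_nonneg ((1 : ℝ) * y 4 + (-4 / 5 : ℝ) * y 3))
  have s6 := mul_nonneg (show (0 : ℝ) ≤ (3 / 2 : ℝ) by norm_num) (sq_nonneg ((1 : ℝ) * y 2 + (-2 / 3 : ℝ) * y 3))
  have s7 := mul_nonneg (show (0 : ℝ) ≤ (1 / 30 : ℝ) by norm_num) (sq_nonneg ((1 : ℝ) * y 3))
  have e0 : ((1 : ℝ) * y 0 + (-1 / 2 : ℝ) * y 2) = 0 := pow_eq_zero_iff two_ne_zero |>.1 (le_antisymm (by linarith) (sq_nonneg _))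
  have e1 : ((1 : ℝ) * y 1 + (-1 / 2 : ℝ) * y 3) = 0 := pow_eq_zero_iff two_ne_zero |>.1 (le_antisymm (by linarith) (sq_nonneg _))
  have e2 : ((1 : ℝ) * y 7 + (-1 / 2 : ℝ) * y 6) = 0 := pow_eq_zero_iff two_ne_zero |>.1 (le_antisymm (by linarith) (sq_nonneg _))
  have e3 : ((1 : ℝ) * y 6 + (-2 / 3 : ℝ) * y 5) = 0 := pow_eq_zero_iff two_ne_zero |>.1 (le_antisymm (by linarith) (sq_nonneg _))
  have e4 : ((1 : ℝ) * y 5 + (-3 / 4 : ℝ) * y 4) = 0 := pow_eq_zero_iff two_ne_zero |>.1 (le_antisymm (by linarith) (sq_nonneg _))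
  have e5 : ((1 : ℝ) * y 4 + (-4 / 5 : ℝ) * y 3) = 0 := pow_eq_zero_iff two_ne_zero |>.1 (le_antisymm (by linarith) (sq_nonneg _))
  have e6 : ((1 : ℝ) * y 2 + (-2 / 3 : ℝ) * y 3) = 0 := pow_eq_zero_iff two_ne_zero |>.1 (le_antisymm (by linarith) (sq_nonneg _))
  have e7 : ((1 : ℝ) * y 3) = 0 := pow_eq_zero_iff two_ne_zero |>.1 (le_antisymm (by linarith) (sq_nonneg _))
  have a0 : y 0 = 0 := by linarith
  have a1 : y 1 = 0 := by linarith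
  have a2 : y 2 = 0 := by linarith
  have a3 : y 3 = 0 := by linarith
  have a4 : y 4 = 0 := by linarith
  have a5 : y 5 = 0 := by linarith
  have a6 : y 6 = 0 := by linarith
  have a7 : y 7 = 0 := by linarith
  funext i
  fin_cases i
  exacts [a0, a1, a2, a3, a4, a5, a6, a7]

theorem lens : L.map (fun s => s.T.length) = [28, 27, 26, 25, 24, 23, 22, 22, 21, 21, 20, 20, 19, 19, 18, 18, 18, 17, 17, 17, 16, 16, 16, 15, 15, 15, 14, 14, 14, 13, 13, 13, 12, 12, 12, 11, 11, 11, 10, 10, 10, 9, 9, 9, 8, 8, 7, 7, 6, 6, 5, 5, 4, 3, 2, 1, 0, 16, 15, 14, 13, 12, 12, 11, 11, 10, 10, 9, 9, 8, 8, 8, 7, 7, 6, 6, 5, 5, 4, 4, 3, 2, 1, 0, 10, 9, 8, 7, 7, 6, 6, 5, 5, 4, 4, 3, 3, 2, 1, 0, 6, 5, 4, 4, 3, 3, 2, 2, 1, 0, 3, 2, 2, 1, 1, 0, 1, 0, 0, 0] := by decide +kernel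

/-- The parent of a node in the diagram. -/
def par : Fin 8 → Fin 8 := ![2, 3, 3, 3, 3, 4, 5, 6]

theorem par_adj : ∀ i : Fin 8, i = 3 ∨ (C.getD i.val []).getD (par i).val 0 = -1 := by decide +kernel

theorem par_base : ∀ i : Fin 8, par^[8] i = 3 := by decide +kernel

variable (F : Type*) [Field F]

/-- The system of root subgroups of E8. -/
noncomputable def sys : Sys ↥(chevE8.group F) F (Fin chevE8.nroots) chevE8.rank :=
  chevSys F (Chev.DataE8.tables.slData (by decide)) Chev.DataE8.good sgn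

theorem tabOK [Fintype F] : TabOK (sys F) C R := ⟨rows_eq, roots_eq⟩

theorem steps [Fintype F] : Steps (sys F) [] L := by
  refine (tabOK F).steps L [] ?_
  have app : ∀ (A B : List (Step (Fin 240) 8)) (pre : List (Fin 240)),
      stepsChk C R pre (A ++ B) = (stepsChk C R pre A && stepsChk C R (pre ++ A.map Step.root) B) := by
    intro A
    induction A with
    | nil => intro B pre; simp [stepsChk]
    | cons a A ih => intro B pre; simp [stepsChk, ih, Bool.and_assoc]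
  change stepsChk C R ([] : List (Fin 240)) L = true
  simp only [L, app, List.nil_append, Bool.and_eq_true]
  exact ⟨⟨⟨⟨⟨⟨⟨⟨⟨⟨⟨chk0, chk1⟩, chk2⟩, chk3⟩, chk4⟩, chk5⟩, chk6⟩, chk7⟩, chk8⟩, chk9⟩, chk10⟩, chk11⟩

theorem tablesOK [Fintype F] : (sys F).Tables 28 :=
  (tabOK F).tables chkTables fun y _ h => gram y (by
    have hC : ∀ i j : Fin chevE8.rank, (C.getD i.val []).getD j.val 0 = (sys F).C i j := fun i j => by
      rw [(tabOK F).rows, getD_ofFn, getD_ofFn]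
    refine le_of_eq_of_le ?_ h
    refine Finset.sum_congr rfl fun i _ => Finset.sum_congr rfl fun j _ => ?_
    exact congrArg (fun z : ℤ => (z : ℝ) * (y i * y j)) (hC i j))

theorem connected [Fintype F] : Connected (sys F) := (tabOK F).connected (3 : Fin 8) par par_adj par_base

theorem degree_le [Fintype F] {k : ℕ} (ρ : Representation ℂ ↥(chevE8.group F) (Fin k → ℂ)) (hρ : ρ.IsIrreducible)
    (hk : 2 ≤ k) : Fintype.card F * (Fintype.card F ^ 12 + 1) * (Fintype.card F ^ 10 + 1) * (Fintype.card F ^ 6 + 1) ≤ k := by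
  have hne := nontrivial_of_irreducible ρ hρ hk
  have hq : 2 ≤ Fintype.card F := Fintype.one_lt_card
  conv_rhs => rw [← Module.finrank_fin_fun ℂ (n := k)]
  refine (sys F).degree_le (ρ := ρ) (tablesOK F) (connected F) (steps F) hne ?_ ?_
  · generalize Fintype.card F = q at hq ⊢
    have p1 : q ^ 1 * 16 ≤ q ^ 23 := by
      rw [show 23 = 1 + 22 by rfl, pow_add]
      refine Nat.mul_le_mul le_rfl (le_trans ?_ (Nat.pow_le_pow_left hq _))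
      norm_num
    have p7 : q ^ 7 * 16 ≤ q ^ 23 := by
      rw [show 23 = 7 + 16 by rfl, pow_add]
      refine Nat.mul_le_mul le_rfl (le_trans ?_ (Nat.pow_le_pow_left hq _))
      norm_num
    have p11 : q ^ 11 * 16 ≤ q ^ 23 := by
      rw [show 23 = 11 + 12 by rfl, pow_add]
      refine Nat.mul_le_mul le_rfl (le_trans ?_ (Nat.pow_le_pow_left hq _))
      norm_num
    have p13 : q ^ 13 * 16 ≤ q ^ 23 := by
      rw [show 23 = 13 + 10 by rfl, pow_add]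
      refine Nat.mul_le_mul le_rfl (le_trans ?_ (Nat.pow_le_pow_left hq _))
      norm_num
    have p17 : q ^ 17 * 16 ≤ q ^ 23 := by
      rw [show 23 = 17 + 6 by rfl, pow_add]
      refine Nat.mul_le_mul le_rfl (le_trans ?_ (Nat.pow_le_pow_left hq _))
      norm_num
    have p19 : q ^ 19 * 16 ≤ q ^ 23 := by
      rw [show 23 = 19 + 4 by rfl, pow_add]
      refine Nat.mul_le_mul le_rfl (le_trans ?_ (Nat.pow_le_pow_left hq _))
      norm_num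
    have pm : q ^ 23 * 2 ^ 4 ≤ q ^ 27 := by
      rw [show 27 = 23 + 4 by rfl, pow_add]
      exact Nat.mul_le_mul le_rfl (Nat.pow_le_pow_left hq _)
    have pt : q ^ 27 * 4 ≤ q ^ 29 := by
      rw [show 29 = 27 + 2 by rfl, pow_add]
      exact Nat.mul_le_mul le_rfl (Nat.pow_le_pow_left hq 2)
    obtain ⟨p, rfl⟩ : ∃ p, q = p + 1 := ⟨q - 1, by omega⟩
    have e1 : (p + 1) * ((p + 1) ^ 12 + 1) * ((p + 1) ^ 10 + 1) * ((p + 1) ^ 6 + 1) = (p + 1) ^ 29 + (p + 1) ^ 23 + (p + 1) ^ 19 + (p + 1) ^ 17 + (p + 1) ^ 13 + (p + 1) ^ 11 + (p + 1) ^ 7 + (p + 1) ^ 1 := by ring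
    have e2 : 2 * (p + 1 - 1) * ((p + 1) ^ (27 + 1) + (p + 1) ^ 27) + 2 * (p + 1) ^ 27 = 2 * (p + 1) ^ 29 := by
      rw [Nat.add_sub_cancel]; ring
    rw [e1]; omega
  · change _ ≤ (L.map fun s : Step (Fin 240) 8 => (Fintype.card F - 1) * Fintype.card F ^ s.T.length).sum + 8
    rw [show (L.map fun s => (Fintype.card F - 1) * Fintype.card F ^ s.T.length) =
      (L.map fun s => s.T.length).map fun m => (Fintype.card F - 1) * Fintype.card F ^ m by rw [List.map_map]; rfl, lens]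
    generalize Fintype.card F = q at hq ⊢
    have key : ∀ ls : List ℕ, (ls.map fun m => (q - 1) * q ^ m).sum + (ls.map fun m => q ^ m).sum =
        (ls.map fun m => q ^ (m + 1)).sum := by
      intro ls
      induction ls with
      | nil => simp
      | cons a ls ih =>
        have : (q - 1) * q ^ a + q ^ a = q ^ (a + 1) := by rw [← Nat.succ_mul, pow_succ']; congr 1; omega
        simp only [List.map_cons, List.sum_cons]; omega
    have h3 := key [28, 27, 26, 25, 24, 23, 22, 22, 21, 21, 20, 20, 19, 19, 18, 18, 18, 17, 17, 17, 16, 16, 16, 15, 15, 15, 14, 14, 14, 13, 13, 13, 12, 12, 12, 11, 11, 11, 10, 10, 10, 9, 9, 9, 8, 8, 7, 7, 6, 6, 5, 5, 4, 3, 2, 1, 0, 16, 15, 14, 13, 12, 12, 11, 11, 10, 10, 9, 9, 8, 8, 8, 7, 7, 6, 6, 5, 5, 4, 4, 3, 2, 1, 0, 10, 9, 8, 7, 7, 6, 6, 5, 5, 4, 4, 3, 3, 2, 1, 0, 6, 5, 4, 4, 3, 3, 2, 2, 1, 0, 3, 2, 2, 1, 1, 0, 1, 0, 0, 0]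
    have h4 : q * (q ^ 12 + 1) * (q ^ 10 + 1) * (q ^ 6 + 1) + ([28, 27, 26, 25, 24, 23, 22, 22, 21, 21, 20, 20, 19, 19, 18, 18, 18, 17, 17, 17, 16, 16, 16, 15, 15, 15, 14, 14, 14, 13, 13, 13, 12, 12, 12, 11, 11, 11, 10, 10, 10, 9, 9, 9, 8, 8, 7, 7, 6, 6, 5, 5, 4, 3, 2, 1, 0, 16, 15, 14, 13, 12, 12, 11, 11, 10, 10, 9, 9, 8, 8, 8, 7, 7, 6, 6, 5, 5, 4, 4, 3, 2, 1, 0, 10, 9, 8, 7, 7, 6, 6, 5, 5, 4, 4, 3, 3, 2, 1, 0, 6, 5, 4, 4, 3, 3, 2, 2, 1, 0, 3, 2, 2, 1, 1, 0, 1, 0, 0, 0].map fun m => q ^ m).sum =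
        ([28, 27, 26, 25, 24, 23, 22, 22, 21, 21, 20, 20, 19, 19, 18, 18, 18, 17, 17, 17, 16, 16, 16, 15, 15, 15, 14, 14, 14, 13, 13, 13, 12, 12, 12, 11, 11, 11, 10, 10, 10, 9, 9, 9, 8, 8, 7, 7, 6, 6, 5, 5, 4, 3, 2, 1, 0, 16, 15, 14, 13, 12, 12, 11, 11, 10, 10, 9, 9, 8, 8, 8, 7, 7, 6, 6, 5, 5, 4, 4, 3, 2, 1, 0, 10, 9, 8, 7, 7, 6, 6, 5, 5, 4, 4, 3, 3, 2, 1, 0, 6, 5, 4, 4, 3, 3, 2, 2, 1, 0, 3, 2, 2, 1, 1, 0, 1, 0, 0, 0].map fun m => q ^ (m + 1)).sum + 8 := by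
      simp only [List.map_cons, List.map_nil, List.sum_cons, List.sum_nil]; ring
    omega

end Cfsg.Agent.MinRep.E8
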