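import Cfsg.Agent.Lib.MinRep.Nodes

/-
The vectors `e` of the simple roots are independent.

* `Node`: a chosen `e`; `Node.comp`: the part of `n e` fixed by `α` is `-e/q`; `evec_norm`.
* `adjacent`: the squared cosine of neighbouring nodes is `q/(q+1)^2`; `rank_le`: `l ≤ dim VU`.
-/

set_option autoImplicit false
set_option linter.unusedSectionVars false

namespace Cfsg.Agent.MinRep

open Module
open scoped ComplexConjugate

namespace Sys

variable {G : Type*} [Group G] {F : Type*} [Field F] [Fintype F] {Φ : Type*} [Fintype Φ] {l : ℕ}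
  {S : Sys G F Φ l} {V : Type*} [AddCommGroup V] [Module ℂ V] {ρ : Representation ℂ G V}

/-- `e` is the vector of some non-zero line vector at node `i`. -/
def Node (S : Sys G F Φ l) (ρ : Representation ℂ G V) (i : Fin l) (e : V) : Prop :=
  ∃ c w, Std S ρ i c w ∧ w ≠ 0 ∧ e = S.evec ρ i w

variable {N : ℕ} [FiniteDimensional ℂ V]

theorem exists_node (h : S.Small ρ N) (i : Fin l) : ∃ e, Node S ρ i e :=
  let ⟨w, hw, hw0⟩ := exists_std h i one_ne_zero
  ⟨_, 1, w, hw, hw0, rfl⟩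

theorem Node.mem (h : S.Small ρ N) {i : Fin l} {e : V} (he : Node S ρ i e) : e ∈ S.VU ρ := by
  obtain ⟨c, w, hw, -, rfl⟩ := he
  exact hw.evec_mem h

theorem Node.ne (h : S.Small ρ N) (H : Herm ρ) {i : Fin l} {e : V} (he : Node S ρ i e) : e ≠ 0 := by
  obtain ⟨c, w, hw, hw0, rfl⟩ := he
  exact hw.evec_ne h H hw0

theorem Node.T_eq (h : S.Small ρ N) (H : Herm ρ) {i : Fin l} {e : V} (he : Node S ρ i e) (a : Fin l → ℤ) {t : F}
    (ht : t ≠ 0) : ρ (S.T a t) e = e := by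
  obtain ⟨c, w, hw, -, rfl⟩ := he
  exact hw.T_evec h H a ht

theorem Node.span (h : S.Small ρ N) (H : Herm ρ) {i : Fin l} {e : V} (he : Node S ρ i e) {c : F} {w : V}
    (hw : Std S ρ i c w) : ∃ a : ℂ, S.evec ρ i w = a • e := by
  obtain ⟨c', w', hw', hw0, rfl⟩ := he
  exact hw.evec_span h H hw' hw0

theorem Node.n_orth (h : S.Small ρ N) (H : Herm ρ) {i : Fin l} {e : V} (he : Node S ρ i e) {x : V}
    (hx : x ∈ S.VU ρ) (ho : H.B e x = 0) :
    ρ (S.nn (S.simple i) 1) x = x ∧ ρ (S.nn (S.simple i) 1)⁻¹ x = x := by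
  have hf : S.Fx ρ (S.ng (S.simple i)) x := opp_fix h H hx fun c w hw => by
    obtain ⟨a, ha⟩ := he.span h H hw
    rw [ha, H.smul_left, ho, mul_zero]
  have h1 := nn_fix (hx _ (S.pos_simple i)) hf 1
  refine ⟨h1, ?_⟩
  conv_lhs => rw [← h1, rinv]

theorem Node.inv_eq (h : S.Small ρ N) (H : Herm ρ) {i : Fin l} {e : V} (he : Node S ρ i e) :
    ρ (S.nn (S.simple i) 1)⁻¹ e = ρ (S.nn (S.simple i) 1) e := by
  have hne : ((-1 : F)) ≠ 0 := neg_ne_zero.2 one_ne_zero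
  conv_rhs => rw [← he.T_eq h H (S.co (S.simple i)) hne]
  rw [← rmul, n_T' _ _ hne, ← show S.nn (S.simple i) (-1) = (S.nn (S.simple i) 1)⁻¹ from (S.nn_inv _ 1).symm,
    S.nn_eq _ hne]
  have : S.co (S.simple i) - ipv S.C (S.co (S.simple i)) (S.co (S.simple i)) • S.co (S.simple i) =
      -S.co (S.simple i) := by rw [S.self]; module
  rw [this, S.T_neg _ hne, T_inv hne, inv_neg_one]

/-- The part of `n e` fixed by `α` is `-e/q`, and the other parts all have the same length. -/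
theorem Node.comp (h : S.Small ρ N) (H : Herm ρ) {i : Fin l} {e : V} (he : Node S ρ i e) :
    Pr ρ (S.x (S.simple i)) 0 (ρ (S.nn (S.simple i) 1) e) = (-(Fintype.card F : ℂ)⁻¹) • e ∧
    ∀ c, c ≠ 0 → H.B (Pr ρ (S.x (S.simple i)) c (ρ (S.nn (S.simple i) 1) e))
        (Pr ρ (S.x (S.simple i)) c (ρ (S.nn (S.simple i) 1) e)) =
      ((Fintype.card F : ℂ) + 1) / (Fintype.card F : ℂ) ^ 2 * H.B e e := by
  classical
  obtain ⟨α, hα⟩ : ∃ α, α = S.simple i := ⟨_, rfl⟩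
  rw [← hα]
  have heU := he.mem h
  have heN := he.ne h H
  have hinv := he.inv_eq h H
  rw [← hα] at hinv
  obtain ⟨y, hy⟩ : ∃ y, y = ρ (S.nn α 1) e := ⟨_, rfl⟩
  rw [← hy] at hinv ⊢
  have hyE : y ∈ S.FixS ρ (S.Exc i) := hy ▸ hα ▸ n_exc (FixS_anti (fun a ha => ha.1) heU)
  have hTy : ∀ a {t : F}, t ≠ 0 → ρ (S.T a t) y = y := by
    intro a t ht
    have h1 := n_T' (S := S) α (a - ipv S.C (S.co α) a • S.co α) ht
    rw [show a - ipv S.C (S.co α) a • S.co α - ipv S.C (S.co α) (a - ipv S.C (S.co α) a • S.co α) • S.co α = a by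
      rw [S.ipv_sub_right, S.ipv_smul_right, S.self]; module] at h1
    rw [hy, ← rmul, ← h1, rmul, he.T_eq h H _ ht]
  have hadd := S.x_add α
  obtain ⟨p, hp⟩ : ∃ p : F → V, p = fun c => Pr ρ (S.x α) c y := ⟨_, rfl⟩
  have hpE : ∀ c, p c ∈ Ev ρ (S.x α) c := fun c => hp ▸ Pr_mem ρ hadd c y
  have hsum : ∑ c, p c = y := hp ▸ sum_Pr ρ hadd y
  have heα : e ∈ Ev ρ (S.x α) 0 := S.fx_iff.1 (heU α (hα ▸ S.pos_simple i))
  -- the fixed part is a multiple of `e`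
  have hE0 := H.self_ne heN
  obtain ⟨lam, hlam⟩ : ∃ lam, lam = H.B e (p 0) / H.B e e := ⟨_, rfl⟩
  have hp0U : p 0 ∈ S.VU ρ := fun a ha => by
    rcases eq_or_ne a α with rfl | hne
    · exact S.fx_iff.2 (hpE 0)
    · rw [hp]
      exact (hα ▸ Pr_exc hyE 0) a ⟨ha, hα ▸ hne⟩
  have hp0 : p 0 = lam • e := by
    obtain ⟨r, hr⟩ : ∃ r, r = p 0 - lam • e := ⟨_, rfl⟩
    have hrU : r ∈ S.VU ρ := hr ▸ sub_mem hp0U (Submodule.smul_mem _ _ heU)
    have hre : H.B e r = 0 := by rw [hr, map_sub, map_smul, smul_eq_mul, hlam, div_mul_cancel₀ _ hE0, sub_self]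
    have hre' : H.B r e = 0 := by rw [← H.symm, hre, map_zero]
    have hnr := (he.n_orth h H hrU hre).2
    rw [← hα] at hnr
    have h1 : H.B r (p 0) = 0 := by
      rw [hp]
      change H.B r (Pr ρ (S.x α) 0 y) = 0
      rw [← H.Pr_adjoint hadd, Pr_self ρ hadd (S.fx_iff.1 (hrU α (hα ▸ S.pos_simple i))), hy, H.inv_right, hnr, hre']
    refine sub_eq_zero.1 (hr ▸ H.eq_zero ?_)
    nth_rewrite 2 [hr]
    rw [map_sub, map_smul, h1, hre', smul_zero, sub_zero]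
  have hcomp : ∀ a, H.B y (ρ (S.x α a) y) = ∑ c, psi F (c * a) * H.B (p c) (p c) := by
    intro a
    conv_lhs => rw [← hsum, map_sum (ρ (S.x α a)), map_sum]
    refine Finset.sum_congr rfl fun c _ => ?_
    rw [H.sum_left, Fintype.sum_eq_single c fun d hd => ?_]
    · rw [hpE c a, map_smul, smul_eq_mul]
    · rw [hpE c a, map_smul, H.orth hd (hpE d) (hpE c), smul_zero]
  -- all other parts have the same length
  obtain ⟨j, hij⟩ := h.tab.nbr i
  have hmove : ∀ c t, t ≠ 0 → H.B (p (c * t)) (p (c * t)) = H.B (p c) (p c) := by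
    intro c t ht
    have h3 : ipv S.C (S.co (S.simple j)) (S.co α) = -1 := by
      rw [S.ipv_comm, hα]
      exact (S.ip_simple_simple i j).trans hij
    have hz := Pr_comm ρ (g := S.T (S.co (S.simple j)) t) (zpow_ne_zero (ipv S.C (S.co (S.simple j)) (S.co α)) ht)
      (fun u => S.T_conj _ α t u ht) c y
    rw [h3, zpow_neg_one, div_inv_eq_mul, hTy _ ht] at hz
    rw [hp]
    change H.B (Pr ρ (S.x α) (c * t) y) (Pr ρ (S.x α) (c * t) y) = _
    rw [← hz, H.inv]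
  have hsame : ∀ c, c ≠ 0 → H.B (p c) (p c) = H.B (p 1) (p 1) := fun c hc => by
    simpa using hmove 1 c hc
  obtain ⟨s, hs⟩ : ∃ s, s = H.B (p 1) (p 1) := ⟨_, rfl⟩
  rw [← hs] at hsame
  have hcomp' : ∀ a, H.B y (ρ (S.x α a) y) = conj lam * lam * H.B e e +
      (∑ c : F, psi F (c * a) - 1) * s := by
    intro a
    rw [hcomp, ← Finset.sum_erase_add _ _ (Finset.mem_univ (0 : F)), add_comm,
      ← Finset.sum_erase_add (f := fun c => psi F (c * a)) _ (Finset.mem_univ (0 : F)),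
      Finset.sum_congr rfl fun c hc => by rw [hsame c (Finset.ne_of_mem_erase hc)], ← Finset.sum_mul, hp0,
      zero_mul, AddChar.map_zero_eq_one, one_mul, add_sub_cancel_right, H.smul_left, map_smul, smul_eq_mul]
    ring
  have heq1 : H.B e e = conj lam * lam * H.B e e + ((Fintype.card F : ℂ) - 1) * s := by
    have := hcomp' 0
    rw [S.x_zero, map_one, Module.End.one_apply, hy, H.inv] at this
    simpa using this
  have heq2 : lam * H.B e e = conj lam * lam * H.B e e - s := by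
    have := hcomp' 1
    simp only [mul_one] at this
    rw [show ∑ c : F, psi F c = ∑ c : F, psi F (1 * c) by simp, psi_sum, if_neg one_ne_zero, zero_sub, neg_mul,
      one_mul, ← sub_eq_add_neg] at this
    refine Eq.trans ?_ this
    obtain ⟨u, hu⟩ : ∃ u, u = (S.η α (S.rf α α))⁻¹ * 1 := ⟨_, rfl⟩
    have hu0 : u ≠ 0 := hu ▸ mul_ne_zero (inv_ne_zero (S.η_ne _ _)) one_ne_zero
    have hc := S.inv_conj α α 1
    rw [← hu, S.rf_self] at hc
    have hr : H.B y (ρ (S.x α 1) y) = H.B e (ρ (S.x (S.ng α) u) e) := by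
      conv_lhs => rw [hy, H.inv_left, ← rmul, ← rmul, hc, rmul, rmul, rinv]
    rw [hr, S.x_ng_eq α hu0, rmul, rmul, rmul, (mem_Ev_zero ρ).1 heα, ← hy, hTy _ (neg_ne_zero.2 (inv_ne_zero hu0)),
      H.inv_right, S.x_inv, (mem_Ev_zero ρ).1 heα, hlam, div_mul_cancel₀ _ hE0, hp]
    change H.B e (Pr ρ (S.x α) 0 y) = H.B e y
    rw [← H.Pr_adjoint hadd, Pr_self ρ hadd heα]
  have hlam_real : conj lam = lam := by
    have h1 : conj (lam * H.B e e) = lam * H.B e e := by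
      rw [heq2, hs, map_sub, map_mul, map_mul, Complex.conj_conj, H.symm, H.symm]; ring
    rw [map_mul, H.symm] at h1
    exact mul_right_cancel₀ hE0 h1
  rw [hlam_real] at heq1 heq2
  have hroot : (lam - 1) * ((Fintype.card F : ℂ) * lam + 1) * H.B e e = 0 := by
    linear_combination -((Fintype.card F : ℂ) - 1) * heq2 - heq1
  have hne1 : lam ≠ 1 := by
    intro h1
    subst h1
    have hs0 : s = 0 := by linear_combination heq2
    have hye : y = e := by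
      rw [← hsum, Fintype.sum_eq_single 0 fun c hc => H.eq_zero (by rw [hsame c hc, hs0]), hp0, one_smul]
    obtain ⟨c, w, hw, hw0, hew⟩ := id he
    refine hE0 ?_
    conv_lhs => arg 1; rw [hew]
    rw [evec, H.Pr_adjoint (S.x_add _), ← hα, Pr_self ρ hadd heα, H.inv_left, hinv, hye]
    exact H.orth hw.1 (hα ▸ hw.2.1) heα
  have hlamv : lam = -(Fintype.card F : ℂ)⁻¹ := by
    rcases mul_eq_zero.1 hroot with h1 | h1
    · rcases mul_eq_zero.1 h1 with h2 | h2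
      · exact absurd (sub_eq_zero.1 h2) hne1
      · field_simp [q_ne (F := F)]
        linear_combination h2
    · exact absurd h1 hE0
  refine ⟨?_, fun c hc => ?_⟩
  · rw [← hlamv]
    exact (congrFun hp 0).symm.trans hp0
  · rw [show Pr ρ (S.x α) c y = p c from (congrFun hp c).symm, hsame c hc]
    have hq := q_ne (F := F)
    rw [hlamv] at heq2
    field_simp at heq2 ⊢
    linear_combination heq2

theorem Node.evec_norm (h : S.Small ρ N) (H : Herm ρ) {i : Fin l} {c : F} {w : V} (hw : Std S ρ i c w) :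
    H.B (S.evec ρ i w) (S.evec ρ i w) =
      ((Fintype.card F : ℂ) + 1) / (Fintype.card F : ℂ) ^ 2 * H.B w w := by
  rcases eq_or_ne w 0 with rfl | hw0
  · simp [evec]
  obtain ⟨α, hα⟩ : ∃ α, α = S.simple i := ⟨_, rfl⟩
  obtain ⟨e, he⟩ := exists_node h i
  obtain ⟨r, hr⟩ : ∃ r, r = ((Fintype.card F : ℂ) + 1) / (Fintype.card F : ℂ) ^ 2 := ⟨_, rfl⟩
  obtain ⟨hP, hlen⟩ := he.comp h H
  obtain ⟨y, hy⟩ : ∃ y, y = ρ (S.nn (S.simple i) 1) e := ⟨_, rfl⟩
  obtain ⟨a₁, ha₁⟩ : ∃ a₁, a₁ = Pr ρ (S.x (S.simple i)) c y := ⟨_, rfl⟩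
  have hlen' := hlen c hw.1
  rw [← hy, ← ha₁, ← hr] at hlen'
  rw [← hr]
  have hrr : conj r = r := by rw [hr]; simp
  have hE0 := H.self_ne (he.ne h H)
  have hr0 : r ≠ 0 := by
    rw [hr]
    exact div_ne_zero (Nat.cast_add_one_ne_zero _) (pow_ne_zero _ q_ne)
  have ha0 : a₁ ≠ 0 := fun e0 => by
    rw [e0, map_zero] at hlen'
    exact mul_ne_zero hr0 hE0 hlen'.symm
  have hstd : Std S ρ i c a₁ :=
    ha₁ ▸ Std.of_exc hw.1 (hy ▸ n_exc (FixS_anti (fun a ha => ha.1) (he.mem h)))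
  have hev : H.B e (S.evec ρ i a₁) = H.B a₁ a₁ := by
    rw [evec, ← H.Pr_adjoint (S.x_add _), Pr_self ρ (S.x_add _)
      (S.fx_iff.1 (he.mem h _ (S.pos_simple i))), H.inv_right, he.inv_eq h H, ← hy]
    conv_lhs => rw [← sum_Pr ρ (S.x_add (S.simple i)) y, H.sum_left, Fintype.sum_eq_single c fun d hd =>
      H.orth hd (Pr_mem ρ (S.x_add _) d y) hstd.2.1, ← ha₁]
  obtain ⟨k, hk⟩ := he.span h H hstd
  rw [hk, map_smul, smul_eq_mul, hlen', mul_left_inj' hE0] at hev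
  obtain ⟨a, ha⟩ := line_span h hw.1 (half_posHalf i) hstd.2 ha0 hw.2
  rw [ha, evec, map_smul, map_smul]
  change H.B (a • S.evec ρ i a₁) (a • S.evec ρ i a₁) = _
  rw [hk, hev]
  simp only [H.smul_left, map_smul, smul_eq_mul, hlen', hrr]
  ring

theorem Node.orth (h : S.Small ρ N) (H : Herm ρ) {i j : Fin l} (hij : S.C i j = 0) {e e' : V}
    (he : Node S ρ i e) (he' : Node S ρ j e') : H.B e e' = 0 := by
  obtain ⟨c, w, hw, -, rfl⟩ := he
  obtain ⟨c', w', hw', -, rfl⟩ := he'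
  have hji : S.C j i = 0 := by rw [S.C_symm, hij]
  obtain ⟨β, hβ⟩ : ∃ β, β = S.simple j := ⟨_, rfl⟩
  have hcom : ∀ r, r = β ∨ r = S.ng β → ∀ t u,
      S.x (S.ng (S.simple i)) t * S.x r u = S.x r u * S.x (S.ng (S.simple i)) t := by
    intro r hr
    have hip : S.ip (S.ng (S.simple i)) r = 0 := by
      rcases hr with rfl | rfl <;> simp [hβ, S.ip_ng_left, S.ip_ng_right, S.ip_simple_simple, hij]
    exact S.comm _ _ (S.ne_ng_of_ip (by omega)) (fun e1 => by change S.ip _ _ = -1 at e1; omega)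
  have hfn : S.Fx ρ (S.ng (S.simple i)) (ρ (S.nn β 1) w') := fun t => by
    have hc : S.x (S.ng (S.simple i)) t * S.nn β 1 = S.nn β 1 * S.x (S.ng (S.simple i)) t := by
      simp only [nn, nW]
      exact ((show Commute _ _ from hcom β (Or.inl rfl) t 1).mul_right (hcom _ (Or.inr rfl) t _)).mul_right
        (hcom β (Or.inl rfl) t 1)
    rw [← rmul, hc, rmul, hw'.fix_ng_simple h hji t]
  have hf : S.Fx ρ (S.ng (S.simple i)) (S.evec ρ j w') := fun t => by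
    rw [evec, Pr_zero_comm ρ one_ne_zero (fun u => by rw [one_mul]; exact hcom (S.simple j) (Or.inl hβ.symm) t u),
      ← hβ, hfn t]
  have hU := hw'.evec_mem h
  have hn := nn_fix (hU _ (S.pos_simple i)) hf 1
  rw [evec, H.Pr_adjoint (S.x_add _), Pr_self ρ (S.x_add _) (S.fx_iff.1 (hU _ (S.pos_simple i))),
    H.inv_left]
  nth_rewrite 1 [← hn]
  rw [rinv]
  exact H.orth hw.1 hw.2.1 (S.fx_iff.1 (hU _ (S.pos_simple i)))

/-- The squared cosine of the angle of two neighbouring nodes. -/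
theorem adjacent (h : S.Small ρ N) (H : Herm ρ) {i j : Fin l} (hij : S.C i j = -1) {e e' : V}
    (he : Node S ρ i e) (he' : Node S ρ j e') :
    ((Fintype.card F : ℂ) + 1) ^ 2 * (conj (H.B e e') * H.B e e') =
      (Fintype.card F : ℂ) * (H.B e e * H.B e' e') := by
  have heU := he.mem h
  have he'U := he'.mem h
  have hE0 := H.self_ne (he.ne h H)
  have hE0' := H.self_ne (he'.ne h H)
  obtain ⟨α, hα⟩ : ∃ α, α = S.simple i := ⟨_, rfl⟩
  obtain ⟨β, hβ⟩ : ∃ β, β = S.simple j := ⟨_, rfl⟩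
  obtain ⟨μ, hμ⟩ : ∃ μ, μ = S.rf β α := ⟨_, rfl⟩
  obtain ⟨q, hq⟩ : ∃ q : ℂ, q = (Fintype.card F : ℂ) := ⟨_, rfl⟩
  have hq0 : q ≠ 0 := hq ▸ q_ne
  have hαβ : S.ip α β = -1 := by rw [hα, hβ, S.ip_simple_simple, hij]
  have hβα : S.ip β α = -1 := by rw [S.ip_comm, hαβ]
  have hcoμ : S.co μ = S.co β + S.co α := hμ ▸ S.rf_add hβα
  have hαμ : S.rf α μ = β := S.co_inj (by
    rw [S.co_rf, S.ip_add hcoμ, hαβ, S.ip_self, hcoμ]; module)
  have hαβ' : S.rf α β = μ := S.co_inj (by rw [S.rf_add hαβ, hcoμ, add_comm])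
  have hβμ : S.rf β μ = α := by rw [hμ, S.rf_rf]
  have hT : ∀ a : Fin l → ℤ, ∀ t : F, t ≠ 0 → ρ (S.T a t) e = e ∧ ρ (S.T a t) e' = e' :=
    fun a t ht => ⟨he.T_eq h H a ht, he'.T_eq h H a ht⟩
  obtain ⟨c, w, hw, hw0, hew⟩ := id he
  obtain ⟨z, hz⟩ : ∃ z, z = Pr ρ (S.x (S.ng β)) 0 w := ⟨_, rfl⟩
  obtain ⟨c', hu⟩ := hw.z_std h hij
  rw [← hα, ← hβ, ← hz] at hu
  obtain ⟨f, hf⟩ : ∃ f, f = Pr ρ (S.x (S.ng α)) 0 z := ⟨_, rfl⟩
  -- `n n n f` is a multiple of `e'`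
  have hgf : ρ (S.nn β 1) (ρ (S.nn α 1) (ρ (S.nn β 1) f)) =
      S.evec ρ j (ρ (S.nn α 1) (ρ (S.nn β 1) z)) := by
    rw [hf, Pr_zero_comm ρ (S.η_ne _ _) (S.conj' β (S.ng α)), S.rf_ng, ← hμ,
      Pr_zero_comm ρ (S.η_ne _ _) (S.conj' α (S.ng μ)), S.rf_ng, hαμ,
      Pr_zero_comm ρ (S.η_ne _ _) (S.conj' β (S.ng β)), S.rf_ng, S.rf_self, S.ng_ng, hβ]
    rfl
  obtain ⟨κ, hκ⟩ := he'.span h H hu
  rw [hκ] at hgf
  -- pairing with vectors fixed by the positive roots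
  have hX : ∀ u ∈ S.VU ρ,
      H.B u (ρ (S.nn β 1) (ρ (S.nn α 1) (ρ (S.nn β 1) (ρ (S.nn α 1)⁻¹ e)))) = κ * H.B u e' := by
    intro u hu'
    obtain ⟨v, hv⟩ : ∃ v, v = ρ (S.nn β 1)⁻¹ (ρ (S.nn α 1)⁻¹ (ρ (S.nn β 1)⁻¹ u)) := ⟨_, rfl⟩
    have hpre : ∀ p, S.pos p → S.Fx ρ (S.rf β (S.rf α (S.rf β p))) v := fun p hp =>
      hv ▸ n_inv_Fx β (n_inv_Fx α (n_inv_Fx β (hu' p hp)))
    have hva : S.Fx ρ (S.ng α) v := by
      have := hpre β (hβ ▸ S.pos_simple j)
      rwa [S.rf_self, S.rf_ng, hαβ', S.rf_ng, hβμ] at this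
    have hvb : S.Fx ρ (S.ng β) v := by
      have := hpre α (hα ▸ S.pos_simple i)
      rwa [← hμ, hαμ, S.rf_self] at this
    rw [hew, evec_eq, ← hα, rinv, ← smul_eq_mul, ← map_smul, ← hgf]
    simp only [H.inv_right (S.nn β 1), H.inv_right (S.nn α 1), ← hv]
    rw [hf, ← H.Pr_adjoint (S.x_add _), ← H.Pr_adjoint (S.x_add _), Pr_self ρ (S.x_add _) (S.fx_iff.1 hva), hz,
      ← H.Pr_adjoint (S.x_add _), Pr_self ρ (S.x_add _) (S.fx_iff.1 hvb)]
  -- braiding up to the torus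
  have hbraid : ∀ u, (∀ a : Fin l → ℤ, ∀ t : F, t ≠ 0 → ρ (S.T a t) u = u) →
      H.B u (ρ (S.nn β 1) (ρ (S.nn α 1) (ρ (S.nn β 1) (ρ (S.nn α 1)⁻¹ e)))) =
        H.B u (ρ (S.nn α 1) (ρ (S.nn β 1) e)) := by
    intro u hu'
    have hTu : ∀ (a : Fin l → ℤ) (t : F) v, t ≠ 0 → H.B u (ρ (S.T a t) v) = H.B u v := fun a t v ht => by
      rw [H.inv_right, T_inv ht, hu' a _ (inv_ne_zero ht)]
    have h1 : S.nn α 1 * S.nn β 1 * (S.nn α 1)⁻¹ = S.T (S.co μ) (S.η α β) * S.nn μ 1 := by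
      rw [mul_inv_eq_iff_eq_mul, S.conj_nn, hαβ', mul_one, S.nn_eq _ (S.η_ne _ _)]
    have h2 : S.nn μ 1 = (S.T (S.co μ) (S.η β α))⁻¹ * (S.nn β 1 * S.nn α 1 * (S.nn β 1)⁻¹) := by
      rw [eq_inv_mul_iff_mul_eq, ← S.nn_eq _ (S.η_ne _ _), eq_mul_inv_iff_mul_eq, S.conj_nn, ← hμ, mul_one]
    have h3 : (S.nn β 1)⁻¹ = S.T (S.co β) (-1) * S.nn β 1 := by
      rw [S.nn_inv, S.nn_eq _ (neg_ne_zero.2 one_ne_zero)]
    have hη := inv_ne_zero (S.η_ne β α)
    obtain ⟨a, ha⟩ : ∃ a, a = S.co μ - ipv S.C (S.co β) (S.co μ) • S.co β := ⟨_, rfl⟩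
    have hg : S.nn β 1 * (S.nn α 1 * (S.nn β 1 * (S.nn α 1)⁻¹)) =
        S.T a (S.η α β * (S.η β α)⁻¹) * ((S.T (S.co β) (-1))⁻¹ *
          (S.T (S.co β - ipv S.C (S.co α) (S.co β) • S.co α) (-1) * (S.nn α 1 * S.nn β 1))) := by
      have e1 : S.nn β 1 * (S.nn α 1 * (S.nn β 1 * (S.nn α 1)⁻¹)) =
          (S.nn β 1 * S.T (S.co μ) (S.η α β * (S.η β α)⁻¹)) * (S.nn β 1 * S.nn α 1 * (S.nn β 1)⁻¹) := by
        rw [← mul_assoc (S.nn α 1), h1, h2, S.T_mul _ _ _ (S.η_ne _ _) hη, T_inv (S.η_ne β α)]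
        group
      rw [e1, n_T' _ _ (mul_ne_zero (S.η_ne _ _) hη), ← ha, mul_assoc, ← mul_assoc (S.nn β 1) (S.nn β 1 * _),
        ← mul_assoc (S.nn β 1) (S.nn β 1), S.nn_sq, h3]
      simp only [mul_assoc]
      rw [← mul_assoc (S.nn α 1) (S.T _ _), n_T' _ _ (neg_ne_zero.2 one_ne_zero), mul_assoc]
    rw [← rmul, ← rmul, ← rmul, mul_assoc, mul_assoc, hg, rmul, hTu _ _ _ (mul_ne_zero (S.η_ne _ _) hη), rmul,
      T_inv (neg_ne_zero.2 one_ne_zero), hTu _ _ _ (inv_ne_zero (neg_ne_zero.2 one_ne_zero)), rmul,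
      hTu _ _ _ (neg_ne_zero.2 one_ne_zero), rmul]
  -- the length of `n n n f`
  have hfn : conj κ * κ * H.B e' e' * q = H.B e e := by
    have hl1 : H.B f f = conj κ * κ * H.B e' e' := by
      rw [← H.inv (S.nn β 1) f f, ← H.inv (S.nn α 1) (ρ (S.nn β 1) f), ← H.inv (S.nn β 1)
        (ρ (S.nn α 1) (ρ (S.nn β 1) f)), hgf, H.smul_left, map_smul, smul_eq_mul, mul_assoc]
    have hl2 : H.B f f = ((Fintype.card F : ℂ) + 1) / (Fintype.card F : ℂ) ^ 2 * H.B z z := by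
      have hn := Node.evec_norm h H hu
      rw [H.inv, H.inv] at hn
      rw [hκ, H.smul_left, map_smul, smul_eq_mul, ← mul_assoc] at hn
      rw [hl1, ← hn]
    have hl3 : H.B z z = q⁻¹ * H.B w w := by
      rw [hz, H.Pr_adjoint (S.x_add _), ← hz]
      have hzb : z ∈ Ev ρ (S.x (S.ng β)) 0 := hz ▸ Pr_mem ρ (S.x_add _) 0 w
      rw [Pr_self ρ (S.x_add _) hzb, hz, Pr_apply, map_smul, map_sum, smul_eq_mul, hq]
      congr 1
      rw [Fintype.sum_eq_single 0 fun t ht => ?_]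
      · simp [S.x_zero]
      · have hwμ : S.Fx ρ μ w := hw.2.2 μ ⟨by rw [← hα, S.ip_add hcoμ, hαβ, S.ip_self]; rfl,
          S.pos_of_add hcoμ (hβ ▸ S.pos_simple j) (hα ▸ S.pos_simple i)⟩
        obtain ⟨e₁, he₁, hsh⟩ := shift (S := S) (ρ := ρ) (show S.co α = S.co (S.ng β) + S.co μ by
          rw [S.co_ng, hcoμ]; module)
        rw [map_smul, H.orth (fun e0 => ?_) (S.fx_iff.1 hwμ)
          (hsh (S.fx_iff.1 hwμ) (hα ▸ hw.2.1) t), smul_zero]
        rw [zero_add] at e0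
        exact mul_ne_zero (mul_ne_zero he₁ ht) hw.1 e0.symm
    have hn2 := Node.evec_norm h H hw
    rw [← hew] at hn2
    rw [← hl1, hl2, hl3, hn2]
    field_simp
  -- the two evaluations
  obtain ⟨hPα, -⟩ := he.comp h H
  obtain ⟨hPβ, -⟩ := he'.comp h H
  rw [← hα] at hPα
  rw [← hβ] at hPβ
  have hnn' : ρ (S.nn β 1) e' ∈ Ev ρ (S.x α) 0 := S.fx_iff.1 (hβ ▸ n_exc (FixS_anti (fun a ha => ha.1) he'U) α
    ⟨hα ▸ S.pos_simple i, fun e1 => by rw [e1, ← hβ, S.ip_self] at hαβ; omega⟩)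
  have heα : e ∈ Ev ρ (S.x α) 0 := S.fx_iff.1 (heU α (hα ▸ S.pos_simple i))
  have he'β : e' ∈ Ev ρ (S.x β) 0 := S.fx_iff.1 (he'U β (hβ ▸ S.pos_simple j))
  have hq' : conj q = q := by rw [hq]; simp
  rw [← hq] at hPα hPβ ⊢
  obtain ⟨γ, hγ⟩ : ∃ γ, γ = H.B e e' := ⟨_, rfl⟩
  rw [← hγ]
  obtain ⟨E, hE⟩ : ∃ E, E = H.B e e := ⟨_, rfl⟩
  obtain ⟨E', hE'⟩ : ∃ E', E' = H.B e' e' := ⟨_, rfl⟩
  rw [← hE, ← hE'] at hfn ⊢
  rw [← hE] at hE0
  rw [← hE'] at hE0'
  have hEr : conj E = E := by rw [hE, H.symm]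
  have hE'r : conj E' = E' := by rw [hE', H.symm]
  have hγ' : H.B e' e = conj γ := by rw [hγ, H.symm]
  have hee : ∀ {x : V}, x ∈ Ev ρ (S.x α) 0 → H.B (ρ (S.nn α 1) e) x = -q⁻¹ * H.B e x := fun {x} hx => by
    conv_lhs => rw [← Pr_self ρ (S.x_add α) hx, ← H.Pr_adjoint (S.x_add α), hPα, H.smul_left]
    rw [map_neg, map_inv₀, hq']
  have hee' : ∀ {x : V}, x ∈ Ev ρ (S.x β) 0 → H.B x (ρ (S.nn β 1) e') = -q⁻¹ * H.B x e' := fun {x} hx => by
    conv_lhs => rw [← Pr_self ρ (S.x_add β) hx, H.Pr_adjoint (S.x_add β), hPβ, map_smul, smul_eq_mul]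
  have hA1 : H.B (ρ (S.nn α 1) e) e = -q⁻¹ * E := by rw [hee heα, hE]
  have hA2 : H.B (ρ (S.nn α 1) e) e' = -q⁻¹ * γ := by
    rw [hee (S.fx_iff.1 (he'U α (hα ▸ S.pos_simple i))), hγ]
  have hA3 : H.B e' (ρ (S.nn β 1) e') = -q⁻¹ * E' := by rw [hee' he'β, hE']
  have hA4 : H.B e (ρ (S.nn β 1) e') = -q⁻¹ * γ := by
    rw [hee' (S.fx_iff.1 (heU β (hβ ▸ S.pos_simple j))), hγ]
  have hA5 : H.B (ρ (S.nn α 1) e) (ρ (S.nn β 1) e') = q⁻¹ * q⁻¹ * γ := by rw [hee hnn', hA4]; ring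
  have hneβ : ρ (S.nn β 1) e = e + (conj γ / E') • (ρ (S.nn β 1) e' - e') := by
    have ho : H.B e' (e - (conj γ / E') • e') = 0 := by
      rw [map_sub, map_smul, smul_eq_mul, hγ', ← hE', div_mul_cancel₀ _ hE0', sub_self]
    have hn := (he'.n_orth h H (sub_mem heU (Submodule.smul_mem _ _ he'U)) ho).1
    rw [← hβ, map_sub, map_smul] at hn
    linear_combination (norm := module) hn
  have hne'α : ρ (S.nn α 1) e' = e' + (γ / E) • (ρ (S.nn α 1) e - e) := by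
    have ho : H.B e (e' - (γ / E) • e) = 0 := by
      rw [map_sub, map_smul, smul_eq_mul, ← hγ, ← hE, div_mul_cancel₀ _ hE0, sub_self]
    have hn := (he.n_orth h H (sub_mem he'U (Submodule.smul_mem _ _ heU)) ho).1
    rw [← hα, map_sub, map_smul] at hn
    linear_combination (norm := module) hn
  have hinv : ρ (S.nn α 1)⁻¹ e = ρ (S.nn α 1) e := hα ▸ he.inv_eq h H
  have hinv' : ρ (S.nn α 1)⁻¹ e' = ρ (S.nn α 1) e' := by
    rw [hne'α]
    conv_lhs => rw [show e' = (γ / E) • e + (e' - (γ / E) • e) by module]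
    have ho : H.B e (e' - (γ / E) • e) = 0 := by
      rw [map_sub, map_smul, smul_eq_mul, ← hγ, ← hE, div_mul_cancel₀ _ hE0, sub_self]
    have hn := (he.n_orth h H (sub_mem he'U (Submodule.smul_mem _ _ heU)) ho).2
    rw [← hα] at hn
    rw [map_add, map_smul, hinv, hn]
    module
  have hQ1 : H.B e (ρ (S.nn α 1) (ρ (S.nn β 1) e)) = κ * γ := by
    rw [← hbraid e fun a t ht => (hT a t ht).1, hX e heU, hγ]
  have hQ2 : H.B e' (ρ (S.nn α 1) (ρ (S.nn β 1) e)) = κ * E' := by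
    rw [← hbraid e' fun a t ht => (hT a t ht).2, hX e' he'U, hE']
  obtain ⟨a₀, ha₀⟩ : ∃ a₀, a₀ = -q⁻¹ - 1 := ⟨_, rfl⟩
  obtain ⟨p, hp⟩ : ∃ p, p = conj γ * γ / (E * E') := ⟨_, rfl⟩
  have hP2 : κ * E' = conj γ * (1 + 2 * a₀ + a₀ ^ 2 * p) := by
    rw [← hQ2, H.inv_right, hinv', hneβ, hne'α]
    simp only [map_add, map_sub, map_smul, smul_eq_mul, H.add_left, H.sub_left, H.smul_left, hA1, hA2, hA3,
      hA4, hA5, ← hγ, hγ', ← hE, ← hE', map_div₀, hEr, hp, ha₀]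
    field_simp
    ring
  have hP1 : κ * γ = -q⁻¹ * E * (1 + a₀ * p) := by
    rw [← hQ1, H.inv_right, hinv, hneβ]
    simp only [map_add, map_sub, map_smul, smul_eq_mul, hA1, hA2, hA5, hp, ha₀]
    field_simp
    ring
  obtain ⟨c₀, hc₀⟩ : ∃ c₀, c₀ = 1 + 2 * a₀ + a₀ ^ 2 * p := ⟨_, rfl⟩
  rw [← hc₀] at hP2
  have hlin : -q⁻¹ * (1 + a₀ * p) = p * c₀ := by
    have h1 : -q⁻¹ * E * (1 + a₀ * p) * E' = γ * (conj γ * c₀) := by rw [← hP1, ← hP2]; ring
    rw [hp]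
    field_simp
    rw [hp] at h1
    field_simp at h1
    linear_combination h1
  have hfac : (a₀ ^ 2 * p + -q⁻¹) * (p - 1) = 0 := by
    rw [hc₀, ha₀] at hlin
    rw [ha₀]
    linear_combination -hlin
  rcases mul_eq_zero.1 hfac with h1 | h1
  · rw [ha₀, hp] at h1
    field_simp at h1
    linear_combination h1
  · exfalso
    have hp1 : p = 1 := sub_eq_zero.1 h1
    have hc1 : c₀ = q⁻¹ * q⁻¹ := by rw [hc₀, hp1, ha₀]; ring
    have hcc : conj c₀ = c₀ := by rw [hc1, map_mul, map_inv₀, hq']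
    have hn1 : conj κ * E' = γ * c₀ := by
      have := congrArg conj hP2
      rwa [map_mul, map_mul, hE'r, hcc, Complex.conj_conj] at this
    have hp2 : conj γ * γ = E * E' := by
      rw [hp, div_eq_iff (mul_ne_zero hE0 hE0'), one_mul] at hp1
      exact hp1
    have h2 : E * E' = E * E' * (c₀ * c₀ * q) := by
      calc E * E' = (conj κ * E') * (κ * E') * q := by rw [← hfn]; ring
        _ = _ := by rw [hn1, hP2, ← hp2]; ring
    have h3 : c₀ * c₀ * q = 1 := (mul_eq_left₀ (mul_ne_zero hE0 hE0')).1 h2.symm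
    rw [hc1, hq] at h3
    field_simp at h3
    have h4 : (1 : ℕ) = Fintype.card F ^ 3 := by exact_mod_cast (show ((1 : ℕ) : ℂ) = ((Fintype.card F : ℂ) ^ 3) by
      push_cast; linear_combination h3)
    have := Nat.one_lt_pow (n := 3) (by norm_num) (Fintype.one_lt_card (α := F))
    omega

theorem rank_le (h : S.Small ρ N) (H : Herm ρ) : l ≤ finrank ℂ (S.VU ρ) := by
  classical
  choose e he using fun i => exists_node (S := S) (ρ := ρ) h i
  have hne : ∀ i, 0 < (H.B (e i) (e i)).re := fun i => H.pos _ ((he i).ne h H)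
  have hli : LinearIndependent ℂ (fun i => (⟨e i, (he i).mem h⟩ : S.VU ρ)) := by
    refine Fintype.linearIndependent_iff.2 fun g hg => ?_
    have hg' : ∑ i, g i • e i = 0 := by
      have := congrArg Subtype.val hg
      simpa using this
    obtain ⟨y, hy⟩ : ∃ y : Fin l → ℝ, y = fun i => ‖g i‖ * Real.sqrt (H.B (e i) (e i)).re := ⟨_, rfl⟩
    have hbound : ∀ i j, i ≠ j →
        2 * |(conj (g i) * (g j * H.B (e i) (e j))).re| ≤ -(S.C i j : ℝ) * (y i * y j) := by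
      intro i j hij
      rcases C_le (S := S) hij with hC | hC
      · rw [(he i).orth h H hC (he j), mul_zero, mul_zero, hC]
        simp
      · have h1 := adjacent h H hC (he i) (he j)
        rw [Complex.normSq_eq_conj_mul_self.symm, ← H.self_re (e i), ← H.self_re (e j)] at h1
        norm_cast at h1
        rw [Complex.normSq_eq_norm_sq] at h1
        have hqp : (2 : ℝ) ≤ Fintype.card F := by exact_mod_cast Fintype.one_lt_card (α := F)
        have hm : 2 * ‖H.B (e i) (e j)‖ ≤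
            Real.sqrt (H.B (e i) (e i)).re * Real.sqrt (H.B (e j) (e j)).re := by
          rw [← Real.sqrt_mul (hne i).le]
          refine Real.le_sqrt_of_sq_le ?_
          push_cast at h1
          nlinarith [sq_nonneg ((Fintype.card F : ℝ) - 1), sq_nonneg ‖H.B (e i) (e j)‖,
            mul_pos (hne i) (hne j)]
        calc 2 * |(conj (g i) * (g j * H.B (e i) (e j))).re|
            ≤ 2 * ‖conj (g i) * (g j * H.B (e i) (e j))‖ := by
              gcongr; exact Complex.abs_re_le_norm _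
          _ = ‖g i‖ * ‖g j‖ * (2 * ‖H.B (e i) (e j)‖) := by
              rw [norm_mul, norm_mul, Complex.norm_conj]; ring
          _ ≤ ‖g i‖ * ‖g j‖ * (Real.sqrt (H.B (e i) (e i)).re * Real.sqrt (H.B (e j) (e j)).re) := by
              exact mul_le_mul_of_nonneg_left hm (by positivity)
          _ = _ := by rw [hC, hy]; push_cast; ring
    have hdiag : ∀ i, (conj (g i) * (g i * H.B (e i) (e i))).re = y i * y i := fun i => by
      rw [← mul_assoc, Complex.normSq_eq_conj_mul_self.symm, Complex.re_ofReal_mul, Complex.normSq_eq_norm_sq, hy]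
      simp only
      rw [mul_mul_mul_comm, Real.mul_self_sqrt (hne i).le, sq]
    have hzero : (0 : ℝ) = ∑ i, ∑ j, (conj (g i) * (g j * H.B (e i) (e j))).re := by
      have h0 : H.B (∑ i, g i • e i) (∑ i, g i • e i) = 0 := by rw [hg', map_zero]
      rw [H.sum_left] at h0
      simp only [H.smul_left, map_sum, map_smul, smul_eq_mul, Finset.mul_sum] at h0
      simpa using (congrArg Complex.re h0).symm
    have hle : ∑ i, ∑ j, (S.C i j : ℝ) * (y i * y j) ≤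
        ∑ i, ∑ j, 2 * (conj (g i) * (g j * H.B (e i) (e j))).re := by
      refine Finset.sum_le_sum fun i _ => Finset.sum_le_sum fun j _ => ?_
      rcases eq_or_ne i j with rfl | hij
      · rw [hdiag, S.C_diag]
        push_cast
        rfl
      · have h1 := hbound i j hij
        have h2 := neg_abs_le (conj (g i) * (g j * H.B (e i) (e j))).re
        linarith
    have hy0 : y = 0 := h.tab.gram y (fun i => hy ▸ by positivity) (hle.trans (by
      simp only [← Finset.mul_sum, ← hzero, mul_zero, le_refl]))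
    intro i
    have h1 := congrFun hy0 i
    rw [hy] at h1
    simpa [(Real.sqrt_pos.2 (hne i)).ne'] using h1
  simpa using hli.fintype_card_le_finrank

end Sys

end Cfsg.Agent.MinRep
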