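import Cfsg.Agent.Lib.MinRep.Rep

/-
Small representations: the lines of a root and what fixes them.

* `Tables`: the finite conditions on the root system; `Small`: the eigenspaces of a root are smaller than `2 q^N`.
* `line_le_one`, `line_ne_bot`, `line_span`: one dimension for each half of the Heisenberg roots.
* `key`: a root orthogonal to `r` fixes a vector fixed by one root of each pair with sum `r + s`.
* `Std.fix_pos`: the standard line of a simple root is fixed by all other positive roots.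
-/

set_option autoImplicit false
set_option linter.unusedSectionVars false

namespace Cfsg.Agent.MinRep

open Module

namespace Sys

variable {G : Type*} [Group G] {F : Type*} [Field F] [Fintype F] {Φ : Type*} [Fintype Φ] {l : ℕ}
  (S : Sys G F Φ l) {V : Type*} [AddCommGroup V] [Module ℂ V] (ρ : Representation ℂ G V)

/-- The finite conditions on the root system. -/
structure Tables (N : ℕ) : Prop where
  half : ∀ r, (Finset.univ.filter fun a => S.ip r a = 1).card = 2 * N
  orth : ∀ r s, S.ip r s = 0 → ∃ u, S.ip r u = 0 ∧ S.ip s u = 1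
  nbr : ∀ i, ∃ j, S.C i j = -1
  third : ∀ i j, S.C i j = -1 → ∃ k, k ≠ i ∧ k ≠ j ∧
    (S.C i k = -1 ∧ S.C j k = 0 ∨ S.C j k = -1 ∧ S.C i k = 0)
  span : ∀ i j, S.C i j = -1 → ∀ k : Fin l,
    S.co (S.simple k) + S.C i k • S.co (S.simple j) ∈
      AddSubgroup.closure {v | ∃ s, S.ip (S.simple i) s = 0 ∧ v = S.co s}
  gram : ∀ y : Fin l → ℝ, (∀ i, 0 ≤ y i) → ∑ i, ∑ j, (S.C i j : ℝ) * (y i * y j) ≤ 0 → y = 0

/-- The eigenspaces of every root are small and non-zero. -/
structure Small (N : ℕ) : Prop where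
  tab : S.Tables N
  small : ∀ r c, c ≠ 0 → finrank ℂ (Ev ρ (S.x r) c) < 2 * Fintype.card F ^ N
  act : ∀ r c, c ≠ 0 → Ev ρ (S.x r) c ≠ ⊥

/-- The line of `r` for a half `A` of its Heisenberg roots. -/
def Line (r : Φ) (c : F) (A : Φ → Prop) : Submodule ℂ V := Ev ρ (S.x r) c ⊓ S.FixS ρ A

/-- `A` has one root of each Heisenberg pair of `r`. -/
def Half (r : Φ) (A : Φ → Prop) : Prop :=
  (∀ a, A a → S.ip r a = 1) ∧ ∀ a, S.ip r a = 1 → (A a ↔ ¬ A (S.rf a r))

/-- The positive roots of the Heisenberg group of a simple root. -/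
def PosHalf (i : Fin l) (a : Φ) : Prop := S.ip (S.simple i) a = 1 ∧ S.pos a

variable {S ρ}

theorem C_le {i j : Fin l} (h : i ≠ j) : S.C i j = 0 ∨ S.C i j = -1 := by
  have h0 : S.simple j ≠ S.simple i := fun e => h (S.simple_inj e).symm
  have h1 : S.simple j ≠ S.ng (S.simple i) := fun e => S.pos_ng_iff.1 (e ▸ S.pos_simple j) (S.pos_simple i)
  have h2 := S.ip_range h0 h1
  rw [S.ip_simple_simple] at h2
  by_contra hh
  obtain ⟨k, hk⟩ := S.exists_sub (show S.ip (S.simple i) (S.simple j) = 1 by rw [S.ip_simple_simple]; omega)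
  rw [S.co_simple, S.co_simple] at hk
  have e1 := congrFun hk i
  have e2 := congrFun hk j
  simp [h, h.symm] at e1 e2
  rcases S.sgn k with hs | hs
  · have := hs j
    rw [e2] at this
    simp at this
  · have := hs i
    rw [e1] at this
    simp at this

theorem half_posHalf (i : Fin l) : S.Half (S.simple i) (S.PosHalf i) := by
  refine ⟨fun a h => h.1, fun a ha => ⟨fun h1 h2 => ?_, fun h => ⟨ha, by_contra fun hn => h ⟨ip_part ha, ?_⟩⟩⟩⟩
  · have hz : ∀ j, j ≠ i → S.co a j = 0 := fun j hj => by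
      have e := congrFun (part_add ha) j
      rw [S.co_simple, Pi.single_eq_of_ne hj, Pi.add_apply] at e
      have : (0 : ℤ) ≤ S.co a j := h1.2 j
      have : (0 : ℤ) ≤ S.co (S.rf a (S.simple i)) j := h2.2 j
      omega
    rw [S.eq_simple_of h1.2 hz, S.ip_self] at ha
    omega
  · refine by_contra fun hn2 => S.co_ne (S.simple i) (le_antisymm ?_ (S.pos_simple i))
    rw [part_add ha]
    exact add_nonpos (S.not_pos_iff.1 hn2) (S.not_pos_iff.1 hn)

variable {N : ℕ}

open Classical in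
theorem card_half (hT : S.Tables N) {r : Φ} {A : Φ → Prop} (hA : S.Half r A) :
    (Finset.univ.filter A).card = N := by
  have h1 : ((Finset.univ.filter fun a => S.ip r a = 1).filter A).card =
      ((Finset.univ.filter fun a => S.ip r a = 1).filter fun a => ¬ A a).card := by
    refine Finset.card_bij (fun a _ => S.rf a r) (fun a ha => ?_) (fun a ha b hb h => ?_) fun b hb => ?_
    · simp only [Finset.mem_filter, Finset.mem_univ, true_and] at ha ⊢
      exact ⟨ip_part ha.1, (hA.2 a ha.1).1 ha.2⟩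
    · simp only [Finset.mem_filter, Finset.mem_univ, true_and] at ha hb
      rw [← part_part ha.1, h, part_part hb.1]
    · simp only [Finset.mem_filter, Finset.mem_univ, true_and] at hb
      refine ⟨S.rf b r, ?_, part_part hb.1⟩
      simp only [Finset.mem_filter, Finset.mem_univ, true_and]
      exact ⟨ip_part hb.1, by_contra fun h => hb.2 ((hA.2 b hb.1).2 h)⟩
  have h2 := Finset.card_filter_add_card_filter_not (s := Finset.univ.filter fun a => S.ip r a = 1) A
  have h3 : (Finset.univ.filter fun a => S.ip r a = 1).filter A = Finset.univ.filter A := by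
    ext a
    simpa using hA.1 a
  rw [hT.half, ← h1, h3] at h2
  omega

open Classical in
theorem good_half {r : Φ} {A : Φ → Prop} (hA : S.Half r A) : Good S r (Finset.univ.filter A).toList := by
  refine ⟨fun a ha => hA.1 a ?_, Finset.nodup_toList _, fun a ha hp => ?_⟩
  · simpa using ha
  · simp only [Finset.mem_toList, Finset.mem_filter, Finset.mem_univ, true_and] at ha hp
    exact (hA.2 a (hA.1 a ha)).1 ha hp

open Classical in
theorem line_eq (r : Φ) (c : F) (A : Φ → Prop) :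
    S.Line ρ r c A = Ev ρ (S.x r) c ⊓ S.FixS ρ (· ∈ (Finset.univ.filter A).toList) := by
  simp [Line]

theorem inv_Ev {r a : Φ} (ha : S.ip r a = 1) (c : F) : Inv S ρ a (Ev ρ (S.x r) c) :=
  fun t _ hv => x_Ev_self ha hv t

variable [FiniteDimensional ℂ V]

open Classical in
theorem line_le_one (h : S.Small ρ N) {r : Φ} {c : F} (hc : c ≠ 0) {A : Φ → Prop} (hA : S.Half r A) :
    finrank ℂ (S.Line ρ r c A) ≤ 1 := by
  have hg := good_half hA
  have h1 := pow_le hc hg (X := Ev ρ (S.x r) c) le_rfl fun a ha => inv_Ev (ip_part (hg.1 a ha)) c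
  rw [Finset.length_toList, card_half h.tab hA, ← line_eq] at h1
  by_contra hh
  have := h.small r c hc
  have : Fintype.card F ^ N * 2 ≤ Fintype.card F ^ N * finrank ℂ (S.Line ρ r c A) :=
    Nat.mul_le_mul_left _ (by omega)
  omega

open Classical in
theorem line_ne_bot (h : S.Small ρ N) {r : Φ} {c : F} (hc : c ≠ 0) {A : Φ → Prop} (hA : S.Half r A) :
    S.Line ρ r c A ≠ ⊥ := by
  have hg := good_half hA
  rw [line_eq]
  exact exists_fix hc hg le_rfl (fun a ha => ⟨inv_Ev (hg.1 a ha) c, inv_Ev (ip_part (hg.1 a ha)) c⟩)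
    (h.act r c hc)

theorem line_span (h : S.Small ρ N) {r : Φ} {c : F} (hc : c ≠ 0) {A : Φ → Prop} (hA : S.Half r A) {v u : V}
    (hv : v ∈ S.Line ρ r c A) (hv0 : v ≠ 0) (hu : u ∈ S.Line ρ r c A) : ∃ a : ℂ, u = a • v := by
  have h1 : ℂ ∙ v ≤ S.Line ρ r c A := (Submodule.span_singleton_le_iff_mem _ _).2 hv
  have h2 : ℂ ∙ v = S.Line ρ r c A := Submodule.eq_of_le_of_finrank_le h1 (by
    rw [finrank_span_singleton hv0]; exact line_le_one h hc hA)
  obtain ⟨a, ha⟩ := Submodule.mem_span_singleton.1 (h2 ▸ hu)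
  exact ⟨a, ha.symm⟩

/-- A line invariant under the root subgroup of `s` is stabilised by it. -/
theorem line_stab (h : S.Small ρ N) {r : Φ} {c : F} (hc : c ≠ 0) {A : Φ → Prop} (hA : S.Half r A) {v : V}
    (hv : v ∈ S.Line ρ r c A) {s : Φ} (hs : ∀ t, ρ (S.x s t) v ∈ S.Line ρ r c A) : Stab S ρ s v := fun t => by
  rcases eq_or_ne v 0 with rfl | hv0
  · exact ⟨0, by simp⟩
  · exact line_span h hc hA hv hv0 (hs t)

/-! ### The key lemma -/

open Classical in
theorem key (h : S.Small ρ N) {r s : Φ} {c : F} (hc : c ≠ 0) (hrs : S.ip r s = 0) {v : V}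
    (hv : v ∈ Ev ρ (S.x r) c) (hyp : ∀ a k, S.ip r a = 1 → S.ip s a = 1 →
      S.co k = S.co r + S.co s - S.co a → S.Fx ρ a v ∨ S.Fx ρ k v) : S.Fx ρ s v := by
  obtain ⟨s₁, hr1, hs1⟩ := h.tab.orth r s hrs
  have hs' : S.co s = S.co (S.rf s₁ s) + S.co s₁ := part_add hs1
  have hr2 : S.ip r (S.rf s₁ s) = 0 := by
    rw [S.ip_sub (co_part hs1), hrs, hr1]; rfl
  let e := Fintype.equivFin Φ
  let A : Φ → Prop := fun a =>
    S.ip r a = 1 ∧ (S.ip s a = 1 ∨ S.ip s a = 0 ∧ e a < e (S.rf a r))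
  have hips : ∀ a, S.ip r a = 1 → -1 ≤ S.ip s a ∧ S.ip s a ≤ 1 := fun a ha =>
    S.ip_range (fun e => by rw [e, hrs] at ha; omega) (fun e => by rw [e, S.ip_ng_right, hrs] at ha; omega)
  have hpart : ∀ a, S.ip r a = 1 → S.ip s (S.rf a r) = -S.ip s a := fun a ha => by
    rw [S.ip_sub (co_part ha), S.ip_comm s r, hrs, zero_sub]
  have hA : S.Half r A := by
    refine ⟨fun a ha => ha.1, fun a ha => ?_⟩
    simp only [A, ha, ip_part ha, true_and, hpart a ha, part_part ha]
    have := hips a ha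
    rcases (by omega : S.ip s a = -1 ∨ S.ip s a = 0 ∨ S.ip s a = 1) with e1 | e1 | e1
    · simp [e1]
    · simp only [e1, neg_zero, true_and]
      have hne : e a ≠ e (S.rf a r) := fun e2 => part_ne ha (e.injective e2).symm
      simp only [show ¬ ((0 : ℤ) = 1) by omega, false_or, not_lt]
      exact ⟨le_of_lt, fun h' => lt_of_le_of_ne h' hne⟩
    · simp [e1]
  -- the roots `s₁`, `s - s₁` preserve the line
  have hinv : ∀ s', S.ip r s' = 0 → S.ip s s' = 1 → ∀ u ∈ S.Line ρ r c A, ∀ t,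
      ρ (S.x s' t) u ∈ S.Line ρ r c A := by
    intro s' h1 h2 u hu t
    refine ⟨x_Ev (S.ne_ng_of_ip (by omega)) (by omega) hu.1 t, fun a ha => Fx_x (hu.2 a ha) ?_ ?_ t⟩
    · intro e1
      have h5 := ha.1
      rw [e1, S.ip_ng_right, h1] at h5
      omega
    · intro k hk
      have hkr : S.ip r k = 1 := by rw [S.ip_add hk, h1, ha.1]; rfl
      have hks : S.ip s k = 1 + S.ip s a := by rw [S.ip_add hk, h2]
      have := hips k hkr
      refine hu.2 k ⟨hkr, Or.inl ?_⟩
      rcases ha.2 with e1 | ⟨e1, -⟩ <;> omega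
  let B : Φ → Prop := fun a => S.ip r a = 1 ∧ S.ip s a = 1 ∧ S.Fx ρ a v
  have main : ∀ L : List Φ, (∀ a ∈ L, A a ∧ ¬ B a) → ∀ u ∈ Ev ρ (S.x r) c,
      (∀ a, A a → a ∉ L → S.Fx ρ a u) → (∀ a, B a → S.Fx ρ a u) → S.Fx ρ s u := by
    intro L
    induction L with
    | nil =>
      intro _ u hu h1 _
      have hl : u ∈ S.Line ρ r c A := ⟨hu, fun a ha => h1 a ha (by simp)⟩
      exact comm_fix hs' (line_stab h hc hA hl (hinv _ hr2 (ip_part hs1) u hl))
        (line_stab h hc hA hl (hinv _ hr1 hs1 u hl))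
    | cons a L ih =>
      intro hL u hu h1 h2
      obtain ⟨hAa, hBa⟩ := hL a (List.mem_cons_self ..)
      obtain ⟨τ, -, hτ⟩ := decomp (S := S) (ρ := ρ) hc hAa.1
      have hother : ∀ b, A b ∨ B b → b ≠ a → b ≠ S.rf a r := by
        intro b hb hne e1
        rcases hb with hb | hb
        · exact (hA.2 a hAa.1).1 hAa (e1 ▸ hb)
        · have h3 := hb.2.1
          rw [e1, hpart a hAa.1] at h3
          rcases hAa.2 with e2 | ⟨e2, -⟩ <;> omega
      have hcomp : ∀ d, S.Fx ρ s (Pr ρ (S.x a) d u) := by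
        intro d
        have hw1 : Pr ρ (S.x a) d u ∈ Ev ρ (S.x r) c :=
          Pr_mapsTo ρ (fun t => inv_Ev hAa.1 c t) hu
        have hw2 : ∀ b, A b ∨ B b → b ≠ a → S.Fx ρ b u → S.Fx ρ b (Pr ρ (S.x a) d u) := fun b hb hne hf => by
          have hbr : S.ip r b = 1 := hb.elim (fun h => h.1) (fun h => h.1)
          refine S.fx_iff.2 (Pr_mapsTo ρ (fun t w hw => x_Ev_heis hbr hAa.1 (fun e1 => hother b hb hne ?_) hw t)
            (S.fx_iff.1 hf))
          rw [e1, part_part hbr]
        obtain ⟨w, hw⟩ : ∃ w, w = ρ (S.x (S.rf a r) (τ d)) (Pr ρ (S.x a) d u) := ⟨_, rfl⟩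
        have hp := ip_part hAa.1
        have hw3 : ∀ b, A b ∨ B b → b ≠ a → S.Fx ρ b u → S.Fx ρ b w := fun b hb hne hf => by
          have hbr : S.ip r b = 1 := hb.elim (fun h => h.1) (fun h => h.1)
          refine hw ▸ S.fx_iff.2 (x_Ev_heis hbr hp (fun e1 => hne ?_) (S.fx_iff.1 (hw2 b hb hne hf)) _)
          rw [← part_part hbr, ← e1, part_part hAa.1]
        have hsw : S.Fx ρ s w := by
          refine ih (fun b hb => hL b (List.mem_cons_of_mem _ hb)) w (hw ▸ x_Ev_self hp hw1 _)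
            (fun b hb hnb => ?_) fun b hb => hw3 b (Or.inr hb) (fun e1 => hBa (e1 ▸ hb)) (h2 b hb)
          rcases eq_or_ne b a with rfl | hne
          · exact hw ▸ hτ d hw1 (Pr_mem ρ (S.x_add b) d u)
          · exact hw3 b (Or.inl hb) hne (h1 b hb (by simp [hne, hnb]))
        rw [← rinv ρ (S.x (S.rf a r) (τ d)) (Pr ρ (S.x a) d u), ← hw, S.x_inv]
        rcases hAa.2 with e1 | ⟨e1, -⟩
        · -- the partner is moved by `s` into a root fixing `w`
          have hsp : S.ip s (S.rf a r) = -1 := by rw [hpart a hAa.1, e1]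
          obtain ⟨k, hk⟩ := S.sum s (S.rf a r) hsp
          have hk' : S.co k = S.co r + S.co s - S.co a := by rw [hk, co_part hAa.1]; module
          have hkr : S.ip r k = 1 := by rw [S.ip_add hk, hrs, hp]; rfl
          have hks : S.ip s k = 1 := by rw [S.ip_add hk, S.ip_self, hsp]; rfl
          have hkf : S.Fx ρ k v := (hyp a k hAa.1 e1 hk').resolve_left fun hf => hBa ⟨hAa.1, e1, hf⟩
          have hkB : B k := ⟨hkr, hks, hkf⟩
          refine Fx_x hsw (fun e2 => ?_) (fun k' hk2 => ?_) _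
          · rw [e2, S.ip_ng_left, S.ip_self] at hsp
            omega
          · obtain rfl : k' = k := S.co_inj (by rw [hk2, hk, add_comm])
            exact hw3 k' (Or.inr hkB) (fun e1 => hBa (e1 ▸ hkB)) (h2 k' hkB)
        · have hsp : S.ip s (S.rf a r) = 0 := by rw [hpart a hAa.1, e1]; rfl
          exact x_Fx (S.ne_ng_of_ip (by omega)) (by omega) hsw _
      intro t
      rw [← sum_Pr ρ (S.x_add a) u, map_sum]
      exact Finset.sum_congr rfl fun d _ => hcomp d t
  exact main (Finset.univ.filter fun a => A a ∧ ¬ B a).toList (fun a ha => by simpa using ha) v hv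
    (fun a ha hn => (show B a by simpa [ha] using hn).2.2) fun a ha => ha.2.2

/-! ### The standard lines of the simple roots -/

/-- A vector of the standard line of a simple root. -/
def Std (S : Sys G F Φ l) (ρ : Representation ℂ G V) (i : Fin l) (c : F) (v : V) : Prop :=
  c ≠ 0 ∧ v ∈ S.Line ρ (S.simple i) c (S.PosHalf i)

theorem Std.fix_orth (h : S.Small ρ N) {i : Fin l} {c : F} {v : V} (hv : Std S ρ i c v) {s : Φ}
    (hs : S.ip (S.simple i) s = 0) (hpos : S.pos s ∨ ∃ j, S.co (S.simple i) j + S.co s j = 1) : S.Fx ρ s v := by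
  refine key h hv.1 hs hv.2.1 fun a k ha hsa hk => ?_
  have hkr : S.ip (S.simple i) k = 1 := by
    rw [ip, hk, S.ipv_sub_right, S.ipv_add_right]
    change S.ip _ _ + S.ip _ _ - S.ip _ _ = 1
    rw [S.ip_self, hs, ha]
    rfl
  by_contra hh
  push Not at hh
  have h1 : S.co a ≤ 0 := S.not_pos_iff.1 fun hp => hh.1 (hv.2.2 a ⟨ha, hp⟩)
  have h2 : S.co k ≤ 0 := S.not_pos_iff.1 fun hp => hh.2 (hv.2.2 k ⟨hkr, hp⟩)
  have h3 : S.co (S.simple i) + S.co s ≤ 0 := by
    rw [show S.co (S.simple i) + S.co s = S.co k + S.co a by rw [hk]; module]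
    exact add_nonpos h2 h1
  rcases hpos with hp | ⟨j, hj⟩
  · exact S.co_ne (S.simple i) (le_antisymm (le_trans (le_add_of_nonneg_right hp) h3) (S.pos_simple i))
  · have h4 : S.co (S.simple i) j + S.co s j ≤ 0 := h3 j
    omega

theorem Std.fix_ng_simple (h : S.Small ρ N) {i : Fin l} {c : F} {v : V} (hv : Std S ρ i c v) {k : Fin l}
    (hk : S.C i k = 0) : S.Fx ρ (S.ng (S.simple k)) v := by
  have hik : i ≠ k := fun e => by
    subst e
    rw [S.C_diag] at hk
    omega
  refine hv.fix_orth h (by rw [S.ip_ng_right, S.ip_simple_simple, hk, neg_zero]) (Or.inr ⟨i, ?_⟩)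
  rw [S.co_ng, S.co_simple, S.co_simple]
  simp [hik]

theorem Std.fix_pos (h : S.Small ρ N) {i : Fin l} {c : F} {v : V} (hv : Std S ρ i c v) {γ : Φ} (hγ : S.pos γ)
    (hne : γ ≠ S.simple i) : S.Fx ρ γ v := by
  obtain ⟨hc, hvE, hvF⟩ := hv
  have hv : Std S ρ i c v := ⟨hc, hvE, hvF⟩
  have h01 : ∀ γ, S.pos γ → (S.ip (S.simple i) γ = 1 ∨ S.ip (S.simple i) γ = 0) → S.Fx ρ γ v := fun γ hγ hh =>
    hh.elim (fun e => hvF γ ⟨e, hγ⟩) fun e => hv.fix_orth h e (Or.inl hγ)
  have hcases : ∀ γ, S.pos γ → γ ≠ S.simple i →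
      S.Fx ρ γ v ∨ S.ip (S.simple i) γ = -1 := fun γ hγ hne => by
    have h1 := S.ip_range hne fun e => S.pos_ng_iff.1 (e ▸ hγ) (S.pos_simple i)
    rcases (by omega : S.ip (S.simple i) γ = 1 ∨ S.ip (S.simple i) γ = 0 ∨ S.ip (S.simple i) γ = -1) with e | e | e
    · exact Or.inl (h01 γ hγ (Or.inl e))
    · exact Or.inl (h01 γ hγ (Or.inr e))
    · exact Or.inr e
  have hstab : ∀ γ, S.pos γ → Stab S ρ γ v := by
    intro γ hγ
    rcases eq_or_ne γ (S.simple i) with rfl | hne
    · exact stab_of_Ev hvE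
    rcases hcases γ hγ hne with hf | e
    · exact hf.stab
    refine line_stab h hc (half_posHalf i) hv.2 fun t => ⟨?_, fun a ha => Fx_x (hvF a ha) ?_ (fun k hk => ?_) t⟩
    · obtain ⟨k, hk⟩ := S.sum γ (S.simple i) (by change S.ip γ (S.simple i) = -1; rw [S.ip_comm]; exact e)
      obtain ⟨e', -, hsh⟩ := shift (S := S) (ρ := ρ) hk
      have hkf := h01 k (S.pos_of_add hk hγ (S.pos_simple i))
        (Or.inl (by rw [S.ip_add hk, S.ip_self, e]; rfl))
      simpa using hsh hvE (S.fx_iff.1 hkf) t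
    · exact fun e1 => S.pos_ng_iff.1 (e1 ▸ ha.2) hγ
    · exact h01 k (S.pos_of_add hk hγ ha.2) (Or.inr (by rw [S.ip_add hk, e, ha.1]; rfl))
  have hnon : ∀ γ, S.pos γ → (∀ j, γ ≠ S.simple j) → S.Fx ρ γ v := by
    intro γ hγ hns
    obtain ⟨j, hj⟩ := S.exists_descend hγ hns
    have h1 : S.pos (S.rf (S.simple j) γ) := S.pos_rf hγ (hns j)
    refine comm_fix (show S.co γ = S.co (S.rf (S.simple j) γ) + S.co (S.simple j) from ?_) (hstab _ h1)
      (hstab _ (S.pos_simple j))
    rw [S.rf_sub hj, sub_add_cancel]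
  rcases hcases γ hγ hne with hf | e
  · exact hf
  by_cases hns : ∀ j, γ ≠ S.simple j
  · exact hnon γ hγ hns
  push Not at hns
  obtain ⟨j, rfl⟩ := hns
  rw [S.ip_simple_simple] at e
  obtain ⟨k, hki, hkj, hk⟩ := h.tab.third i j e
  have hsum : ∀ {a : Fin l}, S.C a k = -1 → ∃ m, S.co m = S.co (S.simple a) + S.co (S.simple k) ∧
      S.pos m ∧ ∀ b, m ≠ S.simple b := by
    intro a ha
    obtain ⟨m, hm⟩ := S.sum (S.simple a) (S.simple k) (by change S.ip _ _ = -1; rw [S.ip_simple_simple, ha])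
    refine ⟨m, hm, S.pos_of_add hm (S.pos_simple a) (S.pos_simple k), fun b hb => ?_⟩
    have hak : a ≠ k := fun e1 => by subst e1; rw [S.C_diag] at ha; omega
    have e1 := congrFun hm a
    have e2 := congrFun hm k
    rw [hb, S.co_simple, S.co_simple, S.co_simple] at e1 e2
    simp [Pi.single_apply, hak, hak.symm] at e1 e2
    exact hak (e1.trans e2.symm)
  rcases hk with ⟨hik, hjk⟩ | ⟨hjk, hik⟩
  · -- the third node is next to `i`
    rcases eq_or_ne v 0 with rfl | hv0
    · exact fun t => map_zero _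
    obtain ⟨d, hd⟩ : ∃ d, v ∈ Ev ρ (S.x (S.simple j)) d := by
      obtain ⟨d, hd⟩ : ∃ d, Pr ρ (S.x (S.simple j)) d v ≠ 0 := by
        by_contra! hh
        exact hv0 (by rw [← sum_Pr ρ (S.x_add (S.simple j)) v]; exact Finset.sum_eq_zero fun d _ => hh d)
      refine ⟨d, ?_⟩
      have hsp : Pr ρ (S.x (S.simple j)) d v ∈ ℂ ∙ v := by
        refine Pr_mapsTo ρ (fun t w hw => ?_) (Submodule.mem_span_singleton_self v)
        obtain ⟨a, rfl⟩ := Submodule.mem_span_singleton.1 hw
        obtain ⟨b, hb⟩ := hstab _ (S.pos_simple j) t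
        rw [map_smul, hb]
        exact Submodule.smul_mem _ _ (Submodule.smul_mem _ _ (Submodule.mem_span_singleton_self v))
      obtain ⟨a, ha⟩ := Submodule.mem_span_singleton.1 hsp
      have ha0 : a ≠ 0 := fun e1 => hd (by rw [← ha, e1, zero_smul])
      have := Submodule.smul_mem _ a⁻¹ (ha ▸ Pr_mem ρ (S.x_add (S.simple j)) d v)
      rwa [smul_smul, inv_mul_cancel₀ ha0, one_smul] at this
    rcases eq_or_ne d 0 with rfl | hd0
    · exact S.fx_iff.2 hd
    exfalso
    have hv' : Std S ρ j d v := by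
      refine ⟨hd0, hd, fun a ha => ?_⟩
      have hai : a ≠ S.simple i := fun e1 => by
        have h4 := ha.1
        rw [e1, S.ip_simple_simple, S.C_symm, e] at h4
        omega
      rcases hcases a ha.2 hai with hf | -
      · exact hf
      · refine hnon a ha.2 fun b hb => ?_
        have h4 := ha.1
        rw [hb, S.ip_simple_simple] at h4
        rcases eq_or_ne j b with rfl | hjb
        · rw [S.C_diag] at h4; omega
        · rcases C_le (S := S) hjb with h5 | h5 <;> omega
    obtain ⟨m, hm, hmp, -⟩ := hsum hik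
    have hmf : S.Fx ρ m v := h01 m hmp (Or.inl (by
      rw [S.ip_add hm, S.ip_self, S.ip_simple_simple, hik]; rfl))
    have hfix : S.Fx ρ (S.simple i) v := comm_fix
      (show S.co (S.simple i) = S.co m + S.co (S.ng (S.simple k)) by rw [hm, S.co_ng]; module)
      hmf.stab (hv'.fix_ng_simple h hjk).stab
    exact hv0 (by rw [← Pr_self ρ (S.x_add (S.simple i)) hvE,
      Pr_other ρ (S.x_add (S.simple i)) hc ((mem_Ev_zero ρ).2 hfix)])
  · obtain ⟨m, hm, hmp, hms⟩ := hsum hjk
    exact comm_fix (show S.co (S.simple j) = S.co m + S.co (S.ng (S.simple k)) by rw [hm, S.co_ng]; module)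
      (hnon m hmp hms).stab (hv.fix_ng_simple h hik).stab

end Sys

end Cfsg.Agent.MinRep
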