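import Cfsg.Agent.Lib.MinRep.Key

/-
The vector `e` of a simple root fixed by the positive roots and the torus.

* `VU`: vectors fixed by the positive roots; `Exc i`: positive roots other than the `i`-th simple one.
* `Std.neg_comp_ne`, `Std.evec_ne`: the projection of a line vector to the fixed space of `-α` is non-zero.
* `Std.T_fix`: the torus of `α^⊥` fixes the line; `opp_fix`: orthogonal to the vectors `e` of `α` means fixed by `-α`.
* `Std.T_evec`, `Std.evec_span`: the torus fixes `e`, and `e` spans.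
-/

set_option autoImplicit false
set_option linter.unusedSectionVars false

namespace Cfsg.Agent.MinRep

open Module

namespace Sys

variable {G : Type*} [Group G] {F : Type*} [Field F] [Fintype F] {Φ : Type*} [Fintype Φ] {l : ℕ}
  (S : Sys G F Φ l) {V : Type*} [AddCommGroup V] [Module ℂ V] (ρ : Representation ℂ G V)

/-- The positive roots other than the `i`-th simple one. -/
def Exc (i : Fin l) (a : Φ) : Prop := S.pos a ∧ a ≠ S.simple i

/-- Vectors fixed by all positive roots. -/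
def VU : Submodule ℂ V := S.FixS ρ S.pos

/-- The projection of `n w` to the vectors fixed by `α`. -/
noncomputable def evec (i : Fin l) (w : V) : V := Pr ρ (S.x (S.simple i)) 0 (ρ (S.nn (S.simple i) 1) w)

variable {S ρ}

theorem exc_rf {i : Fin l} {a : Φ} (ha : S.Exc i a) : S.Exc i (S.rf (S.simple i) a) := by
  refine ⟨S.pos_rf ha.1 ha.2, fun e => ?_⟩
  have := congrArg (S.rf (S.simple i)) e
  rw [S.rf_rf, S.rf_self] at this
  exact S.pos_ng_iff.1 (this ▸ ha.1) (S.pos_simple i)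

theorem n_exc {i : Fin l} {v : V} (hv : v ∈ S.FixS ρ (S.Exc i)) :
    ρ (S.nn (S.simple i) 1) v ∈ S.FixS ρ (S.Exc i) := fun a ha => by
  simpa [S.rf_rf] using n_Fx (S.simple i) (hv _ (exc_rf ha))

theorem n_inv_exc {i : Fin l} {v : V} (hv : v ∈ S.FixS ρ (S.Exc i)) :
    ρ (S.nn (S.simple i) 1)⁻¹ v ∈ S.FixS ρ (S.Exc i) := fun a ha => by
  simpa [S.rf_rf] using n_inv_Fx (S.simple i) (hv _ (exc_rf ha))

theorem x_exc {i : Fin l} {v : V} (hv : v ∈ S.FixS ρ (S.Exc i)) (t : F) :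
    ρ (S.x (S.simple i) t) v ∈ S.FixS ρ (S.Exc i) := fun a ha =>
  Fx_x (hv a ha) (fun e => S.pos_ng_iff.1 (e ▸ ha.1) (S.pos_simple i)) (fun k hk => hv k
    ⟨S.pos_of_add hk (S.pos_simple i) ha.1, fun e => S.co_ne a (by rwa [e, left_eq_add] at hk)⟩) t

theorem Pr_exc {i : Fin l} {v : V} (hv : v ∈ S.FixS ρ (S.Exc i)) (c : F) :
    Pr ρ (S.x (S.simple i)) c v ∈ S.FixS ρ (S.Exc i) :=
  Pr_mapsTo ρ (fun t _ hw => x_exc hw t) hv

theorem T_FixS (a : Fin l → ℤ) {t : F} (ht : t ≠ 0) {A : Φ → Prop} {v : V} (hv : v ∈ S.FixS ρ A) :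
    ρ (S.T a t) v ∈ S.FixS ρ A := fun b hb => T_Fx a ht (hv b hb)

theorem T_Pr_zero (a : Fin l → ℤ) {t : F} (ht : t ≠ 0) (r : Φ) (v : V) :
    ρ (S.T a t) (Pr ρ (S.x r) 0 v) = Pr ρ (S.x r) 0 (ρ (S.T a t) v) :=
  Pr_zero_comm ρ (zpow_ne_zero _ ht) (fun u => S.T_conj a r t u ht) v

theorem T_inv {a : Fin l → ℤ} {t : F} (ht : t ≠ 0) : (S.T a t)⁻¹ = S.T a t⁻¹ :=
  (eq_inv_of_mul_eq_one_left (by rw [← S.T_mul _ _ _ (inv_ne_zero ht) ht, inv_mul_cancel₀ ht, S.T_one])).symm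

/-- Additive sets containing the simple roots are everything. -/
theorem closure_simple (Λ : AddSubgroup (Fin l → ℤ)) (h : ∀ k, S.co (S.simple k) ∈ Λ) (a : Fin l → ℤ) : a ∈ Λ := by
  have : a = ∑ k, a k • S.co (S.simple k) := by
    simp only [S.co_simple]
    exact funext fun j => by simp [Finset.sum_apply, Pi.single_apply]
  rw [this]
  exact sum_mem fun k _ => zsmul_mem (h k) _

theorem n_T' (r : Φ) (a : Fin l → ℤ) {t : F} (ht : t ≠ 0) :
    S.nn r 1 * S.T a t = S.T (a - ipv S.C (S.co r) a • S.co r) t * S.nn r 1 := by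
  let Λ : AddSubgroup (Fin l → ℤ) :=
    { carrier := {a | S.nn r 1 * S.T a t = S.T (a - ipv S.C (S.co r) a • S.co r) t * S.nn r 1}
      add_mem' := fun {a b} ha hb => by
        show S.nn r 1 * S.T (a + b) t = S.T (a + b - ipv S.C (S.co r) (a + b) • S.co r) t * S.nn r 1
        rw [show a + b - ipv S.C (S.co r) (a + b) • S.co r =
          (a - ipv S.C (S.co r) a • S.co r) + (b - ipv S.C (S.co r) b • S.co r) by rw [S.ipv_add_right]; module,
          S.T_add _ _ _ ht, S.T_add _ _ _ ht, ← mul_assoc, ha, mul_assoc, hb, mul_assoc]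
      zero_mem' := by
        have h0 : ipv S.C (S.co r) 0 = 0 := by simp [ipv]
        show S.nn r 1 * S.T 0 t = S.T (0 - ipv S.C (S.co r) 0 • S.co r) t * S.nn r 1
        rw [h0, zero_smul, sub_zero, S.T_zero ht, mul_one, one_mul]
      neg_mem' := fun {a} ha => by
        show S.nn r 1 * S.T (-a) t = S.T (-a - ipv S.C (S.co r) (-a) • S.co r) t * S.nn r 1
        rw [show -a - ipv S.C (S.co r) (-a) • S.co r = -(a - ipv S.C (S.co r) a • S.co r) by
          rw [S.ipv_neg_right]; module, S.T_neg _ ht, S.T_neg _ ht, eq_inv_mul_iff_mul_eq, ← mul_assoc, ← ha,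
          mul_inv_cancel_right] }
  exact closure_simple (S := S) Λ (fun k => by
    show S.nn r 1 * S.T _ t = _
    rw [S.n_T r (S.simple k) ht, S.co_rf]
    rfl) a

theorem T_evec_comm (i : Fin l) (a : Fin l → ℤ) {t : F} (ht : t ≠ 0) (w : V) :
    S.evec ρ i (ρ (S.T a t) w) =
      ρ (S.T (a - ipv S.C (S.co (S.simple i)) a • S.co (S.simple i)) t) (S.evec ρ i w) := by
  rw [evec, evec, T_Pr_zero _ ht, ← rmul, n_T' _ _ ht, rmul]

theorem evec_eq (i : Fin l) (w : V) :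
    S.evec ρ i w = ρ (S.nn (S.simple i) 1) (Pr ρ (S.x (S.ng (S.simple i))) 0 w) := by
  rw [evec, Pr_zero_comm ρ (S.η_ne _ _) (S.conj' (S.simple i) (S.ng (S.simple i))), S.rf_ng, S.rf_self, S.ng_ng]

variable {N : ℕ} [FiniteDimensional ℂ V]

theorem Std.mem_exc (h : S.Small ρ N) {i : Fin l} {c : F} {v : V} (hv : Std S ρ i c v) :
    v ∈ S.FixS ρ (S.Exc i) := fun _ ha => hv.fix_pos h ha.1 ha.2

theorem evec_mem {i : Fin l} {v : V} (hv : v ∈ S.FixS ρ (S.Exc i)) : S.evec ρ i v ∈ S.VU ρ := fun a ha => by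
  rcases eq_or_ne a (S.simple i) with rfl | hne
  · exact S.fx_iff.2 (Pr_mem ρ (S.x_add (S.simple i)) 0 _)
  · exact Pr_exc (n_exc hv) 0 a ⟨ha, hne⟩

theorem Std.evec_mem (h : S.Small ρ N) {i : Fin l} {c : F} {v : V} (hv : Std S ρ i c v) :
    S.evec ρ i v ∈ S.VU ρ := Sys.evec_mem (hv.mem_exc h)

theorem Std.T_mem {i : Fin l} {c : F} {v : V} (hv : Std S ρ i c v) (a : Fin l → ℤ) {t : F} (ht : t ≠ 0) :
    Std S ρ i (c / t ^ ipv S.C a (S.co (S.simple i))) (ρ (S.T a t) v) :=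
  ⟨div_ne_zero hv.1 (zpow_ne_zero _ ht), T_Ev a ht hv.2.1, T_FixS a ht hv.2.2⟩

theorem Std.of_exc {i : Fin l} {c : F} (hc : c ≠ 0) {y : V} (hy : y ∈ S.FixS ρ (S.Exc i)) :
    Std S ρ i c (Pr ρ (S.x (S.simple i)) c y) := by
  refine ⟨hc, Pr_mem ρ (S.x_add (S.simple i)) c y, fun a ha => Pr_exc hy c a ⟨ha.2, fun e => ?_⟩⟩
  have h1 := ha.1
  rw [e, S.ip_self] at h1
  omega

theorem exists_std (h : S.Small ρ N) (i : Fin l) {c : F} (hc : c ≠ 0) : ∃ w, Std S ρ i c w ∧ w ≠ 0 := by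
  obtain ⟨w, hw, hw0⟩ := Submodule.exists_mem_ne_zero_of_ne_bot (line_ne_bot h hc (half_posHalf i))
  exact ⟨w, ⟨hc, hw⟩, hw0⟩

/-- The vector `n_α n_β P_{-β} w` is in a standard line of `β`. -/
theorem Std.z_std (h : S.Small ρ N) {i j : Fin l} (hij : S.C i j = -1) {c : F} {w : V} (hw : Std S ρ i c w) :
    ∃ c', Std S ρ j c'
      (ρ (S.nn (S.simple i) 1) (ρ (S.nn (S.simple j) 1) (Pr ρ (S.x (S.ng (S.simple j))) 0 w))) := by
  obtain ⟨α, hα⟩ : ∃ α, α = S.simple i := ⟨_, rfl⟩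
  obtain ⟨β, hβ⟩ : ∃ β, β = S.simple j := ⟨_, rfl⟩
  obtain ⟨z, hz⟩ : ∃ z, z = Pr ρ (S.x (S.ng β)) 0 w := ⟨_, rfl⟩
  rw [← hα, ← hβ, ← hz]
  have hαβ : S.ip α β = -1 := by rw [hα, hβ, S.ip_simple_simple, hij]
  have hβα : S.ip β α = -1 := by rw [S.ip_comm, hαβ]
  have hμ : S.rf α (S.rf β α) = β := S.co_inj (by
    rw [S.co_rf, S.ip_rf_right, S.ip_self, hβα, hαβ, S.rf_add hβα]; module)
  have hzE : z ∈ Ev ρ (S.x α) c := hz ▸ Pr_mapsTo ρ (fun t v hv => x_Ev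
    (S.ne_ng_of_ip (by rw [S.ip_ng_right, hαβ]; omega)) (by rw [S.ip_ng_right, hαβ]; omega) hv t) (hα ▸ hw.2.1)
  have h2 : ρ (S.nn α 1) (ρ (S.nn β 1) z) ∈ Ev ρ (S.x β) (c / S.η β α / S.η α (S.rf β α)) := by
    have := n_Ev α (n_Ev β hzE)
    rwa [hμ] at this
  have hu : Std S ρ j (c / S.η β α / S.η α (S.rf β α)) (ρ (S.nn α 1) (ρ (S.nn β 1) z)) := by
    refine ⟨div_ne_zero (div_ne_zero hw.1 (S.η_ne _ _)) (S.η_ne _ _), hβ ▸ h2, fun a ha => ?_⟩
    have ha1 : S.ip β a = 1 := hβ ▸ ha.1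
    have hδ : S.ip α (S.rf β (S.rf α a)) = 1 := by
      have e2 := S.ip_rf β (S.rf β α) (S.rf α a)
      rw [S.rf_rf] at e2
      have e1 := S.ip_rf α (S.rf β α) (S.rf α a)
      rw [hμ, S.rf_rf] at e1
      rw [e2, ← e1, ha1]
    have haα : a ≠ α := fun e => by
      rw [e, hβα] at ha1
      omega
    have hp : S.pos (S.rf α a) := hα ▸ S.pos_rf ha.2 (hα ▸ haα)
    have hzδ : S.Fx ρ (S.rf β (S.rf α a)) z := by
      by_cases hb : S.rf α a = β
      · rw [hb, S.rf_self]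
        exact hz ▸ S.fx_iff.2 (Pr_mem ρ (S.x_add (S.ng β)) 0 w)
      have hdp : S.pos (S.rf β (S.rf α a)) := hβ ▸ S.pos_rf hp (hβ ▸ hb)
      have hwF : S.Fx ρ (S.rf β (S.rf α a)) w := hw.2.2 _ ⟨hα ▸ hδ, hdp⟩
      refine S.fx_iff.2 (hz ▸ Pr_mapsTo ρ (fun t v hv => S.fx_iff.1 (Fx_x (S.fx_iff.2 hv) (fun e => ?_)
        (fun k hk => absurd hk fun hk' => ?_) t)) (S.fx_iff.1 hwF))
      · rw [S.ng_ng] at e
        rw [e, hαβ] at hδ
        omega
      · have hk2 : S.ip α k = 2 := by rw [S.ip_add hk', S.ip_ng_right, hαβ, hδ]; rfl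
        rw [S.eq_of_ip_two hk2, S.co_ng] at hk'
        have hδ' : S.rf β (S.rf α a) = S.rf β α := S.co_inj (by
          rw [S.rf_add hβα, hk']
          module)
        have := congrArg (S.rf α) (S.rf_inj β hδ')
        rw [S.rf_rf, S.rf_self] at this
        exact S.pos_ng_iff.1 (this ▸ ha.2) (hα ▸ S.pos_simple i)
    simpa [S.rf_rf] using n_Fx α (n_Fx β hzδ)
  exact ⟨_, hu⟩

/-- The vector `P_{-β} w` is fixed by `-(α+β)`. -/
theorem Std.z_fix (h : S.Small ρ N) {i j : Fin l} (hij : S.C i j = -1) {c : F} {w : V} (hw : Std S ρ i c w) :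
    S.Fx ρ (S.ng (S.rf (S.simple j) (S.simple i))) (Pr ρ (S.x (S.ng (S.simple j))) 0 w) := by
  obtain ⟨c', hu⟩ := hw.z_std h hij
  have h3 := hu.fix_pos h (S.pos_simple i) fun e => by
    rw [S.simple_inj e, S.C_diag] at hij
    omega
  have h5 := n_inv_Fx (S.simple j) (n_inv_Fx (S.simple i) h3)
  rwa [rinv, rinv, S.rf_self, S.rf_ng] at h5

theorem Std.neg_comp_ne (h : S.Small ρ N) (H : Herm ρ) {i : Fin l} {c : F} {w : V} (hw : Std S ρ i c w)
    (hw0 : w ≠ 0) : Pr ρ (S.x (S.ng (S.simple i))) 0 w ≠ 0 := by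
  intro h0
  obtain ⟨j, hij⟩ := h.tab.nbr i
  have hzf := hw.z_fix h hij
  obtain ⟨α, hα⟩ : ∃ α, α = S.simple i := ⟨_, rfl⟩
  obtain ⟨β, hβ⟩ : ∃ β, β = S.simple j := ⟨_, rfl⟩
  obtain ⟨z, hz⟩ : ∃ z, z = Pr ρ (S.x (S.ng β)) 0 w := ⟨_, rfl⟩
  obtain ⟨μ, hμ⟩ : ∃ μ, μ = S.rf β α := ⟨_, rfl⟩
  rw [← hα, ← hβ, ← hμ, ← hz] at hzf
  rw [← hα] at h0
  have hαβ : S.ip α β = -1 := by rw [hα, hβ, S.ip_simple_simple, hij]
  have hβα : S.ip β α = -1 := by rw [S.ip_comm, hαβ]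
  have hcoμ : S.co μ = S.co β + S.co α := hμ ▸ S.rf_add hβα
  have hαμ : S.ip α μ = 1 := by rw [S.ip_add hcoμ, hαβ, S.ip_self]; rfl
  have hβμ : S.ip β μ = 1 := by rw [S.ip_add hcoμ, hβα, S.ip_self]; rfl
  have hμp : S.pos μ := S.pos_of_add hcoμ (hβ ▸ S.pos_simple j) (hα ▸ S.pos_simple i)
  have hzb : S.Fx ρ (S.ng β) z := hz ▸ S.fx_iff.2 (Pr_mem ρ (S.x_add (S.ng β)) 0 w)
  -- the component of `z` fixed by `-α` vanishes
  have hPz : Pr ρ (S.x (S.ng α)) 0 z = 0 := by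
    obtain ⟨v, hv⟩ : ∃ v, v = Pr ρ (S.x (S.ng α)) 0 z := ⟨_, rfl⟩
    rw [← hv]
    have hva : S.Fx ρ (S.ng α) v := hv ▸ S.fx_iff.2 (Pr_mem ρ (S.x_add (S.ng α)) 0 z)
    have hvm : S.Fx ρ (S.ng μ) v := by
      refine hv ▸ S.fx_iff.2 (Pr_mapsTo ρ (fun t u hu => ?_) (S.fx_iff.1 hzf))
      refine x_Ev (S.ne_ng_of_ip ?_) ?_ hu t <;>
        · rw [S.ip_ng_left, S.ip_ng_right, S.ip_comm μ α, hαμ]; omega
    have hw' : S.Fx ρ (S.ng α) (Pr ρ (S.x (S.ng β)) 0 v) := by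
      refine S.fx_iff.2 (Pr_mapsTo ρ (W := Ev ρ (S.x (S.ng α)) 0 ⊓ Ev ρ (S.x (S.ng μ)) 0) (fun t u hu => ?_)
        (show v ∈ _ from ⟨S.fx_iff.1 hva, S.fx_iff.1 hvm⟩)).1
      refine ⟨S.fx_iff.1 (Fx_x (S.fx_iff.2 hu.1) (fun e => ?_) (fun k hk => ?_) t), ?_⟩
      · rw [S.ng_ng] at e
        rw [← e, S.ip_ng_right, S.ip_self] at hαβ
        omega
      · obtain rfl : k = S.ng μ := S.co_inj (by rw [hk, S.co_ng, S.co_ng, S.co_ng, hcoμ]; module)
        exact S.fx_iff.2 hu.2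
      · refine x_Ev (S.ne_ng_of_ip ?_) ?_ hu.2 t <;>
          · rw [S.ip_ng_left, S.ip_ng_right, S.ip_comm μ β, hβμ]; omega
    refine H.eq_zero ?_
    nth_rewrite 2 [hv]
    rw [← H.Pr_adjoint (S.x_add (S.ng α)), Pr_self ρ (S.x_add (S.ng α)) (S.fx_iff.1 hva), hz,
      ← H.Pr_adjoint (S.x_add (S.ng β)), ← Pr_self ρ (S.x_add (S.ng α)) (S.fx_iff.1 hw'),
      H.Pr_adjoint (S.x_add (S.ng α)), h0, map_zero]
  have h1 : H.B (ρ (S.x β 1) z) z = 0 := by
    have e := S.x_ng_eq (S.ng β) (one_ne_zero (α := F))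
    rw [S.ng_ng, inv_one] at e
    rw [e, rmul, rmul, hzb, H.inv_left, S.x_inv, hzb, ← Pr_self ρ (S.x_add (S.ng μ)) (S.fx_iff.1 hzf),
      ← H.Pr_adjoint (S.x_add (S.ng μ)), Pr_self ρ (S.x_add (S.ng μ)) (S.fx_iff.1 hzf), rmul,
      ← T_Pr_zero _ (neg_ne_zero.2 one_ne_zero)]
    have e2 := Pr_zero_comm ρ (S.η_ne _ _) (S.conj' (S.ng β) (S.ng α)) z
    have e3 : S.rf (S.ng β) (S.ng α) = S.ng μ := by
      rw [hμ, S.rf_ng]
      exact congrArg S.ng (S.co_inj (by rw [S.co_rf, S.co_rf, S.co_ng, S.ip_ng_left]; module))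
    rw [e3] at e2
    rw [← e2, hPz, map_zero, map_zero, H.zero_left]
  have hzE : z ∈ Ev ρ (S.x α) c := hz ▸ Pr_mapsTo ρ (fun t v hv => x_Ev
    (S.ne_ng_of_ip (by rw [S.ip_ng_right, hαβ]; omega)) (by rw [S.ip_ng_right, hαβ]; omega) hv t) (hα ▸ hw.2.1)
  obtain ⟨e', he', hsh'⟩ := shift (S := S) (ρ := ρ) (show S.co α = S.co (S.ng β) + S.co μ by
    rw [S.co_ng, hcoμ]; module)
  have hwμ : S.Fx ρ μ w := hw.2.2 μ ⟨hα ▸ hαμ, hμp⟩
  have hwβ : S.Fx ρ β w := hβ ▸ hw.fix_pos h (S.pos_simple j) fun e => by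
    rw [hβ, e, ← hα, S.ip_self] at hαβ
    omega
  have hz0 : Pr ρ (S.x μ) 0 z = (Fintype.card F : ℂ)⁻¹ • w := by
    rw [hz, Pr_apply ρ (S.x (S.ng β)) 0 w, map_smul, map_sum]
    congr 1
    rw [Finset.sum_eq_single (0 : F)]
    · rw [zero_mul, neg_zero, AddChar.map_zero_eq_one, one_smul, S.x_zero, map_one, Module.End.one_apply,
        Pr_self ρ (S.x_add μ) (S.fx_iff.1 hwμ)]
    · intro t _ ht
      have := hsh' (S.fx_iff.1 hwμ) (hα ▸ hw.2.1) t
      rw [map_smul, Pr_other ρ (S.x_add μ) (fun e0 => ?_) this, smul_zero]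
      rw [zero_add] at e0
      exact mul_ne_zero (mul_ne_zero he' ht) hw.1 e0.symm
    · exact fun hh => absurd (Finset.mem_univ _) hh
  obtain ⟨e'', he'', hsh⟩ := shift (S := S) (ρ := ρ) hcoμ
  have hμE : ∀ d, Pr ρ (S.x μ) d z ∈ Ev ρ (S.x α) c := fun d =>
    Pr_mapsTo ρ (fun t v hv => x_Ev (S.ne_ng_of_ip (by omega)) (by omega) hv t) hzE
  have hx : ∀ d, ρ (S.x β 1) (Pr ρ (S.x μ) d z) ∈ Ev ρ (S.x μ) d := fun d =>
    x_Ev (S.ne_ng_of_ip (by rw [S.ip_comm, hβμ]; omega)) (by rw [S.ip_comm, hβμ]; omega)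
      (Pr_mem ρ (S.x_add μ) d z) 1
  have h2 : H.B (ρ (S.x β 1) z) z = H.B (ρ (S.x β 1) (Pr ρ (S.x μ) 0 z)) (Pr ρ (S.x μ) 0 z) := by
    have hxz : ρ (S.x β 1) z = ∑ d, ρ (S.x β 1) (Pr ρ (S.x μ) d z) := by rw [← map_sum, sum_Pr ρ (S.x_add μ)]
    have hB : ∀ u, H.B u z = ∑ d, H.B u (Pr ρ (S.x μ) d z) := fun u => by rw [← map_sum, sum_Pr ρ (S.x_add μ)]
    rw [hxz, H.sum_left]
    simp only [hB]
    refine Fintype.sum_eq_single 0 (fun d hd => ?_) |>.trans ?_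
    · skip
      refine Finset.sum_eq_zero fun d' _ => ?_
      rcases eq_or_ne d d' with rfl | hne
      · refine H.orth (fun e0 => ?_) (hsh (hμE d) (Pr_mem ρ (S.x_add μ) d z) 1) (hμE d)
        rw [mul_one, add_eq_left] at e0
        exact mul_ne_zero he'' hd e0
      · exact H.orth hne (hx d) (Pr_mem ρ (S.x_add μ) d' z)
    · exact Fintype.sum_eq_single 0 fun d hd => H.orth hd.symm (hx 0) (Pr_mem ρ (S.x_add μ) d z)
  rw [h1, hz0, map_smul (ρ (S.x β 1)), hwβ, H.smul_left, map_smul, smul_eq_mul] at h2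
  exact mul_ne_zero (by simp) (mul_ne_zero (inv_ne_zero q_ne) (H.self_ne hw0)) h2.symm

theorem Std.evec_ne (h : S.Small ρ N) (H : Herm ρ) {i : Fin l} {c : F} {w : V} (hw : Std S ρ i c w)
    (hw0 : w ≠ 0) : S.evec ρ i w ≠ 0 := fun e => hw.neg_comp_ne h H hw0 (rinj ρ (S.nn (S.simple i) 1) (by
  rw [← evec_eq, e, map_zero]))

/-! ### The torus -/

/-- A non-zero vector of `Ev r` scaled by `g` yields one in the line of `A`, fixed by one root of each pair. -/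
theorem meet {r : Φ} {c : F} (hc : c ≠ 0) {g : G} {θ : ℂ}
    (hg : ∀ (a : Φ) (v : V), ρ g (Pr ρ (S.x a) 0 v) = Pr ρ (S.x a) 0 (ρ g v)) {A : Φ → Prop} (hA : S.Half r A) :
    ∀ L : List Φ, (∀ a ∈ L, A a) → L.Nodup → ∀ u ∈ Ev ρ (S.x r) c, u ≠ 0 → ρ g u = θ • u →
      (∀ a, A a → a ∉ L → S.Fx ρ a u) → (∀ a ∈ L, S.Fx ρ a u ∨ S.Fx ρ (S.rf a r) u) →
      ∃ v ∈ S.Line ρ r c A, v ≠ 0 ∧ ρ g v = θ • v
  | [], _, _, u, hu, hu0, hgu, hfix, _ => ⟨u, ⟨hu, fun a ha => hfix a ha (by simp)⟩, hu0, hgu⟩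
  | a :: L, hL, hnd, u, hu, hu0, hgu, hfix, hor => by
    have hAa := hL a (List.mem_cons_self ..)
    have har := hA.1 a hAa
    obtain ⟨hanL, hnd'⟩ := List.nodup_cons.1 hnd
    by_cases hfa : S.Fx ρ a u
    · refine meet hc hg hA L (fun b hb => hL b (List.mem_cons_of_mem _ hb)) hnd' u hu hu0 hgu (fun b hb hn => ?_)
        fun b hb => hor b (List.mem_cons_of_mem _ hb)
      rcases eq_or_ne b a with rfl | hne
      · exact hfa
      · exact hfix b hb (by simp [hn, hne])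
    have hfp : S.Fx ρ (S.rf a r) u := (hor a (List.mem_cons_self ..)).resolve_left hfa
    have hother : ∀ b, A b → b ≠ a → a ≠ S.rf b r ∧ a ≠ S.rf (S.rf b r) r := fun b hb hne =>
      ⟨fun e => (hA.2 b (hA.1 b hb)).1 hb (e ▸ hAa), fun e => hne (by rw [part_part (hA.1 b hb)] at e; exact e.symm)⟩
    have hne : Pr ρ (S.x a) 0 u ≠ 0 := by
      intro e0
      obtain ⟨e', he', hsh⟩ := shift (S := S) (ρ := ρ) (part_add har)
      refine hu0 ((sum_Pr ρ (S.x_add a) u).symm.trans (Finset.sum_eq_zero fun d _ => ?_))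
      have hE : ∀ b, Pr ρ (S.x a) b u ∈ Ev ρ (S.x r) c := fun b => Pr_mapsTo ρ (fun t => inv_Ev har c t) hu
      obtain ⟨t, ht⟩ : ∃ t : F, d + e' * t * c = 0 := ⟨-d / (e' * c), by field_simp; ring⟩
      refine rinj ρ (S.x (S.rf a r) t) ?_
      rw [map_zero, ← e0]
      conv_rhs => rw [← hfp t, ← sum_Pr ρ (S.x_add a) u, map_sum, map_sum]
      rw [Fintype.sum_eq_single d fun b hb => ?_]
      · have := hsh (Pr_mem ρ (S.x_add a) d u) (hE d) t
        rw [ht] at this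
        rw [Pr_self ρ (S.x_add a) this]
      · refine Pr_other ρ (S.x_add a) (fun e1 => hb ?_) (hsh (Pr_mem ρ (S.x_add a) b u) (hE b) t)
        linear_combination (norm := ring) -e1 - ht
    have hpres : ∀ b, A b → b ≠ a → ∀ x, (x = b ∨ x = S.rf b r) → S.Fx ρ x u →
        S.Fx ρ x (Pr ρ (S.x a) 0 u) := by
      intro b hb hne' x hx hf
      refine S.fx_iff.2 (Pr_mapsTo ρ (fun t v hv => ?_) (S.fx_iff.1 hf))
      rcases hx with rfl | rfl
      · exact x_Ev_heis (hA.1 x hb) har (hother x hb hne').1 hv t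
      · exact x_Ev_heis (ip_part (hA.1 b hb)) har (hother b hb hne').2 hv t
    refine meet hc hg hA L (fun b hb => hL b (List.mem_cons_of_mem _ hb)) hnd' _
      (Pr_mapsTo ρ (fun t => inv_Ev har c t) hu) hne (by rw [hg, hgu, map_smul]) (fun b hb hn => ?_) fun b hb => ?_
    · rcases eq_or_ne b a with rfl | hne'
      · exact S.fx_iff.2 (Pr_mem ρ (S.x_add b) 0 u)
      · exact hpres b hb hne' b (Or.inl rfl) (hfix b hb (by simp [hn, hne']))
    · have hne' : b ≠ a := fun e => hanL (e ▸ hb)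
      have hb' := hL b (List.mem_cons_of_mem _ hb)
      exact (hor b (List.mem_cons_of_mem _ hb)).imp (hpres b hb' hne' b (Or.inl rfl))
        (hpres b hb' hne' _ (Or.inr rfl))

open Classical in
theorem Std.T_fix_root (h : S.Small ρ N) {i : Fin l} {c : F} {w : V} (hw : Std S ρ i c w) {s : Φ}
    (hs : S.ip (S.simple i) s = 0) {t : F} (ht : t ≠ 0) : ρ (S.T (S.co s) t) w = w := by
  rcases eq_or_ne w 0 with rfl | hw0
  · exact map_zero _
  obtain ⟨r, hr⟩ : ∃ r, r = S.simple i := ⟨_, rfl⟩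
  rw [← hr] at hs
  let e := Fintype.equivFin Φ
  let K : Φ → Φ := fun a => S.rf (S.rf a s) r
  have hK : ∀ a, S.ip r a = 1 → S.ip s a = 1 →
      S.co (K a) = S.co r + S.co s - S.co a ∧ S.ip r (K a) = 1 ∧ S.ip s (K a) = 1 ∧ K a ≠ a := by
    intro a ha hsa
    have h1 := co_part (S := S) hsa
    have h2 : S.ip r (S.rf a s) = -1 := by rw [S.ip_sub h1, hs, ha]; rfl
    have h3 : S.co (K a) = S.co r + S.co s - S.co a := by
      change S.co (S.rf (S.rf a s) r) = _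
      rw [S.rf_add (show S.ip (S.rf a s) r = -1 by rw [S.ip_comm, h2]), h1]
      module
    refine ⟨h3, ?_, ?_, fun e1 => ?_⟩
    · rw [ip, h3, S.ipv_sub_right, S.ipv_add_right]
      change S.ip r r + S.ip r s - S.ip r a = 1
      rw [S.ip_self, hs, ha]; rfl
    · rw [ip, h3, S.ipv_sub_right, S.ipv_add_right]
      change S.ip s r + S.ip s s - S.ip s a = 1
      rw [S.ip_self, S.ip_comm, hs, hsa]; rfl
    · rw [e1] at h3
      have h4 := congrArg (fun v => ipv S.C (S.co a) v) h3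
      simp only [S.ipv_sub_right, S.ipv_add_right] at h4
      change S.ip a a = S.ip a r + S.ip a s - S.ip a a at h4
      rw [S.ip_self, S.ip_comm a r, S.ip_comm a s, ha, hsa] at h4
      omega
  have hKK : ∀ a, S.ip r a = 1 → S.ip s a = 1 → K (K a) = a := fun a ha hsa => by
    obtain ⟨h1, h2, h3, -⟩ := hK a ha hsa
    refine S.co_inj ?_
    rw [(hK _ h2 h3).1, h1]
    module
  let A : Φ → Prop := fun a => S.ip r a = 1 ∧
    (S.ip s a = 1 ∧ e a < e (K a) ∨ S.ip s a = 0 ∧ e a < e (S.rf a r) ∨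
      S.ip s a = -1 ∧ ¬ e (S.rf a r) < e (K (S.rf a r)))
  have hips : ∀ a, S.ip r a = 1 → -1 ≤ S.ip s a ∧ S.ip s a ≤ 1 := fun a ha =>
    S.ip_range (fun e => by rw [e, hs] at ha; omega) (fun e => by rw [e, S.ip_ng_right, hs] at ha; omega)
  have hpart : ∀ a, S.ip r a = 1 → S.ip s (S.rf a r) = -S.ip s a := fun a ha => by
    rw [S.ip_sub (co_part ha), S.ip_comm s r, hs, zero_sub]
  have hA : S.Half r A := by
    refine ⟨fun a ha => ha.1, fun a ha => ?_⟩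
    simp only [A, ha, ip_part ha, true_and, hpart a ha, part_part ha]
    have := hips a ha
    rcases (by omega : S.ip s a = -1 ∨ S.ip s a = 0 ∨ S.ip s a = 1) with e1 | e1 | e1
    · simp [e1]
    · have hne : e a ≠ e (S.rf a r) := fun e2 => part_ne ha (e.injective e2).symm
      simp only [e1, neg_zero, show ¬ ((0 : ℤ) = 1) by omega, show ¬ ((0 : ℤ) = -1) by omega, false_and, false_or,
        or_false, true_and, not_lt]
      exact ⟨le_of_lt, fun h' => lt_of_le_of_ne h' hne⟩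
    · simp [e1]
  obtain ⟨θ, hθ⟩ : ∃ θ : ℂ, ρ (S.T (S.co s) t) w = θ • w := by
    refine line_span h hw.1 (half_posHalf i) hw.2 hw0 ⟨?_, T_FixS _ ht hw.2.2⟩
    have h0 := T_Ev (S.co s) ht hw.2.1
    rwa [show ipv S.C (S.co s) (S.co (S.simple i)) = 0 by rw [S.ipv_comm, ← hr]; exact hs, zpow_zero, div_one] at h0
  obtain ⟨v, hv, hv0, hgv⟩ := meet hw.1 (fun a v => T_Pr_zero (S.co s) ht a v) hA
    (Finset.univ.filter A).toList (fun a ha => by simpa using ha) (Finset.nodup_toList _) w (hr ▸ hw.2.1) hw0 hθ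
    (fun a ha hn => absurd (by simpa using ha) hn) fun a ha => by
      have ha1 : A a := by simpa using ha
      by_cases hp : S.pos a
      · exact Or.inl (hw.2.2 a ⟨hr ▸ ha1.1, hp⟩)
      · refine Or.inr (hw.2.2 _ ⟨hr ▸ ip_part ha1.1, by_contra fun hn => S.co_ne r (le_antisymm ?_
          (hr ▸ S.pos_simple i))⟩)
        rw [part_add ha1.1]
        exact add_nonpos (S.not_pos_iff.1 hn) (S.not_pos_iff.1 hp)
  have hs1 : S.Fx ρ s v := key h hw.1 hs hv.1 fun a k ha hsa hk => by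
    obtain ⟨h1, h2, h3, h4⟩ := hK a ha hsa
    obtain rfl : k = K a := S.co_inj (hk.trans h1.symm)
    rcases lt_trichotomy (e a) (e (K a)) with hlt | heq | hlt
    · exact Or.inl (hv.2 a ⟨ha, Or.inl ⟨hsa, hlt⟩⟩)
    · exact absurd (e.injective heq).symm h4
    · exact Or.inr (hv.2 _ ⟨h2, Or.inl ⟨h3, by rwa [hKK a ha hsa]⟩⟩)
  have hs2 : S.Fx ρ (S.ng s) v := key h hw.1 (by rw [S.ip_ng_right, hs, neg_zero]) hv.1 fun a k ha hsa hk => by
    have hsa' : S.ip s a = -1 := by rw [S.ip_ng_left] at hsa; omega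
    obtain ⟨p, hp⟩ : ∃ p, p = S.rf a r := ⟨_, rfl⟩
    have hp1 : S.ip r p = 1 := hp ▸ ip_part ha
    have hp2 : S.ip s p = 1 := by rw [hp, hpart a ha, hsa']; rfl
    obtain ⟨h1, h2, h3, h4⟩ := hK p hp1 hp2
    have hk2 : S.co k = S.co r - S.co (K p) := by
      rw [hk, h1, hp, co_part ha, S.co_ng]; module
    obtain rfl : k = S.rf (K p) r := S.co_inj (by rw [hk2, co_part h2])
    rcases lt_trichotomy (e p) (e (K p)) with hlt | heq | hlt
    · refine Or.inr (hv.2 _ ⟨ip_part h2, Or.inr (Or.inr ⟨by rw [hpart _ h2, h3], ?_⟩)⟩)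
      rw [part_part h2, hKK p hp1 hp2]
      exact not_lt.2 hlt.le
    · exact absurd (e.injective heq).symm h4
    · refine Or.inl (hv.2 a ⟨ha, Or.inr (Or.inr ⟨hsa', ?_⟩)⟩)
      rw [← hp]
      exact not_lt.2 hlt.le
  rw [T_fix hs1 hs2 ht] at hgv
  obtain rfl : θ = 1 := smul_left_injective ℂ hv0 (by simpa using hgv.symm)
  rwa [one_smul] at hθ

theorem Std.T_fix (h : S.Small ρ N) {i : Fin l} {c : F} {w : V} (hw : Std S ρ i c w) {a : Fin l → ℤ}
    (ha : ipv S.C (S.co (S.simple i)) a = 0) {t : F} (ht : t ≠ 0) : ρ (S.T a t) w = w := by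
  obtain ⟨j, hij⟩ := h.tab.nbr i
  let Λ : AddSubgroup (Fin l → ℤ) :=
    { carrier := {a | ρ (S.T a t) w = w}
      add_mem' := fun {a b} ha hb => by
        show ρ (S.T (a + b) t) w = w
        rw [S.T_add _ _ _ ht, rmul, hb, ha]
      zero_mem' := by
        show ρ (S.T 0 t) w = w
        rw [S.T_zero ht, map_one, Module.End.one_apply]
      neg_mem' := fun {a} ha => by
        show ρ (S.T (-a) t) w = w
        rw [S.T_neg _ ht]
        conv_lhs => rw [← (ha : ρ (S.T a t) w = w), rinv] }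
  have hroots : AddSubgroup.closure {v | ∃ s, S.ip (S.simple i) s = 0 ∧ v = S.co s} ≤ Λ :=
    (AddSubgroup.closure_le _).2 fun v hv => by
      obtain ⟨s, hs, rfl⟩ := hv
      exact hw.T_fix_root h hs ht
  have key : a = ∑ k, a k • (S.co (S.simple k) + S.C i k • S.co (S.simple j)) := by
    simp only [smul_add, Finset.sum_add_distrib, smul_smul, ← Finset.sum_smul]
    rw [show ∑ k, a k * S.C i k = 0 by
      rw [← ha, S.co_simple, S.ipv_single_left]
      exact Finset.sum_congr rfl fun k _ => mul_comm _ _, zero_smul, add_zero]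
    simp only [S.co_simple]
    exact funext fun m => by simp [Finset.sum_apply, Pi.single_apply]
  exact (key ▸ sum_mem fun k _ => zsmul_mem (hroots (h.tab.span i j hij k)) _ : a ∈ Λ)

/-- Orthogonal to all the vectors `e` of `α` means fixed by `-α`. -/
theorem opp_fix (h : S.Small ρ N) (H : Herm ρ) {i : Fin l} {x : V} (hx : x ∈ S.VU ρ)
    (hort : ∀ c w, Std S ρ i c w → H.B (S.evec ρ i w) x = 0) : S.Fx ρ (S.ng (S.simple i)) x := by
  obtain ⟨y, hy⟩ : ∃ y, y = ρ (S.nn (S.simple i) 1)⁻¹ x := ⟨_, rfl⟩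
  have hye : y ∈ S.FixS ρ (S.Exc i) := hy ▸ n_inv_exc (FixS_anti (fun a ha => ha.1) hx)
  have hyf : S.Fx ρ (S.simple i) y := by
    intro t
    rw [← sum_Pr ρ (S.x_add (S.simple i)) y, map_sum]
    refine Finset.sum_congr rfl fun c _ => ?_
    rcases eq_or_ne c 0 with rfl | hc
    · exact (mem_Ev_zero ρ).1 (Pr_mem ρ (S.x_add (S.simple i)) 0 y) t
    obtain ⟨w, hw⟩ : ∃ w, w = Pr ρ (S.x (S.simple i)) c y := ⟨_, rfl⟩
    have h1 := hort c w (hw ▸ Std.of_exc hc hye)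
    rw [evec, H.Pr_adjoint (S.x_add (S.simple i)), Pr_self ρ (S.x_add (S.simple i))
      (S.fx_iff.1 (hx _ (S.pos_simple i))), H.inv_left, ← hy] at h1
    have h2 : H.B w w = 0 := by
      nth_rewrite 2 [hw]
      rw [← H.Pr_adjoint (S.x_add (S.simple i)), Pr_self ρ (S.x_add (S.simple i))
        (hw ▸ Pr_mem ρ (S.x_add (S.simple i)) c y)]
      exact h1
    rw [← hw, H.eq_zero h2, map_zero]
  have := n_Fx (S.simple i) hyf
  rwa [S.rf_self, hy, rinv'] at this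

theorem Std.T_evec_orth (h : S.Small ρ N) {i : Fin l} {c : F} {w : V} (hw : Std S ρ i c w) {a : Fin l → ℤ}
    (ha : ipv S.C (S.co (S.simple i)) a = 0) {t : F} (ht : t ≠ 0) :
    ρ (S.T a t) (S.evec ρ i w) = S.evec ρ i w := by
  have := T_evec_comm (S := S) (ρ := ρ) i a ht w
  rwa [hw.T_fix h ha ht, ha, zero_smul, sub_zero, eq_comm] at this

theorem Std.T_evec (h : S.Small ρ N) (H : Herm ρ) {i : Fin l} {c : F} {w : V} (hw : Std S ρ i c w)
    (a : Fin l → ℤ) {t : F} (ht : t ≠ 0) : ρ (S.T a t) (S.evec ρ i w) = S.evec ρ i w := by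
  obtain ⟨j, hij⟩ := h.tab.nbr i
  obtain ⟨e, he⟩ : ∃ e, e = S.evec ρ i w := ⟨_, rfl⟩
  rw [← he]
  obtain ⟨k, hki, hkj, hk⟩ := h.tab.third i j hij
  obtain ⟨b, hbj, hbi⟩ : ∃ b, ipv S.C (S.co (S.simple j)) b = 0 ∧ ipv S.C (S.co (S.simple i)) b = -1 := by
    rcases hk with ⟨h1, h2⟩ | ⟨h1, h2⟩
    · exact ⟨S.co (S.simple k), (S.ip_simple_simple j k).trans h2, (S.ip_simple_simple i k).trans h1⟩
    · refine ⟨S.co (S.simple j) + (2 : ℤ) • S.co (S.simple k), ?_, ?_⟩ <;> rw [S.ipv_add_right, S.ipv_smul_right]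
      · change S.ip _ _ + 2 * S.ip _ _ = 0
        rw [S.ip_self, S.ip_simple_simple, h1]; rfl
      · change S.ip _ _ + 2 * S.ip _ _ = -1
        rw [S.ip_simple_simple, S.ip_simple_simple, h2, hij]; rfl
  have hαβ : ipv S.C (S.co (S.simple i)) (S.co (S.simple j)) = -1 := (S.ip_simple_simple i j).trans hij
  have hKK : ρ (S.T (S.co (S.simple j)) t) e = ρ (S.T b t) e := by
    conv_rhs => rw [show b = S.co (S.simple j) + (b - S.co (S.simple j)) by module, S.T_add _ _ _ ht, rmul,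
      he, hw.T_evec_orth h (by rw [S.ipv_sub_right, hbi, hαβ]; rfl) ht, ← he]
  have hroot : ρ (S.T (S.co (S.simple j)) t) e = e := by
    have heU : e ∈ S.VU ρ := he ▸ hw.evec_mem h
    obtain ⟨x, hx⟩ : ∃ x, x = ρ (S.T (S.co (S.simple j)) t) e - e := ⟨_, rfl⟩
    have hxU : x ∈ S.VU ρ := hx ▸ Submodule.sub_mem _ (T_FixS _ ht heU) heU
    have hxn : S.Fx ρ (S.ng (S.simple j)) x := opp_fix h H hxU fun c' w' hw' => by
      rw [hx, map_sub, hKK, H.inv_right, T_inv ht, hw'.T_evec_orth h hbj (inv_ne_zero ht), sub_self]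
    have h0 : H.B x x = 0 := by
      nth_rewrite 2 [hx]
      rw [map_sub, H.inv_right, T_inv ht,
        Sys.T_fix (hxU _ (S.pos_simple j)) hxn (inv_ne_zero ht), sub_self]
    exact sub_eq_zero.1 (hx ▸ H.eq_zero h0)
  let Λ : AddSubgroup (Fin l → ℤ) :=
    { carrier := {a | ρ (S.T a t) e = e}
      add_mem' := fun {a b} ha hb => by
        show ρ (S.T (a + b) t) e = e
        rw [S.T_add _ _ _ ht, rmul, hb, ha]
      zero_mem' := by
        show ρ (S.T 0 t) e = e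
        rw [S.T_zero ht, map_one, Module.End.one_apply]
      neg_mem' := fun {a} ha => by
        show ρ (S.T (-a) t) e = e
        rw [S.T_neg _ ht]
        conv_lhs => rw [← (ha : ρ (S.T a t) e = e), rinv] }
  have key : a = (a + ipv S.C (S.co (S.simple i)) a • S.co (S.simple j)) -
      ipv S.C (S.co (S.simple i)) a • S.co (S.simple j) := by module
  have h1 : a + ipv S.C (S.co (S.simple i)) a • S.co (S.simple j) ∈ Λ := by
    show ρ (S.T _ t) e = e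
    rw [he, hw.T_evec_orth h (by rw [S.ipv_add_right, S.ipv_smul_right, hαβ]; ring) ht]
  exact (key ▸ sub_mem h1 (zsmul_mem (show _ ∈ Λ from hroot) _) : a ∈ Λ)

theorem Std.evec_span (h : S.Small ρ N) (H : Herm ρ) {i : Fin l} {c c' : F} {w w' : V} (hw : Std S ρ i c w)
    (hw' : Std S ρ i c' w') (hw0 : w' ≠ 0) : ∃ a : ℂ, S.evec ρ i w = a • S.evec ρ i w' := by
  obtain ⟨j, hij⟩ := h.tab.nbr i
  have ht : c' / c ≠ 0 := div_ne_zero hw'.1 hw.1
  have h1 := hw.T_mem (S.co (S.simple j)) ht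
  have h3 : ipv S.C (S.co (S.simple j)) (S.co (S.simple i)) = -1 := by
    rw [S.ipv_comm]
    exact (S.ip_simple_simple i j).trans hij
  rw [h3, zpow_neg_one, div_inv_eq_mul, mul_div_cancel₀ _ hw.1] at h1
  obtain ⟨a, ha⟩ := line_span h hw'.1 (half_posHalf i) hw'.2 hw0 h1.2
  refine ⟨a, ?_⟩
  have h2 := T_evec_comm (S := S) (ρ := ρ) i (S.co (S.simple j)) ht w
  rw [hw.T_evec h H _ ht, ha, evec, map_smul, map_smul] at h2
  exact h2.symm

end Sys

end Cfsg.Agent.MinRep
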