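import Cfsg.Agent.Lib.MinRep.Sys

/-
Root subgroups acting on a representation.

* `Fx`, `FixS`: vectors fixed by root subgroups; `x_Ev`, `shift`, `comm_fix`, `n_Ev`, `T_Ev`, `fix_of_ng`.
* `decomp`: a component for a root `a` of the Heisenberg group of `r` is a translate of a fixed one;
  `pow_le`, `le_mul_fix`, `exists_fix`.
-/

set_option autoImplicit false
set_option linter.unusedSectionVars false

namespace Cfsg.Agent.MinRep

open Module

variable {G : Type*} [Group G] {F : Type*} [Field F] [Fintype F] {Φ : Type*} {l : ℕ} (S : Sys G F Φ l)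
  {V : Type*} [AddCommGroup V] [Module ℂ V] (ρ : Representation ℂ G V)

namespace Sys

/-- Fixed by the root subgroup of `r`. -/
def Fx (r : Φ) (v : V) : Prop := ∀ t, ρ (S.x r t) v = v

/-- The space of vectors fixed by the root subgroups in `A`. -/
def FixS (A : Φ → Prop) : Submodule ℂ V where
  carrier := {v | ∀ a, A a → S.Fx ρ a v}
  add_mem' {u v} hu hv a ha t := by rw [map_add, hu a ha t, hv a ha t]
  zero_mem' a _ t := map_zero _
  smul_mem' c v hv a ha t := by rw [map_smul, hv a ha t]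

variable {S ρ}

theorem mem_FixS {A : Φ → Prop} {v : V} : v ∈ S.FixS ρ A ↔ ∀ a, A a → S.Fx ρ a v := Iff.rfl

theorem FixS_anti {A B : Φ → Prop} (h : ∀ a, A a → B a) : S.FixS ρ B ≤ S.FixS ρ A := fun _ hv a ha => hv a (h a ha)

variable (S) in
theorem fx_iff {r : Φ} {v : V} : S.Fx ρ r v ↔ v ∈ Ev ρ (S.x r) 0 := (mem_Ev_zero ρ).symm

theorem Fx.smul {r : Φ} {v : V} (h : S.Fx ρ r v) (a : ℂ) : S.Fx ρ r (a • v) := fun t => by rw [map_smul, h t]

/-- The line of `v` is invariant under the root subgroup of `r`. -/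
def Stab (S : Sys G F Φ l) (ρ : Representation ℂ G V) (r : Φ) (v : V) : Prop :=
  ∀ t, ∃ a : ℂ, ρ (S.x r t) v = a • v

theorem stab_of_Ev {r : Φ} {c : F} {v : V} (h : v ∈ Ev ρ (S.x r) c) : Stab S ρ r v := fun t => ⟨_, h t⟩

theorem Fx.stab {r : Φ} {v : V} (h : S.Fx ρ r v) : Stab S ρ r v := fun t => ⟨1, by rw [h t, one_smul]⟩

theorem x_Ev {r s : Φ} (h1 : s ≠ S.ng r) (h2 : S.ip r s ≠ -1) {c : F} {v : V} (hv : v ∈ Ev ρ (S.x r) c) (u : F) :
    ρ (S.x s u) v ∈ Ev ρ (S.x r) c := fun t => by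
  rw [← rmul, S.comm r s h1 h2, rmul, hv t, map_smul]

theorem x_Fx {r s : Φ} (h1 : s ≠ S.ng r) (h2 : S.ip r s ≠ -1) {v : V} (hv : S.Fx ρ r v) (u : F) :
    S.Fx ρ r (ρ (S.x s u) v) := S.fx_iff.2 (x_Ev h1 h2 (S.fx_iff.1 hv) u)

theorem shift {r s k : Φ} (hk : S.co k = S.co r + S.co s) :
    ∃ e : F, e ≠ 0 ∧ ∀ {d c : F} {v : V}, v ∈ Ev ρ (S.x s) d → v ∈ Ev ρ (S.x k) c → ∀ t,
      ρ (S.x r t) v ∈ Ev ρ (S.x s) (d + e * t * c) := by
  obtain ⟨e, he, h⟩ := S.comm1 r s k hk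
  refine ⟨-e, neg_ne_zero.2 he, fun {d c v} hd hc t u => ?_⟩
  have hrs := S.ip_of_add hk
  have hkr : S.ip k r = 1 := by rw [S.ip_comm, S.ip_add hk, S.ip_self, hrs]; rfl
  have h1 : S.x s u * S.x r t = S.x k (-(e * t * u)) * (S.x r t * S.x s u) := by
    rw [h t u, ← mul_assoc, ← mul_assoc, ← S.x_add, neg_add_cancel, S.x_zero, one_mul]
  have hkc := x_Ev (S.ne_ng_of_ip (by omega) : r ≠ S.ng k) (by omega) hc t
  rw [← rmul, h1, rmul, rmul, hd u, map_smul, map_smul, hkc, smul_smul, ← AddChar.map_add_eq_mul]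
  congr 2
  ring

theorem Fx_shift {r s k : Φ} (hk : S.co k = S.co r + S.co s) {v : V} (hs : S.Fx ρ s v) (hv : S.Fx ρ k v) (t : F) :
    S.Fx ρ s (ρ (S.x r t) v) := by
  obtain ⟨e, -, h⟩ := shift (S := S) (ρ := ρ) hk
  have := h (S.fx_iff.1 hs) (S.fx_iff.1 hv) t
  rw [mul_zero, add_zero] at this
  exact S.fx_iff.2 this

theorem Fx_x {r s : Φ} {v : V} (hs : S.Fx ρ s v) (h1 : s ≠ S.ng r)
    (h2 : ∀ k, S.co k = S.co r + S.co s → S.Fx ρ k v) (t : F) : S.Fx ρ s (ρ (S.x r t) v) := by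
  by_cases hip : S.ip r s = -1
  · obtain ⟨k, hk⟩ := S.sum r s hip
    exact Fx_shift hk hs (h2 k hk) t
  · refine x_Fx (fun e => h1 (by rw [e, S.ng_ng])) (by rwa [S.ip_comm]) hs t

theorem comm_fix {r s k : Φ} (hk : S.co k = S.co r + S.co s) {v : V} (hr : Stab S ρ r v) (hs : Stab S ρ s v) :
    S.Fx ρ k v := fun w => by
  rcases eq_or_ne v 0 with rfl | hv
  · exact map_zero _
  obtain ⟨e, he, h⟩ := S.comm1 r s k hk
  obtain ⟨a, ha⟩ := hr 1
  obtain ⟨b, hb⟩ := hs (w / e)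
  have h1 := congrArg (fun g => ρ g v) (h 1 (w / e))
  simp only [rmul, ha, hb, map_smul, smul_smul, mul_one, show e * (w / e) = w by field_simp] at h1
  have hab : a * b ≠ 0 := by
    intro h0
    rcases mul_eq_zero.1 h0 with h0 | h0
    · exact hv (rinj ρ (S.x r 1) (by rw [ha, h0, zero_smul, map_zero]))
    · exact hv (rinj ρ (S.x s (w / e)) (by rw [hb, h0, zero_smul, map_zero]))
  rw [mul_comm b a] at h1
  exact ((smul_right_injective V hab) h1).symm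

theorem n_Ev (r : Φ) {s : Φ} {c : F} {v : V} (hv : v ∈ Ev ρ (S.x s) c) :
    ρ (S.nn r 1) v ∈ Ev ρ (S.x (S.rf r s)) (c / S.η r s) :=
  Ev_comm ρ (S.η_ne r s) (S.conj' r s) hv

theorem n_inv_Ev (r : Φ) {s : Φ} {c : F} {v : V} (hv : v ∈ Ev ρ (S.x s) c) :
    ρ (S.nn r 1)⁻¹ v ∈ Ev ρ (S.x (S.rf r s)) (c / (S.η r (S.rf r s))⁻¹) :=
  Ev_comm ρ (inv_ne_zero (S.η_ne _ _)) (S.inv_conj r s) hv

theorem n_Fx (r : Φ) {s : Φ} {v : V} (hv : S.Fx ρ s v) : S.Fx ρ (S.rf r s) (ρ (S.nn r 1) v) :=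
  S.fx_iff.2 (by simpa using n_Ev r (S.fx_iff.1 hv))

theorem n_inv_Fx (r : Φ) {s : Φ} {v : V} (hv : S.Fx ρ s v) : S.Fx ρ (S.rf r s) (ρ (S.nn r 1)⁻¹ v) :=
  S.fx_iff.2 (by simpa using n_inv_Ev r (S.fx_iff.1 hv))

theorem T_Ev (a : Fin l → ℤ) {t : F} (ht : t ≠ 0) {s : Φ} {c : F} {v : V} (hv : v ∈ Ev ρ (S.x s) c) :
    ρ (S.T a t) v ∈ Ev ρ (S.x s) (c / t ^ ipv S.C a (S.co s)) :=
  Ev_comm ρ (zpow_ne_zero _ ht) (fun u => S.T_conj a s t u ht) hv

theorem T_Fx (a : Fin l → ℤ) {t : F} (ht : t ≠ 0) {s : Φ} {v : V} (hv : S.Fx ρ s v) :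
    S.Fx ρ s (ρ (S.T a t) v) :=
  S.fx_iff.2 (by simpa using T_Ev a ht (S.fx_iff.1 hv))

theorem nn_fix {r : Φ} {v : V} (h : S.Fx ρ r v) (h' : S.Fx ρ (S.ng r) v) (t : F) : ρ (S.nn r t) v = v := by
  rw [nn, nW, rmul, rmul, h, h', h]

theorem T_fix {r : Φ} {v : V} (h : S.Fx ρ r v) (h' : S.Fx ρ (S.ng r) v) {t : F} (ht : t ≠ 0) :
    ρ (S.T (S.co r) t) v = v := by
  rw [S.T_root r t ht, rmul]
  change ρ (S.nn r t) (ρ (S.nn r (-1)) v) = v
  rw [nn_fix h h', nn_fix h h']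

/-! ### The Heisenberg group of a root -/

theorem co_part {r a : Φ} (h : S.ip r a = 1) : S.co (S.rf a r) = S.co r - S.co a :=
  S.rf_sub (by rw [S.ip_comm, h])

theorem ip_part {r a : Φ} (h : S.ip r a = 1) : S.ip r (S.rf a r) = 1 := by
  rw [S.ip_sub (co_part h), S.ip_self, h]; rfl

theorem part_add {r a : Φ} (h : S.ip r a = 1) : S.co r = S.co (S.rf a r) + S.co a := by
  rw [co_part h, sub_add_cancel]

theorem part_part {r a : Φ} (h : S.ip r a = 1) : S.rf (S.rf a r) r = a := S.co_inj (by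
  rw [co_part (ip_part h), co_part h, sub_sub_cancel])

theorem part_ne {r a : Φ} (h : S.ip r a = 1) : S.rf a r ≠ a := fun e => by
  have := S.ip_of_add (part_add h)
  rw [e, S.ip_self] at this
  omega

theorem eq_part {r a b : Φ} (ha : S.ip r a = 1) (hb : S.ip r b = 1) (h : S.ip a b = -1) : b = S.rf a r := by
  obtain ⟨k, hk⟩ := S.sum a b h
  obtain rfl := S.eq_of_ip_two (show S.ip r k = 2 by rw [S.ip_add hk, ha, hb]; rfl)
  exact S.co_inj (by rw [co_part ha, hk, add_sub_cancel_left])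

theorem ne_ng_heis {r a b : Φ} (ha : S.ip r a = 1) (hb : S.ip r b = 1) : b ≠ S.ng a := fun e => by
  rw [e, S.ip_ng_right, ha] at hb
  omega

theorem x_Ev_heis {r a b : Φ} (ha : S.ip r a = 1) (hb : S.ip r b = 1) (h : b ≠ S.rf a r) {c : F} {v : V}
    (hv : v ∈ Ev ρ (S.x a) c) (u : F) : ρ (S.x b u) v ∈ Ev ρ (S.x a) c :=
  x_Ev (ne_ng_heis ha hb) (fun e => h (eq_part ha hb e)) hv u

theorem x_Ev_self {r a : Φ} (ha : S.ip r a = 1) {c : F} {v : V} (hv : v ∈ Ev ρ (S.x r) c) (u : F) :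
    ρ (S.x a u) v ∈ Ev ρ (S.x r) c :=
  x_Ev (S.ne_ng_of_ip (by omega)) (by omega) hv u

/-- A translate by the partner of `a` moves the `a`-component to `0`. -/
theorem decomp {r a : Φ} {c : F} (hc : c ≠ 0) (ha : S.ip r a = 1) :
    ∃ τ : F → F, Function.Bijective τ ∧ ∀ (d : F) {v : V}, v ∈ Ev ρ (S.x r) c →
      v ∈ Ev ρ (S.x a) d → S.Fx ρ a (ρ (S.x (S.rf a r) (τ d)) v) := by
  obtain ⟨e, he, h⟩ := shift (S := S) (ρ := ρ) (part_add ha)
  refine ⟨fun d => -d / (e * c), ⟨fun x y hxy => ?_, fun y => ⟨-(y * (e * c)), ?_⟩⟩, fun d v hr hv => ?_⟩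
  · simpa [div_left_inj' (mul_ne_zero he hc)] using hxy
  · field_simp
  · have := h hv hr (-d / (e * c))
    rw [show d + e * (-d / (e * c)) * c = 0 by field_simp; ring] at this
    exact S.fx_iff.2 this

/-- Invariance under a root subgroup. -/
def Inv (S : Sys G F Φ l) (ρ : Representation ℂ G V) (r : Φ) (X : Submodule ℂ V) : Prop :=
  ∀ t, ∀ v ∈ X, ρ (S.x r t) v ∈ X

theorem Inv.inf {r : Φ} {X Y : Submodule ℂ V} (hX : Inv S ρ r X) (hY : Inv S ρ r Y) : Inv S ρ r (X ⊓ Y) :=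
  fun t v hv => ⟨hX t v hv.1, hY t v hv.2⟩

theorem inv_Fix_heis {r a b : Φ} (ha : S.ip r a = 1) (hb : S.ip r b = 1) (h : b ≠ S.rf a r) :
    Inv S ρ b (S.FixS ρ (· = a)) := fun t v hv x hx => by
  subst hx
  exact S.fx_iff.2 (x_Ev_heis ha hb h (S.fx_iff.1 (hv x rfl)) t)

variable [FiniteDimensional ℂ V]

theorem mul_fix_le {r a : Φ} {c : F} (hc : c ≠ 0) (ha : S.ip r a = 1) {X : Submodule ℂ V}
    (hX : X ≤ Ev ρ (S.x r) c) (hinv : Inv S ρ (S.rf a r) X) :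
    Fintype.card F * finrank ℂ (X ⊓ S.FixS ρ (· = a) : Submodule ℂ V) ≤ finrank ℂ X := by
  classical
  obtain ⟨e, he, h⟩ := shift (S := S) (ρ := ρ) (part_add ha)
  let E : F → Submodule ℂ V := fun d =>
    (X ⊓ S.FixS ρ (· = a) : Submodule ℂ V).map (ρ (S.x (S.rf a r) (d / (e * c))))
  have hE : ∀ d, E d ≤ X ⊓ Ev ρ (S.x a) d := by
    rintro d _ ⟨v, ⟨hv, hva⟩, rfl⟩
    refine ⟨hinv _ v hv, ?_⟩
    have := h (S.fx_iff.1 (hva a rfl)) (hX hv) (d / (e * c))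
    rwa [show 0 + e * (d / (e * c)) * c = d by field_simp; ring] at this
  refine le_trans (le_of_eq ?_) (sum_finrank_le ρ (S.x_add a) X E hE)
  rw [Finset.sum_congr rfl fun d _ => (Submodule.equivMapOfInjective _ (rinj ρ _) _).finrank_eq.symm,
    Finset.sum_const, Finset.card_univ, smul_eq_mul]

theorem le_mul_fix {r a : Φ} {c : F} (hc : c ≠ 0) (ha : S.ip r a = 1) {X : Submodule ℂ V}
    (hX : X ≤ Ev ρ (S.x r) c) (hinv : Inv S ρ a X) (hinv' : Inv S ρ (S.rf a r) X) :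
    finrank ℂ X ≤ Fintype.card F * finrank ℂ (X ⊓ S.FixS ρ (· = a) : Submodule ℂ V) := by
  classical
  obtain ⟨τ, -, hτ⟩ := decomp (S := S) (ρ := ρ) hc ha
  let Ψ : X →ₗ[ℂ] (F → (X ⊓ S.FixS ρ (· = a) : Submodule ℂ V)) :=
    LinearMap.pi fun d => LinearMap.codRestrict _
      ((ρ (S.x (S.rf a r) (τ d))) ∘ₗ Pr ρ (S.x a) d ∘ₗ X.subtype) fun v => by
      have h1 : Pr ρ (S.x a) d v ∈ X := Pr_mapsTo ρ (fun t => hinv t) v.2
      refine ⟨hinv' _ _ h1, fun b hb => ?_⟩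
      subst hb
      exact hτ d (hX h1) (Pr_mem ρ (S.x_add b) d _)
  have hinj : Function.Injective Ψ := LinearMap.ker_eq_bot.1 (LinearMap.ker_eq_bot'.2 fun v hv => Subtype.ext (by
    rw [← sum_Pr ρ (S.x_add a) (v : V)]
    exact Finset.sum_eq_zero fun d _ => rinj ρ (S.x (S.rf a r) (τ d))
      ((congrArg Subtype.val (congrFun hv d)).trans (map_zero _).symm)))
  have h2 := LinearMap.finrank_le_finrank_of_injective hinj
  rwa [Module.finrank_pi_fintype, Finset.sum_const, Finset.card_univ, smul_eq_mul] at h2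

/-- A list of roots of the Heisenberg group of `r` without two partners. -/
def Good (S : Sys G F Φ l) (r : Φ) (L : List Φ) : Prop :=
  (∀ a ∈ L, S.ip r a = 1) ∧ L.Nodup ∧ ∀ a ∈ L, S.rf a r ∉ L

omit [Fintype F] [FiniteDimensional ℂ V] in
theorem Good.tail {r a : Φ} {L : List Φ} (h : Good S r (a :: L)) : Good S r L :=
  ⟨fun b hb => h.1 b (List.mem_cons_of_mem _ hb), (List.nodup_cons.1 h.2.1).2,
    fun b hb hp => h.2.2 b (List.mem_cons_of_mem _ hb) (List.mem_cons_of_mem _ hp)⟩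

omit [FiniteDimensional ℂ V] in
theorem FixS_cons (a : Φ) (L : List Φ) :
    S.FixS ρ (· ∈ a :: L) = S.FixS ρ (· = a) ⊓ S.FixS ρ (· ∈ L) := by
  ext v
  simp only [Submodule.mem_inf, mem_FixS, List.mem_cons]
  exact ⟨fun h => ⟨fun b hb => h b (Or.inl hb), fun b hb => h b (Or.inr hb)⟩,
    fun h b hb => hb.elim (h.1 b) (h.2 b)⟩

theorem pow_le {r : Φ} {c : F} (hc : c ≠ 0) : ∀ {L : List Φ}, Good S r L → ∀ {X : Submodule ℂ V},
    X ≤ Ev ρ (S.x r) c → (∀ a ∈ L, Inv S ρ (S.rf a r) X) →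
    Fintype.card F ^ L.length * finrank ℂ (X ⊓ S.FixS ρ (· ∈ L) : Submodule ℂ V) ≤ finrank ℂ X
  | [], _, X, _, _ => by
    rw [List.length_nil, pow_zero, one_mul]
    exact Submodule.finrank_mono inf_le_left
  | a :: L, hL, X, hX, hinv => by
    have ha := hL.1 a (List.mem_cons_self ..)
    obtain ⟨hanL, -⟩ := List.nodup_cons.1 hL.2.1
    have hinv' : ∀ b ∈ L, Inv S ρ (S.rf b r) (X ⊓ S.FixS ρ (· = a)) := fun b hb => by
      have hbr := hL.1 b (List.mem_cons_of_mem _ hb)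
      refine (hinv b (List.mem_cons_of_mem _ hb)).inf (inv_Fix_heis ha (ip_part hbr) fun e => hanL ?_)
      rwa [← part_part ha, ← e, part_part hbr]
    have h1 := pow_le hc hL.tail (X := X ⊓ S.FixS ρ (· = a)) (inf_le_left.trans hX) hinv'
    rw [inf_assoc, ← FixS_cons] at h1
    rw [List.length_cons, pow_succ', mul_assoc]
    exact le_trans (Nat.mul_le_mul_left _ h1) (mul_fix_le hc ha hX (hinv a (List.mem_cons_self ..)))

theorem exists_fix {r : Φ} {c : F} (hc : c ≠ 0) : ∀ {L : List Φ}, Good S r L → ∀ {X : Submodule ℂ V},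
    X ≤ Ev ρ (S.x r) c → (∀ a ∈ L, Inv S ρ a X ∧ Inv S ρ (S.rf a r) X) → X ≠ ⊥ →
    X ⊓ S.FixS ρ (· ∈ L) ≠ ⊥
  | [], _, X, _, _, hne => fun h => hne (le_bot_iff.1 (h ▸ le_inf le_rfl fun v _ a ha => absurd ha (by simp)))
  | a :: L, hL, X, hX, hinv, hne => by
    have ha := hL.1 a (List.mem_cons_self ..)
    obtain ⟨hanL, -⟩ := List.nodup_cons.1 hL.2.1
    have hanP := hL.2.2 a (List.mem_cons_self ..)
    rw [FixS_cons, ← inf_assoc]
    refine exists_fix hc hL.tail (inf_le_left.trans hX) (fun b hb => ?_) ?_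
    · have hbr := hL.1 b (List.mem_cons_of_mem _ hb)
      obtain ⟨hb1, hb2⟩ := hinv b (List.mem_cons_of_mem _ hb)
      exact ⟨hb1.inf (inv_Fix_heis ha hbr fun e => hanP (List.mem_cons_of_mem _ (e ▸ hb))),
        hb2.inf (inv_Fix_heis ha (ip_part hbr) fun e => hanL (by rwa [← part_part ha, ← e, part_part hbr]))⟩
    · obtain ⟨hi1, hi2⟩ := hinv a (List.mem_cons_self ..)
      have h2 := le_mul_fix hc ha hX hi1 hi2
      intro h0
      rw [h0, finrank_bot, mul_zero, Nat.le_zero, Submodule.finrank_eq_zero] at h2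
      exact hne h2

end Sys

end Cfsg.Agent.MinRep
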