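import Cfsg.Agent.Lib.MinRep.Eigen

/-
Groups with root subgroups indexed by a simply-laced root system given by coefficient vectors.

* `Sys`: the axioms (sums, commutators, the elements `n r`, the torus `T λ t`).
* `rf`: reflections; `n_conj`, `n_inv_conj`, `n_T`, `x_ng_eq`; `pos`, `pos_rf`, `exists_descend`.
-/

set_option autoImplicit false
set_option linter.unusedSectionVars false

namespace Cfsg.Agent.MinRep

open Matrix

/-- The bilinear form of an integer matrix. -/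
def ipv {l : ℕ} (C : Matrix (Fin l) (Fin l) ℤ) (u v : Fin l → ℤ) : ℤ := u ⬝ᵥ C *ᵥ v

/-- The element `x_r(t) x_{-r}(-1/t) x_r(t)`. -/
def nW {G : Type*} [Group G] {F : Type*} [Field F] {Φ : Type*} (x : Φ → F → G) (ng : Φ → Φ) (r : Φ) (t : F) : G :=
  x r t * x (ng r) (-t⁻¹) * x r t

/-- Root subgroups of a simply-laced type. -/
structure Sys (G : Type*) [Group G] (F : Type*) [Field F] (Φ : Type*) (l : ℕ) where
  C : Matrix (Fin l) (Fin l) ℤ
  C_symm : ∀ i j, C i j = C j i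
  co : Φ → Fin l → ℤ
  co_inj : Function.Injective co
  ng : Φ → Φ
  co_ng : ∀ r, co (ng r) = -co r
  simple : Fin l → Φ
  co_simple : ∀ i, co (simple i) = Pi.single i 1
  sgn : ∀ r, 0 ≤ co r ∨ co r ≤ 0
  self : ∀ r, ipv C (co r) (co r) = 2
  range : ∀ r s, s ≠ r → s ≠ ng r → -1 ≤ ipv C (co r) (co s) ∧ ipv C (co r) (co s) ≤ 1
  sum : ∀ r s, ipv C (co r) (co s) = -1 → ∃ k, co k = co r + co s
  x : Φ → F → G
  x_add : ∀ r t u, x r (t + u) = x r t * x r u
  gen : Subgroup.closure {g | ∃ r t, g = x r t} = ⊤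
  comm : ∀ r s, s ≠ ng r → ipv C (co r) (co s) ≠ -1 → ∀ t u, x r t * x s u = x s u * x r t
  comm1 : ∀ r s k, co k = co r + co s → ∃ e : F, e ≠ 0 ∧ ∀ t u, x r t * x s u = x k (e * t * u) * x s u * x r t
  η : Φ → Φ → F
  η_ne : ∀ r s, η r s ≠ 0
  η_ng : ∀ r s, η r s * η r (ng s) = 1
  conj : ∀ r s k, co k = co s - ipv C (co r) (co s) • co r → ∀ u,
    nW x ng r 1 * x s u = x k (η r s * u) * nW x ng r 1
  T : (Fin l → ℤ) → F → G
  T_add : ∀ a b t, t ≠ 0 → T (a + b) t = T a t * T b t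
  T_mul : ∀ a t u, t ≠ 0 → u ≠ 0 → T a (t * u) = T a t * T a u
  T_root : ∀ r t, t ≠ 0 → T (co r) t = nW x ng r t * nW x ng r (-1)
  T_conj : ∀ a s t u, t ≠ 0 → T a t * x s u = x s (t ^ ipv C a (co s) * u) * T a t

namespace Sys

variable {G : Type*} [Group G] {F : Type*} [Field F] {Φ : Type*} {l : ℕ} (S : Sys G F Φ l)

/-- The pairing of two roots. -/
def ip (r s : Φ) : ℤ := ipv S.C (S.co r) (S.co s)

theorem ipv_add_left (a b c : Fin l → ℤ) : ipv S.C (a + b) c = ipv S.C a c + ipv S.C b c := add_dotProduct _ _ _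

theorem ipv_add_right (a b c : Fin l → ℤ) : ipv S.C a (b + c) = ipv S.C a b + ipv S.C a c := by
  rw [ipv, mulVec_add, dotProduct_add]; rfl

theorem ipv_neg_left (a b : Fin l → ℤ) : ipv S.C (-a) b = -ipv S.C a b := neg_dotProduct _ _

theorem ipv_neg_right (a b : Fin l → ℤ) : ipv S.C a (-b) = -ipv S.C a b := by
  rw [ipv, mulVec_neg, dotProduct_neg]; rfl

theorem ipv_sub_left (a b c : Fin l → ℤ) : ipv S.C (a - b) c = ipv S.C a c - ipv S.C b c := sub_dotProduct _ _ _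

theorem ipv_sub_right (a b c : Fin l → ℤ) : ipv S.C a (b - c) = ipv S.C a b - ipv S.C a c := by
  rw [ipv, mulVec_sub, dotProduct_sub]; rfl

theorem ipv_smul_left (n : ℤ) (a b : Fin l → ℤ) : ipv S.C (n • a) b = n * ipv S.C a b := by
  rw [ipv, smul_dotProduct, smul_eq_mul]; rfl

theorem ipv_smul_right (n : ℤ) (a b : Fin l → ℤ) : ipv S.C a (n • b) = n * ipv S.C a b := by
  rw [ipv, mulVec_smul, dotProduct_smul, smul_eq_mul]; rfl

theorem ipv_comm (a b : Fin l → ℤ) : ipv S.C a b = ipv S.C b a := by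
  rw [ipv, ipv, dotProduct_mulVec, dotProduct_comm, ← mulVec_transpose]
  congr 2
  ext i j
  exact S.C_symm j i

theorem ipv_single_left (i : Fin l) (v : Fin l → ℤ) : ipv S.C (Pi.single i 1) v = (S.C *ᵥ v) i :=
  single_one_dotProduct i _

theorem ip_comm (r s : Φ) : S.ip r s = S.ip s r := S.ipv_comm _ _

theorem ip_self (r : Φ) : S.ip r r = 2 := S.self r

theorem ip_ng_left (r s : Φ) : S.ip (S.ng r) s = -S.ip r s := by rw [ip, S.co_ng, S.ipv_neg_left]; rfl

theorem ip_ng_right (r s : Φ) : S.ip r (S.ng s) = -S.ip r s := by rw [ip, S.co_ng, S.ipv_neg_right]; rfl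

theorem ip_add {r s k : Φ} (h : S.co k = S.co r + S.co s) (a : Φ) : S.ip a k = S.ip a r + S.ip a s := by
  rw [ip, h, S.ipv_add_right]; rfl

theorem ip_sub {r s k : Φ} (h : S.co k = S.co r - S.co s) (a : Φ) : S.ip a k = S.ip a r - S.ip a s := by
  rw [ip, h, S.ipv_sub_right]; rfl

theorem ng_ng (r : Φ) : S.ng (S.ng r) = r := S.co_inj (by rw [S.co_ng, S.co_ng, neg_neg])

theorem eq_of_ip_two {r s : Φ} (h : S.ip r s = 2) : s = r := by
  by_contra hs
  rcases eq_or_ne s (S.ng r) with rfl | hn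
  · rw [S.ip_ng_right, S.ip_self] at h; omega
  · have := (S.range r s hs hn).2
    change S.ip r s ≤ 1 at this
    omega

theorem eq_of_ip_neg_two {r s : Φ} (h : S.ip r s = -2) : s = S.ng r :=
  S.eq_of_ip_two (by rw [S.ip_ng_left, h]; rfl)

theorem ip_range {r s : Φ} (h₁ : s ≠ r) (h₂ : s ≠ S.ng r) : -1 ≤ S.ip r s ∧ S.ip r s ≤ 1 := S.range r s h₁ h₂

theorem ip_ge (r s : Φ) : -2 ≤ S.ip r s ∧ S.ip r s ≤ 2 := by
  rcases eq_or_ne s r with rfl | h₁
  · rw [S.ip_self]; omega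
  rcases eq_or_ne s (S.ng r) with rfl | h₂
  · rw [S.ip_ng_right, S.ip_self]; omega
  have := S.ip_range h₁ h₂
  omega

theorem ne_ng_of_ip {r s : Φ} (h : S.ip r s ≠ -2) : s ≠ S.ng r := fun e => h (by rw [e, S.ip_ng_right, S.ip_self])

theorem exists_sub {r s : Φ} (h : S.ip r s = 1) : ∃ k, S.co k = S.co r - S.co s := by
  obtain ⟨k, hk⟩ := S.sum r (S.ng s) (by change S.ip r (S.ng s) = -1; rw [S.ip_ng_right, h])
  exact ⟨k, by rw [hk, S.co_ng, sub_eq_add_neg]⟩

theorem ip_of_add {r s k : Φ} (h : S.co k = S.co r + S.co s) : S.ip r s = -1 := by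
  have h1 := S.ip_self k
  rw [S.ip_add h, S.ip_comm k r, S.ip_comm k s, S.ip_add h, S.ip_add h, S.ip_self, S.ip_self, S.ip_comm s r] at h1
  omega

theorem exists_rf (r s : Φ) : ∃ k, S.co k = S.co s - S.ip r s • S.co r := by
  rcases eq_or_ne s r with rfl | h₁
  · exact ⟨S.ng s, by rw [S.co_ng, S.ip_self]; module⟩
  rcases eq_or_ne s (S.ng r) with rfl | h₂
  · exact ⟨r, by rw [S.co_ng, S.ip_ng_right, S.ip_self]; module⟩
  have h := S.ip_range h₁ h₂
  rcases (by omega : S.ip r s = -1 ∨ S.ip r s = 0 ∨ S.ip r s = 1) with e | e | e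
  · obtain ⟨k, hk⟩ := S.sum r s e
    exact ⟨k, by rw [hk, e]; module⟩
  · exact ⟨s, by rw [e]; module⟩
  · obtain ⟨k, hk⟩ := S.exists_sub (by rw [S.ip_comm, e] : S.ip s r = 1)
    exact ⟨k, by rw [hk, e, one_smul]⟩

/-- The reflection in `r`. -/
noncomputable def rf (r s : Φ) : Φ := (S.exists_rf r s).choose

theorem co_rf (r s : Φ) : S.co (S.rf r s) = S.co s - S.ip r s • S.co r := (S.exists_rf r s).choose_spec

theorem ip_rf_right (a r s : Φ) : S.ip a (S.rf r s) = S.ip a s - S.ip r s * S.ip a r := by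
  rw [ip, S.co_rf, S.ipv_sub_right, S.ipv_smul_right]; rfl

theorem ip_rf_self (r s : Φ) : S.ip r (S.rf r s) = -S.ip r s := by
  rw [S.ip_rf_right, S.ip_self]; ring

theorem rf_rf (r s : Φ) : S.rf r (S.rf r s) = s := S.co_inj (by
  rw [S.co_rf, S.ip_rf_self, S.co_rf]; module)

theorem ip_rf (r a b : Φ) : S.ip (S.rf r a) (S.rf r b) = S.ip a b := by
  rw [S.ip_rf_right, S.ip_comm _ b, S.ip_comm _ r, S.ip_rf_self, S.ip_rf_right, S.ip_comm b a, S.ip_comm b r]
  ring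

theorem rf_inj (r : Φ) : Function.Injective (S.rf r) := fun a b h => by rw [← S.rf_rf r a, h, S.rf_rf]

theorem rf_eq {r s : Φ} (h : S.ip r s = 0) : S.rf r s = s := S.co_inj (by rw [S.co_rf, h]; module)

theorem rf_self (r : Φ) : S.rf r r = S.ng r := S.co_inj (by rw [S.co_rf, S.ip_self, S.co_ng]; module)

theorem rf_ng (r s : Φ) : S.rf r (S.ng s) = S.ng (S.rf r s) :=
  S.co_inj (by rw [S.co_rf, S.co_ng, S.co_ng, S.co_rf, S.ip_ng_right]; module)

theorem rf_add {r s : Φ} (h : S.ip r s = -1) : S.co (S.rf r s) = S.co r + S.co s := by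
  rw [S.co_rf, h]; module

theorem rf_sub {r s : Φ} (h : S.ip r s = 1) : S.co (S.rf r s) = S.co s - S.co r := by
  rw [S.co_rf, h, one_smul]

/-! ### Positive roots -/

/-- The positive roots. -/
def pos (r : Φ) : Prop := 0 ≤ S.co r

theorem co_ne (r : Φ) : S.co r ≠ 0 := fun h => by
  have := S.self r
  rw [h] at this
  simp [ipv] at this

theorem not_pos_iff {r : Φ} : ¬ S.pos r ↔ S.co r ≤ 0 :=
  ⟨fun h => (S.sgn r).resolve_left h, fun h h' => S.co_ne r (le_antisymm h h')⟩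

theorem pos_ng_iff {r : Φ} : S.pos (S.ng r) ↔ ¬ S.pos r := by
  rw [S.not_pos_iff, pos, S.co_ng, Pi.le_def, Pi.le_def]
  exact forall_congr' fun i => by simp

theorem pos_simple (i : Fin l) : S.pos (S.simple i) := by
  rw [pos, S.co_simple]
  exact fun j => by rcases eq_or_ne j i with rfl | h <;> simp [*]

theorem pos_of_add {r s k : Φ} (h : S.co k = S.co r + S.co s) (hr : S.pos r) (hs : S.pos s) : S.pos k := by
  rw [pos, h]; exact add_nonneg hr hs

theorem simple_inj : Function.Injective S.simple := fun i j h => by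
  by_contra hne
  have := congrArg (fun r => S.co r i) h
  simp [S.co_simple, Pi.single_apply, hne] at this

theorem C_diag (i : Fin l) : S.C i i = 2 := by
  have h := S.self (S.simple i)
  rw [S.co_simple, S.ipv_single_left, mulVec_single_one] at h
  exact h

theorem ip_simple_simple (i j : Fin l) : S.ip (S.simple i) (S.simple j) = S.C i j := by
  rw [ip, S.co_simple, S.co_simple, S.ipv_single_left, mulVec_single_one]; rfl

theorem eq_simple_of {r : Φ} (hr : S.pos r) {i : Fin l} (h : ∀ j, j ≠ i → S.co r j = 0) : r = S.simple i := by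
  refine S.co_inj ?_
  have e : S.co r = S.co r i • Pi.single i 1 := funext fun j => by
    rcases eq_or_ne j i with rfl | hj
    · simp
    · simp [h j hj, hj]
  have h1 := S.self r
  rw [e, S.ipv_smul_left, S.ipv_smul_right, S.ipv_single_left, mulVec_single_one] at h1
  have h2 : S.co r i * S.co r i = 1 := by
    have := S.C_diag i
    change S.co r i * (S.co r i * S.C i i) = 2 at h1
    rw [this] at h1
    linarith
  have h3 : S.co r i = 1 := by
    rcases Int.eq_one_or_neg_one_of_mul_eq_one h2 with h3 | h3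
    · exact h3
    · have h4 : (0 : ℤ) ≤ S.co r i := hr i
      omega
  rw [e, h3, one_smul, S.co_simple]

theorem pos_rf {r : Φ} (hr : S.pos r) {i : Fin l} (h : r ≠ S.simple i) : S.pos (S.rf (S.simple i) r) := by
  obtain ⟨j, hj, hjr⟩ : ∃ j, j ≠ i ∧ S.co r j ≠ 0 := by
    by_contra! hh
    exact h (S.eq_simple_of hr hh)
  refine by_contra fun hn => ?_
  have h1 : S.co (S.rf (S.simple i) r) j ≤ 0 := S.not_pos_iff.1 hn j
  have h2 : (0 : ℤ) ≤ S.co r j := hr j
  rw [S.co_rf, S.co_simple] at h1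
  simp [hj] at h1
  omega

theorem pos_rf_iff {r : Φ} {i : Fin l} (h : r ≠ S.simple i) (h' : r ≠ S.ng (S.simple i)) :
    S.pos (S.rf (S.simple i) r) ↔ S.pos r := by
  refine ⟨fun hp => by_contra fun hn => ?_, fun hp => S.pos_rf hp h⟩
  have h1 := S.pos_rf (S.pos_ng_iff.2 hn) (i := i) (fun e => h' (by rw [← e, S.ng_ng]))
  rw [S.rf_ng] at h1
  exact S.pos_ng_iff.1 h1 hp

theorem exists_descend {r : Φ} (hr : S.pos r) (h : ∀ i, r ≠ S.simple i) :
    ∃ i, S.ip (S.simple i) r = 1 := by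
  have h1 : ∑ i, S.co r i * S.ip (S.simple i) r = 2 := by
    refine (Finset.sum_congr rfl fun i _ => ?_).trans (S.self r)
    rw [ip, S.co_simple, S.ipv_single_left]
  obtain ⟨i, -, hi⟩ := Finset.exists_ne_zero_of_sum_ne_zero
    (show ∑ i, max (S.co r i * S.ip (S.simple i) r) 0 ≠ 0 from fun h0 => by
      have := Finset.sum_le_sum fun i (_ : i ∈ Finset.univ) => le_max_left (S.co r i * S.ip (S.simple i) r) 0
      rw [h1, h0] at this
      omega)
  refine ⟨i, ?_⟩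
  have h2 : (0 : ℤ) ≤ S.co r i := hr i
  have h3 : 0 < S.co r i * S.ip (S.simple i) r := by omega
  have h4 : 0 < S.ip (S.simple i) r := by nlinarith
  have h5 := S.ip_range (h i) (fun e => by
    rw [e] at hr; exact S.pos_ng_iff.1 hr (S.pos_simple i))
  omega

/-! ### Elements -/

/-- `x_r(t) x_{-r}(-1/t) x_r(t)`. -/
def nn (r : Φ) (t : F) : G := nW S.x S.ng r t

theorem x_zero (r : Φ) : S.x r 0 = 1 :=
  mul_eq_left.1 (show S.x r 0 * S.x r 0 = S.x r 0 by rw [← S.x_add, add_zero])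

theorem x_inv (r : Φ) (t : F) : (S.x r t)⁻¹ = S.x r (-t) :=
  inv_eq_of_mul_eq_one_right (by rw [← S.x_add, add_neg_cancel, S.x_zero])

theorem nn_inv (r : Φ) (t : F) : (S.nn r t)⁻¹ = S.nn r (-t) := by
  simp [nn, nW, _root_.mul_inv_rev, S.x_inv, mul_assoc, inv_neg]

theorem conj' (r s : Φ) (u : F) : S.nn r 1 * S.x s u = S.x (S.rf r s) (S.η r s * u) * S.nn r 1 :=
  S.conj r s _ (S.co_rf r s) u

theorem inv_conj (r s : Φ) (u : F) :
    (S.nn r 1)⁻¹ * S.x s u = S.x (S.rf r s) ((S.η r (S.rf r s))⁻¹ * u) * (S.nn r 1)⁻¹ := by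
  have h := S.conj' r (S.rf r s) ((S.η r (S.rf r s))⁻¹ * u)
  rw [S.rf_rf, ← mul_assoc, mul_inv_cancel₀ (S.η_ne _ _), one_mul] at h
  rw [inv_mul_eq_iff_eq_mul, ← mul_assoc, h, mul_inv_cancel_right]

theorem T_one (a : Fin l → ℤ) : S.T a 1 = 1 := mul_eq_left.1
  (show S.T a 1 * S.T a 1 = S.T a 1 by rw [← S.T_mul a 1 1 one_ne_zero one_ne_zero, mul_one])

theorem T_zero {t : F} (ht : t ≠ 0) : S.T 0 t = 1 :=
  mul_eq_left.1 (show S.T 0 t * S.T 0 t = S.T 0 t by rw [← S.T_add 0 0 t ht, add_zero])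

theorem T_neg (a : Fin l → ℤ) {t : F} (ht : t ≠ 0) : S.T (-a) t = (S.T a t)⁻¹ :=
  eq_inv_of_mul_eq_one_left (by rw [← S.T_add _ _ _ ht, neg_add_cancel, S.T_zero ht])

theorem nn_eq (r : Φ) {t : F} (ht : t ≠ 0) : S.nn r t = S.T (S.co r) t * S.nn r 1 := by
  rw [S.T_root r t ht, mul_assoc]
  change S.nn r t = S.nn r t * (S.nn r (-1) * S.nn r 1)
  rw [← S.nn_inv, inv_mul_cancel, mul_one]

theorem nn_sq (r : Φ) : S.nn r 1 * S.nn r 1 = (S.T (S.co r) (-1))⁻¹ := by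
  have h1 := S.nn_eq r (neg_ne_zero.2 (one_ne_zero (α := F)))
  rw [← S.nn_inv] at h1
  refine eq_inv_of_mul_eq_one_left ?_
  calc S.nn r 1 * S.nn r 1 * S.T (S.co r) (-1)
      = S.nn r 1 * (S.nn r 1 * S.T (S.co r) (-1) * S.nn r 1) * (S.nn r 1)⁻¹ := by group
    _ = S.nn r 1 * (S.nn r 1 * (S.nn r 1)⁻¹) * (S.nn r 1)⁻¹ := by rw [mul_assoc (S.nn r 1) (S.T _ _), ← h1]
    _ = 1 := by group

theorem x_ng_eq (r : Φ) {u : F} (hu : u ≠ 0) :
    S.x (S.ng r) u = S.x r u⁻¹ * (S.T (S.co r) (-u⁻¹) * S.nn r 1) * S.x r u⁻¹ := by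
  rw [← S.nn_eq r (neg_ne_zero.2 (inv_ne_zero hu)), nn, nW]
  simp only [← mul_assoc, ← S.x_add, add_neg_cancel, S.x_zero, one_mul]
  rw [mul_assoc (S.x (S.ng r) _), ← S.x_add, neg_add_cancel, S.x_zero, mul_one]
  congr 1
  field_simp

theorem conj_nn (r s : Φ) (t : F) :
    S.nn r 1 * S.nn s t = S.nn (S.rf r s) (S.η r s * t) * S.nn r 1 := by
  have h : S.η r (S.ng s) * -t⁻¹ = -(S.η r s * t)⁻¹ := by
    rw [eq_inv_of_mul_eq_one_right (S.η_ng r s), mul_inv]; ring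
  simp only [nn, nW]
  rw [← S.rf_ng]
  have e1 := S.conj' r s t
  have e2 := S.conj' r (S.ng s) (-t⁻¹)
  rw [h] at e2
  calc S.nn r 1 * (S.x s t * S.x (S.ng s) (-t⁻¹) * S.x s t)
      = S.nn r 1 * S.x s t * S.x (S.ng s) (-t⁻¹) * S.x s t := by group
    _ = S.x (S.rf r s) (S.η r s * t) * (S.nn r 1 * S.x (S.ng s) (-t⁻¹)) * S.x s t := by rw [e1]; group
    _ = S.x (S.rf r s) (S.η r s * t) * S.x (S.rf r (S.ng s)) (-(S.η r s * t)⁻¹) * (S.nn r 1 * S.x s t) := by
        rw [e2]; group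
    _ = _ := by rw [e1]; simp only [nn, nW]; group

theorem n_T (r s : Φ) {t : F} (ht : t ≠ 0) :
    S.nn r 1 * S.T (S.co s) t = S.T (S.co (S.rf r s)) t * S.nn r 1 := by
  rw [S.T_root s t ht]
  change S.nn r 1 * (S.nn s t * S.nn s (-1)) = _
  rw [← mul_assoc, S.conj_nn, mul_assoc, S.conj_nn, ← mul_assoc]
  congr 1
  have hη := S.η_ne r s
  rw [S.nn_eq _ (mul_ne_zero hη ht), mul_neg_one, ← S.nn_inv, S.nn_eq _ hη, _root_.mul_inv_rev, mul_assoc,
    mul_inv_cancel_left, mul_comm, S.T_mul _ _ _ ht hη, mul_inv_cancel_right]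

end Sys

end Cfsg.Agent.MinRep
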